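import Cfsg.Agent.OddHalf.D8.Lam
import Cfsg.Agent.S0028

/-!
# ODD half, D8, type (E): the K-free core (helper821)

`H = C_G(z)`, `N = C_G(⟨t, z⟩)` or the stabiliser of `{t, t z}` in `H` (any group between them is allowed),
`F = O₂(H) = F*(H)`, `P ≤ C_G(⟨t, z⟩)` perfect and normalised by `N`, `R ≤ P` the largest
2-subgroup of `P` normalised by `N`. `Data.absurd`: contradiction to (TR).

`y_trick`: if `x` maps `t` to `t z` and centralises `z`, `k` centralises `t`, `z₁ = k z k⁻¹` commutes with `z` and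
`w = k⁻¹ z k` is `N`-conjugate to `x w x⁻¹`, then `t` is conjugate to `t z₁` in `C_G(z)`.
-/

set_option autoImplicit false
set_option linter.style.haveILetI false

namespace Cfsg.Agent.OddHalf.D8.TypeE

open Subgroup

variable {G : Type*} [Group G]

/-- **The y-trick** -/
theorem y_trick {t z x k n : G} (hxt : x * t * x⁻¹ = t * z) (hk : k * t = t * k)
    (hnt : n * t = t * n) (hnz : n * z = z * n)
    (hw : x * (k⁻¹ * z * k) * x⁻¹ = n * (k⁻¹ * z * k) * n⁻¹) :
    ∃ h : G, h * z = z * h ∧ h * t * h⁻¹ = t * (k * z * k⁻¹) := by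
  refine ⟨k * (n⁻¹ * x) * k⁻¹, ?_, ?_⟩
  · have e : k * (n⁻¹ * x) * k⁻¹ * z * (k * (n⁻¹ * x) * k⁻¹)⁻¹ = z := by
      calc k * (n⁻¹ * x) * k⁻¹ * z * (k * (n⁻¹ * x) * k⁻¹)⁻¹
          = k * n⁻¹ * (x * (k⁻¹ * z * k) * x⁻¹) * n * k⁻¹ := by group
        _ = z := by rw [hw]; group
    rw [mul_inv_eq_iff_eq_mul] at e
    exact e
  · have h1 : k⁻¹ * t * k = t := by
      calc k⁻¹ * t * k = k⁻¹ * (t * k) := by group
        _ = t := by rw [← hk]; group
    have h2 : n⁻¹ * (t * z) * n = t * z := by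
      calc n⁻¹ * (t * z) * n = n⁻¹ * t * (z * n) := by group
        _ = n⁻¹ * (t * n) * z := by rw [← hnz]; group
        _ = t * z := by rw [← hnt]; group
    calc k * (n⁻¹ * x) * k⁻¹ * t * (k * (n⁻¹ * x) * k⁻¹)⁻¹
        = k * (n⁻¹ * (x * (k⁻¹ * t * k) * x⁻¹) * n) * k⁻¹ := by group
      _ = k * (t * z) * k⁻¹ := by rw [h1, hxt, h2]
      _ = k * t * (z * k⁻¹) := by group
      _ = t * (k * z * k⁻¹) := by rw [hk]; group

/-- the y-trick if `x` can be chosen to centralise `w = k⁻¹ z k` -/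
theorem y_trick_one {t z x k : G} (hxt : x * t * x⁻¹ = t * z) (hk : k * t = t * k)
    (hw : x * (k⁻¹ * z * k) = k⁻¹ * z * k * x) :
    ∃ h : G, h * z = z * h ∧ h * t * h⁻¹ = t * (k * z * k⁻¹) := by
  refine y_trick (n := 1) hxt hk (by simp) (by simp) ?_
  rw [hw]; group

/-- The data of type (E). -/
structure Data (t z : G) (N P R F : Subgroup G) : Prop where
  tt : t * t = 1
  zz : z * z = 1
  z1 : z ≠ 1
  comm : t * z = z * t
  /-- `F = O₂(H) = F*(H)`, `H = C_G(z)` -/
  pF : IsPGroup 2 F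
  leF : ∀ x ∈ F, x * z = z * x
  norF : ∀ g, g * z = z * g → ∀ x ∈ F, g * x * g⁻¹ ∈ F
  selfF : ∀ g, g * z = z * g → (∀ x ∈ F, g * x = x * g) → g ∈ F
  /-- `C_G(⟨t, z⟩) ≤ N ≤ stabiliser of {t, t z}` in `H` -/
  hN : ∀ n ∈ N, n * z = z * n ∧ (n * t * n⁻¹ = t ∨ n * t * n⁻¹ = t * z)
  cN : ∀ n, n * t = t * n → n * z = z * n → n ∈ N
  /-- `P ≤ C_G(⟨t, z⟩)` is perfect and normalised by `N` -/
  Pt : ∀ p ∈ P, p * t = t * p
  Pz : ∀ p ∈ P, p * z = z * p
  norP : ∀ n ∈ N, ∀ p ∈ P, n * p * n⁻¹ ∈ P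
  perf : ⁅P, P⁆ = P
  zP : z ∈ P
  RP : R ≤ P
  /-- 2-subgroups of `P` normalised by `N` are contained in `R` -/
  core : ∀ Y ≤ P, IsPGroup 2 Y → (∀ n ∈ N, ∀ y ∈ Y, n * y * n⁻¹ ∈ Y) → Y ≤ R
  /-- `R / ⟨z⟩` is irreducible under `N` -/
  irr : ∀ Y ≤ R, (∀ n ∈ N, ∀ y ∈ Y, n * y * n⁻¹ ∈ Y) →
    (∀ y ∈ Y, y = 1 ∨ y = z) ∨ Y = R
  /-- `R` is not abelian -/
  nab : ∃ a ∈ R, ∃ b ∈ R, a * b ≠ b * a
  /-- 2-elements of `C_G(⟨t, z⟩)` trivial on `P / R` are in `⟨t⟩ R` -/
  out : ∀ n, IsPGroup 2 (zpowers n) → n * t = t * n → n * z = z * n →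
    (∀ p ∈ P, n * p * n⁻¹ * p⁻¹ ∈ R) → n ∈ R ∨ t * n ∈ R

/-- a nontrivial perfect group is not a 2-group -/
theorem not_two_of_perfect [Finite G] {P : Subgroup G} (hP : ⁅P, P⁆ = P) (h2 : IsPGroup 2 P) : P = ⊥ := by
  have hnil : Group.IsNilpotent P := h2.isNilpotent
  have hsol : Group.IsSolvable P := inferInstance
  have h1 : commutator P = ⊤ := by
    have h3 : (commutator P).map P.subtype = P := by
      rw [_root_.commutator_def, map_commutator, ← MonoidHom.range_eq_map, P.range_subtype, hP]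
    have h4 : (⊤ : Subgroup P).map P.subtype = P := by
      rw [← MonoidHom.range_eq_map, P.range_subtype]
    exact map_injective P.subtype_injective (h3.trans h4.symm)
  obtain ⟨n, hn⟩ := hsol.solvable
  have h2' : ∀ k, derivedSeries P k = ⊤ := by
    intro k
    induction k with
    | zero => rfl
    | succ k ih => rw [derivedSeries_succ, ih, ← _root_.commutator_def, h1]
  rw [h2'] at hn
  have : (⊤ : Subgroup P).map P.subtype = ⊥ := by rw [hn, Subgroup.map_bot]
  rwa [← MonoidHom.range_eq_map, P.range_subtype] at this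

namespace Data

variable {t z : G} {N P R F : Subgroup G}

theorem z_mem (D : Data t z N P R F) : z ∈ F := D.selfF z rfl fun x hx => (D.leF x hx).symm

/-- `t ∉ O₂(C(z))` by the y-trick -/
theorem t_notMem (D : Data t z N P R F) {h z₁ : G} (hz : h * z = z * h) (ht : h * t * h⁻¹ = t * z₁)
    (hP : z₁ ∈ P) (hR : z₁ ∉ R) : t ∉ F := by
  intro htF
  apply hR
  have h1 : z₁ ∈ F := by
    have h2 : t * (h * t * h⁻¹) ∈ F := F.mul_mem htF (D.norF h hz t htF)
    rw [ht, ← mul_assoc, D.tt, one_mul] at h2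
    exact h2
  refine D.core (F ⊓ P) inf_le_right (D.pF.to_le inf_le_left) ?_ ⟨h1, hP⟩
  intro n hn y hy
  exact ⟨D.norF n (D.hN n hn).1 y hy.1, D.norP n hn y hy.2⟩

/-- `[C_F(t), P] ≤ F ∩ P ∩ C(t)` -/
theorem comm_mem (D : Data t z N P R F) {x : G} (hx : x ∈ F) (hxt : x * t = t * x) {p : G} (hp : p ∈ P) :
    x * p * x⁻¹ * p⁻¹ ∈ F ⊓ centralizer ({t} : Set G) ⊓ P := by
  have hxz : x * z = z * x := D.leF x hx
  have h1 : x * p * x⁻¹ ∈ P := D.norP x (D.cN x hxt hxz) p hp
  have h2 : p * x⁻¹ * p⁻¹ ∈ F := D.norF p (D.Pz p hp) _ (F.inv_mem hx)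
  refine ⟨⟨?_, ?_⟩, P.mul_mem h1 (P.inv_mem hp)⟩
  · have : x * p * x⁻¹ * p⁻¹ = x * (p * x⁻¹ * p⁻¹) := by group
    rw [this]
    exact F.mul_mem hx h2
  · have c1 : Commute x t := hxt
    have c2 : Commute p t := D.Pt p hp
    exact mem_centralizer_singleton_iff.2 (((c1.mul_left c2).mul_left c1.inv_left).mul_left c2.inv_left)

/-- `N` normalises `C_F(t)` -/
theorem fix_conj (D : Data t z N P R F) {n b : G} (hn : n ∈ N) (hb : b ∈ F) (hbt : b * t = t * b) :
    n * b * n⁻¹ * t = t * (n * b * n⁻¹) := by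
  obtain ⟨hnz, hnt⟩ := D.hN n hn
  have hc : Commute b t := hbt
  have hcz : Commute (n * b * n⁻¹) z := D.leF _ (D.norF n hnz b hb)
  have h1 : n * b * n⁻¹ * (n * t * n⁻¹) = n * t * n⁻¹ * (n * b * n⁻¹) := by
    calc n * b * n⁻¹ * (n * t * n⁻¹) = n * (b * t) * n⁻¹ := by group
      _ = n * (t * b) * n⁻¹ := by rw [hc.eq]
      _ = n * t * n⁻¹ * (n * b * n⁻¹) := by group
  rcases hnt with h2 | h2
  · rw [h2] at h1; exact h1
  · rw [h2] at h1
    have h3 : Commute (n * b * n⁻¹) (t * z) := h1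
    have h4 : Commute (n * b * n⁻¹) (t * z * z) := h3.mul_right hcz
    have h5 : t * z * z = t := by rw [mul_assoc, D.zz, mul_one]
    rw [h5] at h4
    exact h4

theorem inv_fix (D : Data t z N P R F) {Y : Subgroup G} (hY : Y = F ⊓ centralizer ({t} : Set G) ⊓ P) :
    ∀ n ∈ N, ∀ y ∈ Y, n * y * n⁻¹ ∈ Y := by
  subst hY
  intro n hn y hy
  have hy2 : y * t = t * y := mem_centralizer_singleton_iff.1 hy.1.2
  exact ⟨⟨D.norF n (D.hN n hn).1 y hy.1.1, mem_centralizer_singleton_iff.2 (D.fix_conj hn hy.1.1 hy2)⟩,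
    D.norP n hn y hy.2⟩

/-- `C_F(t) ∩ P = R` -/
theorem fix_eq [Finite G] (D : Data t z N P R F) : F ⊓ centralizer ({t} : Set G) ⊓ P = R := by
  set Y : Subgroup G := F ⊓ centralizer ({t} : Set G) ⊓ P with hY
  have hYR : Y ≤ R := D.core Y inf_le_right (D.pF.to_le (inf_le_left.trans inf_le_left)) (D.inv_fix hY)
  rcases D.irr Y hYR (D.inv_fix hY) with h1 | h1
  swap
  · exact h1
  exfalso
  -- `P` centralises `C_F(t)`
  have hcen : ∀ x ∈ F, x * t = t * x → ∀ p ∈ P, x * p = p * x := by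
    intro x hx hxt
    have hc : ∀ p ∈ P, x * p * x⁻¹ * p⁻¹ = 1 ∨ x * p * x⁻¹ * p⁻¹ = z := fun p hp =>
      h1 _ (D.comm_mem hx hxt hp)
    have hle : P ≤ centralizer ({x} : Set G) := by
      calc P = ⁅P, P⁆ := D.perf.symm
        _ ≤ centralizer ({x} : Set G) := by
          rw [commutator_le]
          intro p hp q hq
          rw [mem_centralizer_singleton_iff, commutatorElement_def]
          have e1 : ∀ p ∈ P, ∃ c, (c = 1 ∨ c = z) ∧ x * p * x⁻¹ = c * p := by
            intro p hp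
            refine ⟨x * p * x⁻¹ * p⁻¹, hc p hp, by group⟩
          obtain ⟨c, hc1, hc2⟩ := e1 p hp
          obtain ⟨d, hd1, hd2⟩ := e1 q hq
          have hcomm : ∀ c : G, (c = 1 ∨ c = z) → ∀ r ∈ P, r * c = c * r := by
            rintro c (rfl | rfl) r hr
            · simp
            · exact D.Pz r hr
          have e3 : x * (p * q * p⁻¹ * q⁻¹) * x⁻¹ = p * q * p⁻¹ * q⁻¹ := by
            have hcp := hcomm c hc1 p hp
            have hcq := hcomm c hc1 q hq
            have hdp := hcomm d hd1 p hp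
            have hdq := hcomm d hd1 q hq
            have hcd : c * d = d * c := by
              rcases hc1 with rfl | rfl
              · simp
              · rcases hd1 with rfl | rfl
                · simp
                · rfl
            have C1 : Commute p c := hcp
            have C2 : Commute q c := hcq
            have C3 : Commute p d := hdp
            have C4 : Commute q d := hdq
            calc x * (p * q * p⁻¹ * q⁻¹) * x⁻¹
                = (x * p * x⁻¹) * (x * q * x⁻¹) * (x * p * x⁻¹)⁻¹ * (x * q * x⁻¹)⁻¹ := by group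
              _ = (c * p) * (d * q) * (c * p)⁻¹ * (d * q)⁻¹ := by rw [hc2, hd2]
              _ = c * (p * d) * q * p⁻¹ * c⁻¹ * q⁻¹ * d⁻¹ := by group
              _ = c * (d * p) * q * p⁻¹ * c⁻¹ * q⁻¹ * d⁻¹ := by rw [hdp]
              _ = (c * d) * (p * q * p⁻¹ * (c⁻¹ * q⁻¹)) * d⁻¹ := by group
              _ = (c * d) * (p * q * p⁻¹ * (q⁻¹ * c⁻¹)) * d⁻¹ := by rw [(C2.inv_inv).eq]
              _ = (c * d) * ((p * q * p⁻¹ * q⁻¹) * (c⁻¹ * d⁻¹)) := by group
              _ = (c * d) * ((c⁻¹ * d⁻¹) * (p * q * p⁻¹ * q⁻¹)) := by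
                  have C5 : Commute (p * q * p⁻¹ * q⁻¹) c :=
                    ((C1.mul_left C2).mul_left C1.inv_left).mul_left C2.inv_left
                  have C6 : Commute (p * q * p⁻¹ * q⁻¹) d :=
                    ((C3.mul_left C4).mul_left C3.inv_left).mul_left C4.inv_left
                  rw [((C5.inv_right).mul_right C6.inv_right).eq]
              _ = c * d * (d * c)⁻¹ * (p * q * p⁻¹ * q⁻¹) := by group
              _ = p * q * p⁻¹ * q⁻¹ := by rw [hcd]; group
          rw [mul_inv_eq_iff_eq_mul] at e3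
          exact e3.symm
    intro p hp
    exact (mem_centralizer_singleton_iff.1 (hle hp)).symm
  -- odd elements of `P` are trivial
  have hodd : ∀ p ∈ P, (orderOf p).Coprime 2 → p = 1 := by
    intro p hp hpo
    have h2 : zpowers p ≤ centralizer (F : Set G) := by
      refine Cfsg.Agent.S0028.result 2 (zpowers t) (zpowers p) F ?_ ?_ D.pF ?_ ?_ ?_ ?_
      · rintro ⟨a, ha⟩
        obtain ⟨i, rfl⟩ := mem_zpowers_iff.1 ha
        refine ⟨1, Subtype.ext ?_⟩
        show (t ^ i) ^ (2 ^ 1) = 1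
        rw [pow_one, pow_two, ← zpow_add, ← two_mul, zpow_mul]
        have : t ^ (2 : ℤ) = 1 := by
          rw [show (2 : ℤ) = 1 + 1 by norm_num, zpow_add, zpow_one, D.tt]
        rw [this, one_zpow]
      · rw [Nat.card_zpowers]; exact hpo
      · rw [zpowers_le, mem_centralizer_iff]
        intro q hq
        obtain ⟨i, rfl⟩ := mem_zpowers_iff.1 hq
        exact ((show Commute p t from D.Pt p hp).zpow_left i).eq
      · rw [zpowers_le]
        rw [mem_normalizer_iff]
        intro y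
        constructor
        · intro hy; exact D.norF t D.comm y hy
        · intro hy
          have := D.norF t D.comm _ hy
          have e : t * (t * y * t⁻¹) * t⁻¹ = y := by
            calc t * (t * y * t⁻¹) * t⁻¹ = (t * t) * y * (t * t)⁻¹ := by group
              _ = y := by rw [D.tt]; group
          rwa [e] at this
      · rw [zpowers_le]
        have hpz := D.Pz p hp
        rw [mem_normalizer_iff]
        intro y
        constructor
        · intro hy; exact D.norF p hpz y hy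
        · intro hy
          have hpz' : p⁻¹ * z = z * p⁻¹ := (Commute.inv_left (show Commute p z from hpz)).eq
          have := D.norF p⁻¹ hpz' _ hy
          have e : p⁻¹ * (p * y * p⁻¹) * p⁻¹⁻¹ = y := by group
          rwa [e] at this
      · rintro x ⟨hx, hxt⟩
        have hxt' : x * t = t * x := (mem_centralizer_iff.1 hxt t (mem_zpowers t)).symm
        rw [mem_centralizer_iff]
        intro q hq
        have hqP : q ∈ P := (zpowers_le.2 hp) hq
        exact (hcen x hx hxt' q hqP).symm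
    have h3 : p ∈ F := by
      refine D.selfF p (D.Pz p hp) fun x hx => ?_
      exact (mem_centralizer_iff.1 (h2 (mem_zpowers p)) x hx).symm
    obtain ⟨k, hk⟩ := D.pF ⟨p, h3⟩
    have h4 : p ^ 2 ^ k = 1 := congrArg Subtype.val hk
    have h5 : orderOf p ∣ 2 ^ k := orderOf_dvd_of_pow_eq_one h4
    have h6 : orderOf p = 1 := Nat.Coprime.eq_one_of_dvd (hpo.pow_right k) h5
    exact orderOf_eq_one_iff.1 h6
  have hP2 : IsPGroup 2 P := by
    rw [IsPGroup.iff_card]
    refine ⟨(Nat.card P).primeFactorsList.length, ?_⟩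
    refine Nat.eq_prime_pow_of_unique_prime_dvd Nat.card_pos.ne' ?_
    intro q hq hqd
    by_contra hne
    have : Fact q.Prime := ⟨hq⟩
    obtain ⟨y, hy⟩ := exists_prime_orderOf_dvd_card' q hqd
    have h4 : (orderOf (y : G)).Coprime 2 := by
      rw [Subgroup.orderOf_coe, hy]
      exact (Nat.coprime_primes hq Nat.prime_two).2 hne
    have h5 : y = 1 := Subtype.ext (hodd y y.2 h4)
    rw [h5, orderOf_one] at hy
    exact hq.one_lt.ne hy
  have hbot := not_two_of_perfect D.perf hP2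
  have hz := D.zP
  rw [hbot, mem_bot] at hz
  exact D.z1 hz

/-- if `t ∉ F`, then `λ` exists -/
theorem exists_lam [Finite G] (D : Data t z N P R F) (ht : t ∉ F) :
    ∃ lam : centralizer ({z} : Set G) →* ℤˣ, lam ⟨t, mem_centralizer_singleton_iff.2 D.comm⟩ = -1 := by
  have hfix := D.fix_eq
  have hX : ∀ x ∈ F, x * t = t * x → x ∈ R := by
    intro x hx hxt
    rcases D.out x (D.pF.to_le (zpowers_le.2 hx)) hxt (D.leF x hx) (fun p hp => by rw [← hfix]; exact D.comm_mem hx hxt hp) with h1 | h1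
    · exact h1
    · exfalso
      apply ht
      have h2 : t * x ∈ F := by
        rw [← hfix] at h1
        exact h1.1.1
      have := F.mul_mem h2 (F.inv_mem hx)
      rwa [mul_inv_cancel_right] at this
  refine Lam.exists_lam (N := N) (F := F)
    ⟨⟨D.tt, D.zz, D.z1, D.comm, D.pF, D.leF, D.norF, D.selfF⟩, D.hN, ht, ?_⟩
  intro B hBF hBt hBab hBn
  have hBR : B ≤ R := fun b hb => hX b (hBF hb) (hBt b hb)
  rcases D.irr B hBR hBn with h1 | h1
  · exact h1
  · exfalso
    obtain ⟨a, ha, b, hb, hab⟩ := D.nab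
    rw [← h1] at ha hb
    exact hab (hBab a ha b hb)

/-- **Type (E) is impossible** -/
theorem absurd [Finite G] (D : Data t z N P R F)
    (TR : ∀ lam : centralizer ({z} : Set G) →* ℤˣ, lam ⟨t, mem_centralizer_singleton_iff.2 D.comm⟩ = 1)
    {h z₁ : G} (hz : h * z = z * h) (ht : h * t * h⁻¹ = t * z₁) (hP : z₁ ∈ P) (hR : z₁ ∉ R) : False := by
  obtain ⟨lam, hl⟩ := D.exists_lam (D.t_notMem hz ht hP hR)
  rw [TR lam] at hl
  exact (by decide : (1 : ℤˣ) ≠ -1) hl

end Data

end Cfsg.Agent.OddHalf.D8.TypeE
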