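import Cfsg.Agent.OddHalf.D8.Sheet
import Cfsg.Agent.OddHalf.Front.FE

/-!
# ODD half, D8: from the sheet of `K` to the group `G` (helper915)

`Emb`: the starting position `Start K t q` together with a sheet of the group `↥K`. The subgroups `P`, `R` of `K`,
seen in `G`; action of `N = C_G(⟨t, z⟩)`; the normaliser of `⟨t, z⟩` fixes `z` and normalises `P`; the `y`-trick.
-/

set_option autoImplicit false

namespace Cfsg.Agent.OddHalf.D8.GlueE

open Subgroup Cfsg.Agent.OddHalf.Front.FE Cfsg.Agent.OddHalf.D8.Sheet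

universe u

variable {G : Type u} [Group G]

section Conj

variable {K : Subgroup G}

theorem nmh_apply {g : G} (hg : g ∈ normalizer (K : Set G)) (x : K) :
    ((K.normalizerMonoidHom ⟨g, hg⟩ x : K) : G) = g * x * g⁻¹ := by
  rw [normalizerMonoidHom_apply_apply_coe]

/-- an automorphism induced by `g` that is inner: `g ∈ K C(K)` -/
theorem exists_of_conj {g : G} (hg : g ∈ normalizer (K : Set G)) {k : K}
    (h : K.normalizerMonoidHom ⟨g, hg⟩ = MulAut.conj k) :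
    ∀ x ∈ K, x * ((k : G)⁻¹ * g) = (k : G)⁻¹ * g * x := by
  intro x hx
  have h1 := congrArg (fun f : MulAut K => ((f ⟨x, hx⟩ : K) : G)) h
  simp only [nmh_apply hg, MulAut.conj_apply] at h1
  have h2 : g * x * g⁻¹ = (k : G) * x * (k : G)⁻¹ := h1
  calc x * ((k : G)⁻¹ * g) = (k : G)⁻¹ * ((k : G) * x * (k : G)⁻¹) * g := by group
    _ = (k : G)⁻¹ * (g * x * g⁻¹) * g := by rw [h2]
    _ = (k : G)⁻¹ * g * x := by group

end Conj

/-- a 2-element induces a 2-element -/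
theorem isPGroup_nmh {K : Subgroup G} {g : G} (hg : g ∈ normalizer (K : Set G))
    (h2 : IsPGroup 2 (zpowers g)) : IsPGroup 2 (zpowers (K.normalizerMonoidHom ⟨g, hg⟩)) := by
  rw [IsPGroup.iff_orderOf] at h2 ⊢
  rintro ⟨y, hy⟩
  obtain ⟨i, rfl⟩ := mem_zpowers_iff.1 hy
  obtain ⟨k, hk⟩ := h2 ⟨g ^ i, zpow_mem (mem_zpowers g) i⟩
  have h3 : orderOf (g ^ i) = 2 ^ k := by
    rw [← hk]
    exact (orderOf_mk _ _).symm
  have h4 : (g ^ i) ^ (2 ^ k) = 1 := by rw [← h3]; exact pow_orderOf_eq_one _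
  have h5 : ((K.normalizerMonoidHom ⟨g, hg⟩) ^ i) ^ (2 ^ k) = 1 := by
    rw [← map_zpow, ← map_pow]
    have : ((⟨g, hg⟩ : normalizer (K : Set G)) ^ i) ^ (2 ^ k) = 1 := by
      apply Subtype.ext
      rw [SubgroupClass.coe_pow, SubgroupClass.coe_zpow]
      exact h4
    rw [this, map_one]
  have h6 : orderOf ((K.normalizerMonoidHom ⟨g, hg⟩) ^ i) ∣ 2 ^ k := orderOf_dvd_of_pow_eq_one h5
  obtain ⟨j, -, hj⟩ := (Nat.dvd_prime_pow Nat.prime_two).1 h6
  refine ⟨j, ?_⟩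
  rw [← hj]
  exact orderOf_mk _ _

/-- the data -/
structure Emb (K : Subgroup G) (t q : G) (z : K) (P : Subgroup K) : Prop where
  st : Start K t q
  sh : Basic z P

namespace Emb

variable {K : Subgroup G} {t q : G} {z : K} {P : Subgroup K}

theorem tK (h : Emb K t q z P) : t ∉ K := fun h1 => h.st.t1 (h.st.cen t h1 fun y hy => h.st.Kt y hy)

theorem comm (h : Emb K t q z P) : t * (z : G) = z * t := (h.st.Kt z z.2).symm

theorem zz (h : Emb K t q z P) : (z : G) * z = 1 := congrArg Subtype.val h.sh.zz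

theorem z1 (h : Emb K t q z P) : (z : G) ≠ 1 := fun e => h.sh.z1 (Subtype.ext e)

/-- the automorphism of `K` induced by an element of `C_G(t)` -/
theorem nor (h : Emb K t q z P) {g : G} (hg : g * t = t * g) : g ∈ normalizer (K : Set G) := h.st.nK g hg

theorem aut_z (h : Emb K t q z P) {g : G} (hg : g * t = t * g) (hgz : g * z = z * g) :
    K.normalizerMonoidHom ⟨g, h.nor hg⟩ z = z := by
  apply Subtype.ext
  rw [nmh_apply, hgz]
  group

theorem mem_map {L : Subgroup K} {x : G} : x ∈ L.map K.subtype ↔ ∃ hx : x ∈ K, (⟨x, hx⟩ : K) ∈ L := by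
  constructor
  · rintro ⟨y, hy, rfl⟩
    exact ⟨y.2, hy⟩
  · rintro ⟨hx, h⟩
    exact ⟨⟨x, hx⟩, h, rfl⟩

/-- `N` normalises `P` -/
theorem conj_P (h : Emb K t q z P) {g : G} (hg : g * t = t * g) (hgz : g * z = z * g) {x : G}
    (hx : x ∈ P.map K.subtype) : g * x * g⁻¹ ∈ P.map K.subtype := by
  obtain ⟨hxK, hxP⟩ := mem_map.1 hx
  have h1 := map_P h.sh.perf h.sh.cen h.sh.der (K.normalizerMonoidHom ⟨g, h.nor hg⟩)
    (h.aut_z hg hgz) hxP
  refine mem_map.2 ⟨?_, ?_⟩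
  · exact (mem_normalizer_iff.1 (h.nor hg) x).1 hxK
  · convert h1 using 1
    exact Subtype.ext (nmh_apply (h.nor hg) ⟨x, hxK⟩).symm

/-- `C(t)` is solvable above `K` -/
theorem sol (h : Emb K t q z P) : ∃ n, TR.dser n (centralizer ({t} : Set G)) ≤ K := by
  obtain ⟨n, hn⟩ := h.sh.schreier
  refine ⟨1 + n, ?_⟩
  rw [TR.dser_add]
  -- `D = C(t)^{(n)}` is contained in `Q K`
  have hC : ∀ g ∈ centralizer ({t} : Set G), g * t = t * g := fun g hg =>
    mem_centralizer_singleton_iff.1 hg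
  have hle : centralizer ({t} : Set G) ≤ normalizer (K : Set G) := fun g hg => h.nor (hC g hg)
  -- the action
  have key : ∀ m, ∀ g (hg : g ∈ TR.dser m (centralizer ({t} : Set G))),
      K.normalizerMonoidHom ⟨g, hle (TR.dser_le m _ hg)⟩ ∈ TR.dser m (⊤ : Subgroup (MulAut K)) := by
    intro m
    let f : centralizer ({t} : Set G) →* MulAut K := K.normalizerMonoidHom.comp (inclusion hle)
    -- transport of the derived series
    have hser : ∀ m, (TR.dser m (centralizer ({t} : Set G))) =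
        (derivedSeries (centralizer ({t} : Set G)) m).map (centralizer ({t} : Set G)).subtype := by
      intro m
      induction m with
      | zero =>
        rw [TR.dser_zero, derivedSeries_zero, ← MonoidHom.range_eq_map, range_subtype]
      | succ m ih =>
        rw [TR.dser_succ', ih, derivedSeries_succ, map_commutator]
    have hser2 : ∀ m, (derivedSeries (centralizer ({t} : Set G)) m).map f ≤
        TR.dser m (⊤ : Subgroup (MulAut K)) := by
      intro m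
      induction m with
      | zero => exact le_top
      | succ m ih =>
        rw [derivedSeries_succ, map_commutator, TR.dser_succ']
        exact commutator_mono ih ih
    intro g hg
    have hg' := hg
    rw [hser m] at hg'
    obtain ⟨y, hy, rfl⟩ := hg'
    exact hser2 m ⟨y, hy, rfl⟩
  have h1 : TR.dser n (centralizer ({t} : Set G)) ≤ zpowers q ⊔ K := by
    intro g hg
    have hgt := hC g (TR.dser_le n _ hg)
    obtain ⟨k, hk⟩ := hn (key n g hg)
    have h2 := exists_of_conj (h.nor hgt) hk.symm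
    have h3 : (k : G)⁻¹ * g ∈ zpowers q := by
      apply h.st.cK
      · have h4 := h.st.Kt (k : G)⁻¹ (K.inv_mem k.2)
        calc (k : G)⁻¹ * g * t = (k : G)⁻¹ * (g * t) := by group
          _ = ((k : G)⁻¹ * t) * g := by rw [hgt]; group
          _ = t * ((k : G)⁻¹ * g) := by rw [h4]; group
      · exact h2
    have h5 : g = (k : G) * ((k : G)⁻¹ * g) := by group
    rw [h5]
    exact (zpowers q ⊔ K).mul_mem ((le_sup_right : K ≤ _) k.2) ((le_sup_left : zpowers q ≤ _) h3)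
  rw [show (1 : ℕ) = 0 + 1 by rfl, TR.dser_succ, TR.dser_zero]
  refine (commutator_mono h1 h1).trans ?_
  rw [commutator_le]
  intro a ha b hb
  have hc : ∀ a ∈ zpowers q, ∀ b ∈ K, a * b = b * a := fun a ha b hb => (h.st.QK a ha b hb).symm
  obtain ⟨q1, hq1, k1, hk1, rfl⟩ := (TR.mem_sup_of_comm hc).1 ha
  obtain ⟨q2, hq2, k2, hk2, rfl⟩ := (TR.mem_sup_of_comm hc).1 hb
  have hqq : q1 * q2 = q2 * q1 := by
    obtain ⟨i, rfl⟩ := mem_zpowers_iff.1 hq1
    obtain ⟨j, rfl⟩ := mem_zpowers_iff.1 hq2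
    rw [← zpow_add, ← zpow_add, add_comm]
  have e : q1 * k1 * (q2 * k2) * (q1 * k1)⁻¹ * (q2 * k2)⁻¹ = k1 * k2 * k1⁻¹ * k2⁻¹ := by
    calc q1 * k1 * (q2 * k2) * (q1 * k1)⁻¹ * (q2 * k2)⁻¹
        = q1 * (k1 * q2) * k2 * k1⁻¹ * q1⁻¹ * k2⁻¹ * q2⁻¹ := by group
      _ = (q1 * q2) * (k1 * k2 * k1⁻¹) * q1⁻¹ * k2⁻¹ * q2⁻¹ := by rw [← hc q2 hq2 k1 hk1]; group
      _ = q2 * (q1 * (k1 * k2 * k1⁻¹)) * q1⁻¹ * k2⁻¹ * q2⁻¹ := by rw [hqq]; group
      _ = q2 * ((k1 * k2 * k1⁻¹) * q1) * q1⁻¹ * k2⁻¹ * q2⁻¹ := by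
          rw [hc q1 hq1 _ (K.mul_mem (K.mul_mem hk1 hk2) (K.inv_mem hk1))]
      _ = (q2 * (k1 * k2 * k1⁻¹ * k2⁻¹)) * q2⁻¹ := by group
      _ = ((k1 * k2 * k1⁻¹ * k2⁻¹) * q2) * q2⁻¹ := by
          rw [hc q2 hq2 _ (K.mul_mem (K.mul_mem (K.mul_mem hk1 hk2) (K.inv_mem hk1)) (K.inv_mem hk2))]
      _ = k1 * k2 * k1⁻¹ * k2⁻¹ := by group
  show q1 * k1 * (q2 * k2) * (q1 * k1)⁻¹ * (q2 * k2)⁻¹ ∈ K
  rw [e]
  exact K.mul_mem (K.mul_mem (K.mul_mem hk1 hk2) (K.inv_mem hk1)) (K.inv_mem hk2)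

/-- `P` is the last term of the derived series of `N = C_G(⟨t, z⟩)` -/
theorem dser_eq (h : Emb K t q z P) : ∃ n, TR.dser n (centralizer ({t} : Set G) ⊓
    centralizer ({(z : G)} : Set G)) = P.map K.subtype := by
  obtain ⟨n, hn⟩ := h.sol
  obtain ⟨m, hm⟩ := h.sh.der
  refine ⟨m + n, le_antisymm ?_ ?_⟩
  · rw [TR.dser_add]
    have h1 : TR.dser n (centralizer ({t} : Set G) ⊓ centralizer ({(z : G)} : Set G)) ≤
        (centralizer ({z} : Set K)).map K.subtype := by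
      intro x hx
      have hxK : x ∈ K := hn (TR.dser_mono n inf_le_left hx)
      have hxz := mem_centralizer_singleton_iff.1 (TR.dser_le n _ hx).2
      exact mem_map.2 ⟨hxK, mem_centralizer_singleton_iff.2 (Subtype.ext hxz)⟩
    refine (TR.dser_mono m h1).trans ?_
    have h2 : ∀ m, ∀ L : Subgroup K, TR.dser m (L.map K.subtype) = (TR.dser m L).map K.subtype := by
      intro m L
      induction m with
      | zero => rfl
      | succ m ih => rw [TR.dser_succ', TR.dser_succ', ih, map_commutator]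
    rw [h2]
    exact map_mono hm
  · have h1 : P.map K.subtype ≤ centralizer ({t} : Set G) ⊓ centralizer ({(z : G)} : Set G) := by
      rintro _ ⟨y, hy, rfl⟩
      refine ⟨mem_centralizer_singleton_iff.2 (h.st.Kt y y.2), mem_centralizer_singleton_iff.2 ?_⟩
      exact congrArg Subtype.val (h.sh.cen y hy)
    have h2 := TR.dser_mono (m + n) h1
    rwa [TR.dser_of_perfect] at h2
    rw [← map_commutator, h.sh.perf]

/-- the normaliser of `⟨t, z⟩` fixes `z` and normalises `P` -/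
theorem iso (h : Emb K t q z P) (g : G)
    (h1 : g * t * g⁻¹ = t ∨ g * t * g⁻¹ = z ∨ g * t * g⁻¹ = t * z)
    (h2 : g * z * g⁻¹ = t ∨ g * z * g⁻¹ = z ∨ g * z * g⁻¹ = t * z) :
    g * z * g⁻¹ = z ∧ ∀ x ∈ P.map K.subtype, g⁻¹ * x * g ∈ P.map K.subtype := by
  set C : Subgroup G := centralizer ({t} : Set G) ⊓ centralizer ({(z : G)} : Set G) with hC
  have htz := h.comm
  have hmemC : ∀ x, x ∈ C ↔ x * t = t * x ∧ x * z = z * x := by
    intro x
    rw [hC, mem_inf, mem_centralizer_singleton_iff, mem_centralizer_singleton_iff]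
  have hconj : C.map (MulAut.conj g⁻¹).toMonoidHom ≤ C := by
    rintro _ ⟨x, hx, rfl⟩
    have hx' := (hmemC x).1 hx
    have hc : ∀ y, (y = t ∨ y = z ∨ y = t * z) → x * y = y * x := by
      rintro y (rfl | rfl | rfl)
      · exact hx'.1
      · exact hx'.2
      · calc x * (t * z) = (x * t) * z := by group
          _ = t * (x * z) := by rw [hx'.1]; group
          _ = t * z * x := by rw [hx'.2]; group
    have hb : ∀ y, x * (g * y * g⁻¹) = g * y * g⁻¹ * x →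
        g⁻¹ * x * g⁻¹⁻¹ * y = y * (g⁻¹ * x * g⁻¹⁻¹) := by
      intro y hy
      calc g⁻¹ * x * g⁻¹⁻¹ * y = g⁻¹ * (x * (g * y * g⁻¹)) * g := by group
        _ = g⁻¹ * (g * y * g⁻¹ * x) * g := by rw [hy]
        _ = y * (g⁻¹ * x * g⁻¹⁻¹) := by group
    exact (hmemC _).2 ⟨hb t (hc _ h1), hb z (hc _ h2)⟩
  obtain ⟨n, hn⟩ := h.dser_eq
  have h3 : (P.map K.subtype).map (MulAut.conj g⁻¹).toMonoidHom ≤ P.map K.subtype := by
    have h4 := TR.dser_mono n hconj
    rwa [TR.dser_map, hn] at h4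
  have h3' : ∀ x ∈ P.map K.subtype, g⁻¹ * x * g ∈ P.map K.subtype := by
    intro x hx
    have h4 : (MulAut.conj g⁻¹) x ∈ P.map K.subtype := h3 (mem_map_of_mem _ hx)
    rwa [MulAut.conj_apply, inv_inv] at h4
  refine ⟨?_, h3'⟩
  have hzP : (z : G) ∈ P.map K.subtype := ⟨z, h.sh.zP, rfl⟩
  have h7 : g⁻¹ * z * g ∈ K := (mem_map.1 (h3' _ hzP)).1
  have htzK : t * z ∉ K := fun e => h.tK (by
    have := K.mul_mem e (K.inv_mem z.2)
    rwa [mul_inv_cancel_right] at this)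
  have hzt : (z : G) ≠ t := fun e => h.tK (e ▸ z.2)
  have hmul : g * (t * z) * g⁻¹ = (g * t * g⁻¹) * (g * z * g⁻¹) := by group
  have back : ∀ y, g * y * g⁻¹ = z → y ∈ K := by
    intro y hy
    have : g⁻¹ * z * g = y := by rw [← hy]; group
    rwa [this] at h7
  have hinj : ∀ c d, g * c * g⁻¹ = g * d * g⁻¹ → c = d :=
    fun c d e => mul_left_cancel (mul_right_cancel e)
  rcases h2 with h2 | h2 | h2
  · exfalso
    rcases h1 with h1 | h1 | h1
    · exact hzt (hinj _ _ (h2.trans h1.symm))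
    · exact h.tK (back t h1)
    · apply htzK
      apply back
      rw [hmul, h1, h2, htz, mul_assoc, h.st.tt, mul_one]
  · exact h2
  · exfalso
    rcases h1 with h1 | h1 | h1
    · apply htzK
      apply back
      rw [hmul, h1, h2, ← mul_assoc, h.st.tt, one_mul]
    · exact h.tK (back t h1)
    · exact hzt (hinj _ _ (h2.trans h1.symm))

/-- an element `x` with `t ↦ tz`, `z ↦ z` normalises `P` -/
theorem conj_P_swap (h : Emb K t q z P) {x : G} (hxt : x * t * x⁻¹ = t * z) (hxz : x * z * x⁻¹ = z)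
    {y : G} : y ∈ P.map K.subtype ↔ x * y * x⁻¹ ∈ P.map K.subtype := by
  have hz2 := h.zz
  have hi : x⁻¹ * z * x = z := by
    calc x⁻¹ * z * x = x⁻¹ * (x * z * x⁻¹) * x := by rw [hxz]
      _ = z := by group
  have hti : x⁻¹ * t * x = t * z := by
    calc x⁻¹ * t * x = x⁻¹ * (t * z * z) * x := by
          rw [show t * (z : G) * z = t by rw [mul_assoc, hz2, mul_one]]
      _ = x⁻¹ * (x * t * x⁻¹ * z) * x := by rw [hxt]
      _ = t * (x⁻¹ * z * x) := by group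
      _ = t * z := by rw [hi]
  constructor
  · intro hy
    have h1 := (h.iso x⁻¹ (Or.inr (Or.inr (by rw [inv_inv]; exact hti)))
      (Or.inr (Or.inl (by rw [inv_inv]; exact hi)))).2 y hy
    rwa [inv_inv] at h1
  · intro hy
    have h1 := (h.iso x (Or.inr (Or.inr hxt)) (Or.inr (Or.inl hxz))).2 _ hy
    have e : x⁻¹ * (x * y * x⁻¹) * x = y := by group
    rwa [e] at h1

end Emb

/-- the data of type (E) -/
structure EmbE (K : Subgroup G) (t q : G) (z : K) (P R : Subgroup K) : Prop where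
  st : Start K t q
  sh : SheetE z P R

namespace EmbE

variable {K : Subgroup G} {t q : G} {z : K} {P R : Subgroup K}

theorem emb [Finite G] (h : EmbE K t q z P R) : Emb K t q z P := ⟨h.st, h.sh.basic⟩

/-- 2-elements of `N` trivial on `P/R` -/
theorem mem_of_trivial [Finite G] (h : EmbE K t q z P R) {x : G} (hx2 : IsPGroup 2 (zpowers x))
    (hxt : x * t = t * x) (hxz : x * z = z * x)
    (hx : ∀ p ∈ P.map K.subtype, p⁻¹ * (x * p * x⁻¹) ∈ R.map K.subtype) :
    ∃ r ∈ R.map K.subtype, r⁻¹ * x ∈ zpowers q := by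
  have hE := h.emb
  obtain ⟨r, hr, e⟩ := h.sh.aut (K.normalizerMonoidHom ⟨x, hE.nor hxt⟩)
    (isPGroup_nmh (hE.nor hxt) hx2) (hE.aut_z hxt hxz) (by
    intro p hp
    have h1 := hx p ⟨p, hp, rfl⟩
    obtain ⟨h2, h3⟩ := Emb.mem_map.1 h1
    convert h3 using 1
    apply Subtype.ext
    rw [Subgroup.coe_mul, nmh_apply]
    rfl)
  refine ⟨r, ⟨r, hr, rfl⟩, ?_⟩
  apply h.st.cK
  · have h4 := h.st.Kt (r : G)⁻¹ (K.inv_mem r.2)
    calc (r : G)⁻¹ * x * t = (r : G)⁻¹ * (x * t) := by group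
      _ = ((r : G)⁻¹ * t) * x := by rw [hxt]; group
      _ = t * ((r : G)⁻¹ * x) := by rw [h4]; group
  · exact exists_of_conj (hE.nor hxt) e

/-- **the `y`-trick**: some `h ∈ C_G(z)` maps `t` to `t z₁`, `z₁ ∈ P - R` -/
theorem exists_y [Finite G] (h : EmbE K t q z P R) {x : G} (hxt : x * t * x⁻¹ = t * z)
    (hxz : x * z * x⁻¹ = z) :
    ∃ y z₁ : G, y * z = z * y ∧ z₁ ∈ P.map K.subtype ∧ z₁ ∉ R.map K.subtype ∧ y * t * y⁻¹ = t * z₁ := by
  have hE := h.emb
  obtain ⟨k, hk1, hk2, hw, hk3⟩ := h.sh.ytrick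
  -- the automorphism of `P` induced by `x`
  have hmemP : ∀ y : K, (y : G) ∈ P.map K.subtype ↔ y ∈ P := by
    intro y
    rw [Emb.mem_map]
    exact ⟨fun ⟨_, h⟩ => h, fun h => ⟨y.2, h⟩⟩
  have fwd : ∀ y : P, x * (y : K) * x⁻¹ ∈ P.map K.subtype := fun y =>
    (hE.conj_P_swap hxt hxz).1 ((hmemP _).2 y.2)
  have bwd : ∀ y : P, x⁻¹ * (y : K) * x ∈ P.map K.subtype := fun y =>
    (hE.iso x (Or.inr (Or.inr hxt)) (Or.inr (Or.inl hxz))).2 _ ((hmemP _).2 y.2)
  let β : MulAut P :=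
    { toFun := fun y => ⟨⟨x * (y : K) * x⁻¹, (Emb.mem_map.1 (fwd y)).1⟩, (Emb.mem_map.1 (fwd y)).2⟩
      invFun := fun y => ⟨⟨x⁻¹ * (y : K) * x, (Emb.mem_map.1 (bwd y)).1⟩, (Emb.mem_map.1 (bwd y)).2⟩
      left_inv := by
        intro y
        apply Subtype.ext
        apply Subtype.ext
        show x⁻¹ * (x * (y : K) * x⁻¹) * x = (y : K)
        group
      right_inv := by
        intro y
        apply Subtype.ext
        apply Subtype.ext
        show x * (x⁻¹ * (y : K) * x) * x⁻¹ = (y : K)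
        group
      map_mul' := by
        intro y w
        apply Subtype.ext
        apply Subtype.ext
        show x * ((y : K) * (w : K) : G) * x⁻¹ = (x * (y : K) * x⁻¹) * (x * (w : K) * x⁻¹)
        group }
  obtain ⟨p, hpz, hp⟩ := hk3 β (Subtype.ext hxz)
  have hp' : x * ((k : G)⁻¹ * z * k) * x⁻¹ = (p : G) * ((k : G)⁻¹ * z * k) * (p : G)⁻¹ :=
    congrArg Subtype.val hp
  have hpt : (p : G) * t = t * p := h.st.Kt p p.2
  have hpz' : (p : G) * z = z * p := congrArg Subtype.val hpz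
  have hkt : (k : G) * t = t * k := h.st.Kt k k.2
  -- `y = k (p⁻¹ x) k⁻¹`
  refine ⟨(k : G) * ((p : G)⁻¹ * x) * (k : G)⁻¹, (k : G) * z * (k : G)⁻¹, ?_, ?_, ?_, ?_⟩
  · have h1 : ((p : G)⁻¹ * x) * ((k : G)⁻¹ * z * k) = ((k : G)⁻¹ * z * k) * ((p : G)⁻¹ * x) := by
      calc ((p : G)⁻¹ * x) * ((k : G)⁻¹ * z * k) = (p : G)⁻¹ * (x * ((k : G)⁻¹ * z * k) * x⁻¹) * x := by
            group
        _ = (p : G)⁻¹ * ((p : G) * ((k : G)⁻¹ * z * k) * (p : G)⁻¹) * x := by rw [hp']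
        _ = ((k : G)⁻¹ * z * k) * ((p : G)⁻¹ * x) := by group
    calc (k : G) * ((p : G)⁻¹ * x) * (k : G)⁻¹ * z
        = (k : G) * (((p : G)⁻¹ * x) * ((k : G)⁻¹ * z * k)) * (k : G)⁻¹ := by group
      _ = (k : G) * (((k : G)⁻¹ * z * k) * ((p : G)⁻¹ * x)) * (k : G)⁻¹ := by rw [h1]
      _ = z * ((k : G) * ((p : G)⁻¹ * x) * (k : G)⁻¹) := by group
  · exact (hmemP _).2 hk1
  · intro h1
    apply hk2
    obtain ⟨h2, h3⟩ := Emb.mem_map.1 h1
    exact h3
  · have hpt' : (p : G)⁻¹ * t * p = t := by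
      rw [mul_assoc, ← hpt]; group
    have hpz2 : (p : G)⁻¹ * z * p = z := by
      rw [mul_assoc, ← hpz']; group
    have hkt' : (k : G)⁻¹ * t * k = t := by
      rw [mul_assoc, ← hkt]; group
    calc (k : G) * ((p : G)⁻¹ * x) * (k : G)⁻¹ * t * ((k : G) * ((p : G)⁻¹ * x) * (k : G)⁻¹)⁻¹
        = (k : G) * ((p : G)⁻¹ * (x * ((k : G)⁻¹ * t * k) * x⁻¹) * p) * (k : G)⁻¹ := by group
      _ = (k : G) * ((p : G)⁻¹ * (t * z) * p) * (k : G)⁻¹ := by rw [hkt', hxt]
      _ = (k : G) * (((p : G)⁻¹ * t * p) * ((p : G)⁻¹ * z * p)) * (k : G)⁻¹ := by group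
      _ = (k : G) * t * (z * (k : G)⁻¹) := by rw [hpt', hpz2]; group
      _ = t * ((k : G) * z * (k : G)⁻¹) := by rw [hkt]; group

end EmbE

end Cfsg.Agent.OddHalf.D8.GlueE
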