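import Cfsg.Agent.OddHalf.D8.Front
import Cfsg.Agent.OddHalf.Front.OfSheet
import Cfsg.Agent.OddHalf.D8.TypeE
import Cfsg.Agent.OddHalf.D8.Rows
import Cfsg.Agent.SignalizersComponents.PConstrained

/-!
# ODD half, D8: the rows of type (E) (helper915)

`row_of`: if every group `K` with `X K` has a sheet of type (E), satisfying `Y`, then `Row X`, provided that `Y`
excludes components of `C_G(z)` (`NoComp Y`; the case (M)). The front end is helper971's (`frontOuter`).
-/

set_option autoImplicit false

namespace Cfsg.Agent.OddHalf.D8.MainE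

open Subgroup Cfsg Cfsg.Agent.OddHalf.Front.FE Cfsg.Agent.OddHalf.D8.Sheet Cfsg.Agent.OddHalf.D8.GlueE
  Cfsg.Agent.OddHalf.D8.Front

universe u

/-- The front end in the presence of outer automorphisms. -/
def FrontOuter : Prop :=
  ∀ (G : Type u) [Group G], Iface.Ctx G → ∀ (K : Subgroup G) (t q : G) (z : K) (P : Subgroup K),
    Emb K t q z P → 2 ∣ (zpowers q ⊔ K).relIndex (centralizer ({t} : Set G)) → Out K t q z P

/-- Case (M): `C_G(z)` has no component, if the sheet satisfies `Y`. -/
def NoComp (Y : (K : Type u) → [Group K] → K → Subgroup K → Subgroup K → Prop) : Prop :=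
  ∀ (G : Type u) [Group G], Iface.Ctx G → ∀ (K : Subgroup G) (t q : G) (z : K) (P R : Subgroup K),
    Out K t q z P → SheetE z P R → Y ↥K z P R →
    ∀ M : Subgroup ↥(centralizer ({(z : G)} : Set G)), ¬ IsComponent M

/-- Case (M): `C_G(z)` has no component. -/
def NoComponent : Prop :=
  ∀ (G : Type u) [Group G], Iface.Ctx G → ∀ (K : Subgroup G) (t q : G) (z : K) (P R : Subgroup K),
    Out K t q z P → SheetE z P R →
    ∀ M : Subgroup ↥(centralizer ({(z : G)} : Set G)), ¬ IsComponent M

variable {G : Type u} [Group G]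

theorem orderOf_z {K : Subgroup G} {t q : G} {z : K} {P : Subgroup K} (h : Emb K t q z P) :
    orderOf (z : G) = 2 := orderOf_eq_prime (by rw [pow_two]; exact h.zz) h.z1

/-- `O(C(z)) = 1` -/
theorem core_eq_bot (C : Iface.Ctx G) {z : G} (hz : orderOf z = 2) :
    pPrimeCore 2 ↥(centralizer ({z} : Set G)) = ⊥ := by
  have h1 := C.bal z hz
  rw [eq_bot_iff]
  intro x hx
  have h2 : (x : G) ∈ centralizerPPrimeCore 2 z := ⟨x, hx, rfl⟩
  rw [h1, mem_bot] at h2
  exact mem_bot.2 (Subtype.ext h2)

/-- the data of type (E) in `G` -/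
theorem data (C : Iface.Ctx G) {K : Subgroup G} {t q : G} {z : K} {P R : Subgroup K}
    (o : Out K t q z P) (sh : SheetE z P R)
    (hM : ∀ M : Subgroup ↥(centralizer ({(z : G)} : Set G)), ¬ IsComponent M) :
    TypeE.Data t (z : G) (centralizer ({t} : Set G) ⊓ centralizer ({(z : G)} : Set G))
      (P.map K.subtype) (R.map K.subtype)
      ((pCore 2 ↥(centralizer ({(z : G)} : Set G))).map (centralizer ({(z : G)} : Set G)).subtype) := by
  have hfin := C.fin
  have h := o.emb
  have hE : EmbE K t q z P R := ⟨h.st, sh⟩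
  have hbot := core_eq_bot C (orderOf_z h)
  have hlay : layer ↥(centralizer ({(z : G)} : Set G)) = ⊥ := by
    unfold layer
    rw [sSup_eq_bot]
    intro M hMc
    exact absurd hMc (hM M)
  have hself := (Cfsg.Agent.SignalizersComponents.PConstrained.centralizer_pCore_le_iff_layer_eq_bot 2
    hbot).2 hlay
  have hPz : ∀ p ∈ P.map K.subtype, p * (z : G) = z * p := by
    rintro _ ⟨p, hp, rfl⟩
    exact congrArg Subtype.val (sh.cen p hp)
  have hPt : ∀ p ∈ P.map K.subtype, p * t = t * p := by
    rintro _ ⟨p, -, rfl⟩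
    exact h.st.Kt p p.2
  -- subgroups of `P`
  have hsub : ∀ Y : Subgroup G, Y ≤ P.map K.subtype →
      (∀ n ∈ centralizer ({t} : Set G) ⊓ centralizer ({(z : G)} : Set G), ∀ y ∈ Y, n * y * n⁻¹ ∈ Y) →
      Y.subgroupOf K ≤ P ∧ (∀ x ∈ P, ∀ b ∈ Y.subgroupOf K, x * b * x⁻¹ ∈ Y.subgroupOf K) ∧
      (Y.subgroupOf K).map K.subtype = Y := by
    intro Y hY hn
    refine ⟨?_, ?_, ?_⟩
    · intro y hy
      obtain ⟨_, h2⟩ := Emb.mem_map.1 (hY (mem_subgroupOf.1 hy))
      exact h2
    · intro x hx b hb
      rw [mem_subgroupOf] at hb ⊢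
      exact hn x ⟨mem_centralizer_singleton_iff.2 (h.st.Kt x x.2),
        mem_centralizer_singleton_iff.2 (congrArg Subtype.val (sh.cen x hx))⟩ b hb
    · rw [subgroupOf_map_subtype, inf_eq_left]
      exact hY.trans (map_subtype_le _)
  exact
    { tt := h.st.tt
      zz := h.zz
      z1 := h.z1
      comm := h.comm
      pF := (Cfsg.Agent.Lib.Cores.pCore_isPGroup 2).map _
      leF := by
        rintro _ ⟨x, -, rfl⟩
        exact mem_centralizer_singleton_iff.1 x.2
      norF := by
        rintro g hg _ ⟨x, hx, rfl⟩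
        exact ⟨⟨g, mem_centralizer_singleton_iff.2 hg⟩ * x * ⟨g, mem_centralizer_singleton_iff.2 hg⟩⁻¹,
          (Cfsg.Agent.Lib.Cores.pCore_normal 2).conj_mem x hx _, rfl⟩
      selfF := by
        intro g hg hc
        refine ⟨⟨g, mem_centralizer_singleton_iff.2 hg⟩, hself ?_, rfl⟩
        rw [mem_centralizer_iff]
        intro x hx
        exact Subtype.ext (hc x ⟨x, hx, rfl⟩).symm
      hN := by
        intro n hn
        refine ⟨mem_centralizer_singleton_iff.1 hn.2, Or.inl ?_⟩
        rw [mem_centralizer_singleton_iff.1 hn.1]; group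
      cN := fun n h1 h2 => ⟨mem_centralizer_singleton_iff.2 h1, mem_centralizer_singleton_iff.2 h2⟩
      Pt := hPt
      Pz := hPz
      norP := fun n hn p hp => h.conj_P (mem_centralizer_singleton_iff.1 hn.1)
        (mem_centralizer_singleton_iff.1 hn.2) hp
      perf := by rw [← map_commutator, sh.perf]
      zP := ⟨z, sh.zP, rfl⟩
      RP := map_mono sh.RP
      core := by
        intro Y hY hY2 hn
        obtain ⟨h1, h2, h3⟩ := hsub Y hY hn
        rw [← h3]
        refine map_mono (sh.Rmax _ h1 ?_ h2)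
        exact hY2.comap_of_injective K.subtype K.subtype_injective
      irr := by
        intro Y hY hn
        obtain ⟨h1, h2, h3⟩ := hsub Y (hY.trans (map_mono sh.RP)) hn
        have h4 : Y.subgroupOf K ≤ R := by
          intro y hy
          obtain ⟨_, h5⟩ := Emb.mem_map.1 (hY (mem_subgroupOf.1 hy))
          exact h5
        rcases sh.Rmin _ h4 h2 with h5 | h5
        · left
          intro y hy
          rw [← h3] at hy
          obtain ⟨b, hb, rfl⟩ := hy
          rcases h5 b hb with e | e
          · exact Or.inl (congrArg Subtype.val e)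
          · exact Or.inr (congrArg Subtype.val e)
        · right
          rw [← h3, h5]
      nab := by
        obtain ⟨a, ha, b, hb, hab⟩ := sh.Rna
        exact ⟨a, ⟨a, ha, rfl⟩, b, ⟨b, hb, rfl⟩, fun e => hab (Subtype.ext e)⟩
      out := by
        intro n hn2 hnt hnz hc
        obtain ⟨r, hr, hrn⟩ := hE.mem_of_trivial hn2 hnt hnz (by
          intro p hp
          have h1 := hc p hp
          have h2 : p⁻¹ * (n * p * n⁻¹) = p⁻¹ * (n * p * n⁻¹ * p⁻¹) * p⁻¹⁻¹ := by group
          rw [h2]
          obtain ⟨p', hp', rfl⟩ := hp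
          obtain ⟨r', hr', e⟩ := h1
          refine ⟨p'⁻¹ * r' * p'⁻¹⁻¹, sh.Rn _ (P.inv_mem hp') r' hr', ?_⟩
          have e' : (r' : G) = n * (p' : G) * n⁻¹ * (p' : G)⁻¹ := e
          show (p' : G)⁻¹ * r' * (p' : G)⁻¹⁻¹ = _
          rw [e']
          rfl)
        rcases o.Q2 _ hrn with e | e
        · left
          have : n = r := (inv_mul_eq_one.1 e).symm
          rw [this]; exact hr
        · right
          have h1 : n = r * t := by rw [← e]; group
          have h2 : r * t = t * r := by
            obtain ⟨r', -, rfl⟩ := hr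
            exact h.st.Kt r' r'.2
          have h3 : t * n = r := by rw [h1, h2, ← mul_assoc, h.st.tt, one_mul]
          rw [h3]; exact hr }

/-- **type (E)** -/
theorem false_of_out (C : Iface.Ctx G) {K : Subgroup G} {t q : G} {z : K} {P R : Subgroup K}
    (o : Out K t q z P) (sh : SheetE z P R)
    (hM : ∀ M : Subgroup ↥(centralizer ({(z : G)} : Set G)), ¬ IsComponent M) : False := by
  have hfin := C.fin
  have D := data C o sh hM
  have hE : EmbE K t q z P R := ⟨o.emb.st, sh⟩
  obtain ⟨x, -, hxt, hxz⟩ := o.swap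
  obtain ⟨y, z₁, hyz, hz1P, hz1R, hyt⟩ := hE.exists_y hxt hxz
  refine D.absurd ?_ hyz hyt hz1P hz1R
  intro lam
  have h1 : commutator (centralizer ({(z : G)} : Set G)) ≤ lam.ker := Abelianization.commutator_subset_ker lam
  exact h1 o.com

/-- a group with a sheet has no central 2-elements -/
theorem center_eq_bot {K : Type*} [Group K] [Finite K] {z : K} {P R : Subgroup K} (sh : SheetE z P R)
    (h2 : IsPGroup 2 ↥(center K)) : center K = ⊥ := by
  rw [eq_bot_iff]
  intro y hy
  rw [mem_bot]
  obtain ⟨S, -, -, hcS⟩ := sh.syl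
  have h3 : (center K : Subgroup K) ≤ S := by
    have h4 : IsPGroup 2 ((center K ⊔ S : Subgroup K)) := h2.to_sup_of_normal_left S.isPGroup'
    have h5 := S.is_maximal' h4 le_sup_right
    exact (le_sup_left : center K ≤ center K ⊔ S).trans h5.le
  rcases hcS y (h3 hy) (fun x _ => mem_center_iff.1 hy x) with e | e
  · exact e
  · exfalso
    obtain ⟨k, -, hk, -⟩ := sh.ytrick
    apply hk
    have h4 : k * z * k⁻¹ = z := by
      rw [← e, mem_center_iff.1 hy k]; group
    rw [h4]
    exact sh.zR

/-- the front end for any `C_G(t)` -/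
theorem out_of_emb (C : Iface.Ctx G) {K : Subgroup G} {t q : G} {z : K} {P : Subgroup K}
    (h : Emb K t q z P) : Out K t q z P := by
  have hfin := C.fin
  obtain ⟨T, F⟩ := Cfsg.Agent.OddHalf.Front.OfSheet.facts h
  obtain ⟨-, hQ2, S, -, -, ⟨x, hxS, -, -, hxt, hxz⟩, hne, hcom⟩ :=
    Cfsg.Agent.OddHalf.Front.CycT.main F (commutator_eq_top C) (index_ne_two C)
  exact ⟨h, hQ2, ⟨x, S.isPGroup'.to_le (by rw [zpowers_le]; exact hxS), hxt, hxz⟩, hne, hcom⟩

/-- **FrontOuter** holds (helper971) -/
theorem frontOuter : FrontOuter.{u} := fun _ _ C _ _ _ _ _ h _ => out_of_emb C h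

/-- **the row of a sheet of type (E)**, final form -/
theorem row_of {Y : (K : Type u) → [Group K] → K → Subgroup K → Subgroup K → Prop} (hM : NoComp.{u} Y)
    {X : (K : Type u) → [Group K] → Prop}
    (hX : ∀ (K : Type u) [Group K], Finite K → X K →
      ∃ (z : K) (P R : Subgroup K), SheetE z P R ∧ Y K z P R) : Rows.Row.{u} X := by
  intro G _ C K S hcyc hK
  have hfin := C.fin
  obtain ⟨z, P, R, sh, hY⟩ := hX K inferInstance hK
  obtain ⟨t, q, st⟩ := exists_start C S hcyc (center_eq_bot sh S.z2)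
  have o : Out K t q z P := out_of_emb C ⟨st, sh.basic⟩
  exact false_of_out C o sh (hM G C K t q z P R o sh hY)

/-- **the row of a sheet of type (E)** -/
theorem row (hF : FrontOuter.{u}) (hM : NoComponent.{u}) {X : (K : Type u) → [Group K] → Prop}
    (hX : ∀ (K : Type u) [Group K], Finite K → X K → ∃ (z : K) (P R : Subgroup K), SheetE z P R) : Rows.Row.{u} X := by
  intro G _ C K S hcyc hK
  have hfin := C.fin
  obtain ⟨z, P, R, sh⟩ := hX K inferInstance hK
  obtain ⟨t, q, st⟩ := exists_start C S hcyc (center_eq_bot sh S.z2)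
  have h : Emb K t q z P := ⟨st, sh.basic⟩
  have o : Out K t q z P := by
    by_cases hodd : 2 ∣ (zpowers q ⊔ K).relIndex (centralizer ({t} : Set G))
    · exact hF G C K t q z P h hodd
    · exact out_of_odd (commutator_eq_top C) h hodd
  exact false_of_out C o sh (hM G C K t q z P R o sh)

end Cfsg.Agent.OddHalf.D8.MainE
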