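import Cfsg.Agent.OddHalf.D8.Sheet

/-!
# ODD half, D8: transport of a sheet along an isomorphism (helper915)
-/

set_option autoImplicit false

namespace Cfsg.Agent.OddHalf.D8.SheetMap

open Subgroup Cfsg.Agent.OddHalf.D8.Sheet

variable {K K' : Type*} [Group K] [Group K']

theorem dser_map (n : ℕ) (H : Subgroup K) (f : K →* K') : TR.dser n (H.map f) = (TR.dser n H).map f := by
  induction n with
  | zero => rfl
  | succ n ih => rw [TR.dser_succ', TR.dser_succ', ih, map_commutator]

theorem centralizer_map (e : K ≃* K') (z : K) :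
    centralizer ({e z} : Set K') = (centralizer ({z} : Set K)).map e.toMonoidHom := by
  ext x
  rw [mem_centralizer_singleton_iff]
  constructor
  · intro h
    refine ⟨e.symm x, mem_centralizer_singleton_iff.2 ?_, e.apply_symm_apply x⟩
    apply e.injective
    rw [map_mul, map_mul, e.apply_symm_apply]
    exact h
  · rintro ⟨y, hy, rfl⟩
    have h1 := mem_centralizer_singleton_iff.1 hy
    show e y * e z = e z * e y
    rw [← map_mul, h1, map_mul]

theorem congr_range (e : K ≃* K') :
    (MulAut.conj : K' →* MulAut K').range =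
      ((MulAut.conj : K →* MulAut K).range).map (MulAut.congr e).toMonoidHom := by
  ext x
  constructor
  · rintro ⟨g, rfl⟩
    refine ⟨MulAut.conj (e.symm g), ⟨_, rfl⟩, ?_⟩
    ext y
    show e (e.symm g * e.symm y * (e.symm g)⁻¹) = g * y * g⁻¹
    simp
  · rintro ⟨_, ⟨g, rfl⟩, rfl⟩
    refine ⟨e g, ?_⟩
    ext y
    show e g * y * (e g)⁻¹ = e (g * e.symm y * g⁻¹)
    simp

theorem index_range (e : K ≃* K') :
    (MulAut.conj : K' →* MulAut K').range.index = (MulAut.conj : K →* MulAut K).range.index := by
  rw [congr_range e]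
  exact index_map_equiv _ (MulAut.congr e)

theorem isPGroup_congr_symm (e : K ≃* K') {α : MulAut K'} (h : IsPGroup 2 (zpowers α)) :
    IsPGroup 2 (zpowers ((MulAut.congr e).symm α)) := by
  have h1 := h.map (MulAut.congr e).symm.toMonoidHom
  rwa [MonoidHom.map_zpowers] at h1

theorem schreier_map (e : K ≃* K')
    (h : ∃ n, TR.dser n (⊤ : Subgroup (MulAut K)) ≤ (MulAut.conj : K →* MulAut K).range) :
    ∃ n, TR.dser n (⊤ : Subgroup (MulAut K')) ≤ (MulAut.conj : K' →* MulAut K').range := by
  obtain ⟨n, hn⟩ := h
  refine ⟨n, ?_⟩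
  have h1 : (⊤ : Subgroup (MulAut K')) = (⊤ : Subgroup (MulAut K)).map (MulAut.congr e).toMonoidHom := by
    rw [← MonoidHom.range_eq_map, eq_comm, MonoidHom.range_eq_top]
    exact (MulAut.congr e).surjective
  rw [h1, dser_map, congr_range e]
  exact map_mono hn

theorem syl_map (e : K ≃* K') {z : K}
    (h : ∃ S : Sylow 2 K, z ∈ S ∧ (∀ x ∈ S, x * z = z * x) ∧
      ∀ y ∈ S, (∀ x ∈ S, x * y = y * x) → y = 1 ∨ y = z) :
    ∃ S : Sylow 2 K', e z ∈ S ∧ (∀ x ∈ S, x * e z = e z * x) ∧
      ∀ y ∈ S, (∀ x ∈ S, x * y = y * x) → y = 1 ∨ y = e z := by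
  obtain ⟨S, hz, hc, hS⟩ := h
  let S' : Sylow 2 K' :=
    { toSubgroup := (S : Subgroup K).map e.toMonoidHom
      isPGroup' := S.isPGroup'.map _
      is_maximal' := by
        intro Q hQ hle
        have h1 : IsPGroup 2 (Q.map e.symm.toMonoidHom) := hQ.map _
        have h2 : (S : Subgroup K) ≤ Q.map e.symm.toMonoidHom := by
          intro x hx
          exact ⟨e x, hle ⟨x, hx, rfl⟩, e.symm_apply_apply x⟩
        have h3 := S.is_maximal' h1 h2
        apply le_antisymm _ hle
        intro y hy
        have h4 : e.symm y ∈ (S : Subgroup K) := by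
          rw [← h3]
          exact ⟨y, hy, rfl⟩
        exact ⟨e.symm y, h4, e.apply_symm_apply y⟩ }
  have hmem : ∀ x, x ∈ S' ↔ e.symm x ∈ S := by
    intro x
    constructor
    · rintro ⟨y, hy, rfl⟩
      show e.symm (e y) ∈ S
      rw [e.symm_apply_apply]; exact hy
    · intro hx
      exact ⟨e.symm x, hx, e.apply_symm_apply x⟩
  refine ⟨S', (hmem _).2 (by rw [e.symm_apply_apply]; exact hz), ?_, ?_⟩
  · intro x hx
    have h1 := hc _ ((hmem x).1 hx)
    have h2 := congrArg e h1
    rw [map_mul, map_mul, e.apply_symm_apply] at h2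
    exact h2
  · intro y hy hyc
    rcases hS _ ((hmem y).1 hy) (by
      intro x hx
      have h1 := hyc (e x) ((hmem _).2 (by rw [e.symm_apply_apply]; exact hx))
      apply e.injective
      rw [map_mul, map_mul, e.apply_symm_apply]
      exact h1) with h | h
    · left
      have := congrArg e h
      rwa [e.apply_symm_apply, map_one] at this
    · right
      have := congrArg e h
      rwa [e.apply_symm_apply] at this

/-- **transport of the sheet** -/
theorem sheetE_map (e : K ≃* K') {z : K} {P R : Subgroup K} (h : SheetE z P R) :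
    SheetE (e z) (P.map e.toMonoidHom) (R.map e.toMonoidHom) := by
  have hmem : ∀ (L : Subgroup K) (x : K'), x ∈ L.map e.toMonoidHom ↔ e.symm x ∈ L := by
    intro L x
    constructor
    · rintro ⟨y, hy, rfl⟩
      show e.symm (e y) ∈ L
      rw [e.symm_apply_apply]; exact hy
    · intro hx
      exact ⟨e.symm x, hx, e.apply_symm_apply x⟩
  have hcomap : ∀ B : Subgroup K', (B.comap e.toMonoidHom).map e.toMonoidHom = B := fun B =>
    map_comap_eq_self_of_surjective e.surjective B
  -- conjugation invariance pulls back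
  have hinv : ∀ B : Subgroup K', (∀ x ∈ P.map e.toMonoidHom, ∀ b ∈ B, x * b * x⁻¹ ∈ B) →
      ∀ x ∈ P, ∀ b ∈ B.comap e.toMonoidHom, x * b * x⁻¹ ∈ B.comap e.toMonoidHom := by
    intro B hB x hx b hb
    show e (x * b * x⁻¹) ∈ B
    rw [map_mul, map_mul, map_inv]
    exact hB _ ⟨x, hx, rfl⟩ _ hb
  exact
    { zz := by rw [← map_mul, h.zz, map_one]
      z1 := fun e1 => h.z1 (e.injective (by rw [e1, map_one]))
      syl := syl_map e h.syl
      cen := by
        rintro _ ⟨x, hx, rfl⟩
        show e x * e z = e z * e x
        rw [← map_mul, h.cen x hx, map_mul]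
      perf := by rw [← map_commutator, h.perf]
      der := by
        obtain ⟨m, hm⟩ := h.der
        refine ⟨m, ?_⟩
        rw [centralizer_map e, dser_map]
        exact map_mono hm
      out := by rw [index_range e]; exact h.out
      schreier := schreier_map e h.schreier
      zR := ⟨z, h.zR, rfl⟩
      RP := map_mono h.RP
      R2 := h.R2.map _
      Rn := by
        rintro _ ⟨x, hx, rfl⟩ _ ⟨r, hr, rfl⟩
        refine ⟨x * r * x⁻¹, h.Rn x hx r hr, ?_⟩
        show e (x * r * x⁻¹) = e x * e r * (e x)⁻¹
        rw [map_mul, map_mul, map_inv]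
      Rmax := by
        intro B hB hB2 hBn
        rw [← hcomap B]
        refine map_mono (h.Rmax _ ?_ (hB2.comap_of_injective _ e.injective) (hinv B hBn))
        intro x hx
        have h1 := (hmem P _).1 (hB hx)
        have e1 : e.symm (e.toMonoidHom x) = x := e.symm_apply_apply x
        rwa [e1] at h1
      Rmin := by
        intro B hB hBn
        rcases h.Rmin (B.comap e.toMonoidHom) (by
          intro x hx
          have h1 := (hmem R _).1 (hB hx)
          have e1 : e.symm (e.toMonoidHom x) = x := e.symm_apply_apply x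
          rwa [e1] at h1) (hinv B hBn) with h1 | h1
        · left
          intro b hb
          have h2 : e.symm b ∈ B.comap e.toMonoidHom := by
            show e (e.symm b) ∈ B
            rw [e.apply_symm_apply]; exact hb
          rcases h1 _ h2 with e2 | e2
          · left
            have := congrArg e e2
            rwa [e.apply_symm_apply, map_one] at this
          · right
            have := congrArg e e2
            rwa [e.apply_symm_apply] at this
        · right
          rw [← hcomap B, h1]
      Rna := by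
        obtain ⟨a, ha, b, hb, hab⟩ := h.Rna
        refine ⟨e a, ⟨a, ha, rfl⟩, e b, ⟨b, hb, rfl⟩, fun e1 => hab (e.injective ?_)⟩
        rw [map_mul, map_mul]; exact e1
      cR := by
        rintro _ ⟨x, hx, rfl⟩ hc
        refine ⟨x, h.cR x hx fun r hr => e.injective ?_, rfl⟩
        rw [map_mul, map_mul]
        exact hc _ ⟨r, hr, rfl⟩
      aut := by
        intro α hα hαz hα2
        obtain ⟨r, hr, e1⟩ := h.aut ((MulAut.congr e).symm α) (isPGroup_congr_symm e hα)
          (by
            show e.symm (α (e z)) = z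
            rw [hαz, e.symm_apply_apply])
          (by
            intro x hx
            have h1 := (hmem R _).1 (hα2 (e x) ⟨x, hx, rfl⟩)
            rw [map_mul, map_inv, e.symm_apply_apply] at h1
            exact h1)
        refine ⟨e r, ⟨r, hr, rfl⟩, ?_⟩
        have e2 : α = (MulAut.congr e) (MulAut.conj r) := by
          rw [← e1, MulEquiv.apply_symm_apply]
        rw [e2]
        ext y
        show e (r * e.symm y * r⁻¹) = e r * y * (e r)⁻¹
        simp
      ytrick := by
        obtain ⟨k, hk1, hk2, hw, hk3⟩ := h.ytrick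
        have e1 : e k * e z * (e k)⁻¹ = e (k * z * k⁻¹) := by simp
        have e2 : (e k)⁻¹ * e z * e k = e (k⁻¹ * z * k) := by simp
        refine ⟨e k, ?_, ?_, ?_, ?_⟩
        · rw [e1]; exact ⟨_, hk1, rfl⟩
        · rw [e1, hmem, e.symm_apply_apply]; exact hk2
        · rw [e2]; exact ⟨_, hw, rfl⟩
        · intro β hβ
          let f : P ≃* P.map e.toMonoidHom := e.subgroupMap P
          have hf : ∀ x : P, ((f x : P.map e.toMonoidHom) : K') = e x := fun x => rfl
          have hfs : ∀ y : P.map e.toMonoidHom, ((f.symm y : P) : K) = e.symm y := by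
            intro y
            apply e.injective
            rw [e.apply_symm_apply, ← hf, f.apply_symm_apply]
          let γ : MulAut P := (MulAut.congr f).symm β
          have hγ : ∀ x : P, (γ x : K) = e.symm ((β (f x) : P.map e.toMonoidHom) : K') := fun x => hfs _
          obtain ⟨p, hpz, hp⟩ := hk3 γ (by
            rw [hγ]
            have : f ⟨z, h.RP h.zR⟩ = ⟨e z, map_mono h.RP ⟨z, h.zR, rfl⟩⟩ := Subtype.ext rfl
            rw [this, hβ, e.symm_apply_apply])
          refine ⟨e p, by rw [← map_mul, hpz, map_mul], ?_⟩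
          rw [hγ] at hp
          have h3 := congrArg e hp
          rw [e.apply_symm_apply] at h3
          have h4 : f ⟨k⁻¹ * z * k, hw⟩ = ⟨(e k)⁻¹ * e z * e k, by rw [e2]; exact ⟨_, hw, rfl⟩⟩ :=
            Subtype.ext e2.symm
          rw [h4] at h3
          rw [h3]
          simp }

end Cfsg.Agent.OddHalf.D8.SheetMap
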