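import Mathlib

/-!
The sign kill. `G` finite, `t` an involution of `N ≤ G`, `M ⊴ N`, `t` and all involutions of `t M`
conjugate under `M`, `C_G(t) = ⟨t⟩ × K`, `(K ∩ N) M / M ≅ L` where `L` has Sylow 2-subgroups of
order 8, one class of involutions and `1 mod 4` involutions. If `t w` is conjugate to `t` in `N`,
`w` is not conjugate to `t` in `G` and `|K : K ∩ N|` is odd, the sign of the conjugation action of
`N` on the class of `t M` transfers to a homomorphism `G → {± 1}` with `t ↦ -1`.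
-/

set_option autoImplicit false

namespace Cfsg.Agent.OddHalf.D8.SignKill

open MulAction

section Transfer

variable {G : Type*} [Group G] [Finite G]

/-- transfer of a sign: only the cosets in the orbit of the base point under `K` count. -/
theorem transfer_eq_neg_one (N K : Subgroup G) (φ : N →* ℤˣ) (t : G) (ht2 : t * t = 1)
    (htN : t ∈ N) (hφt : φ ⟨t, htN⟩ = -1)
    (hφ : ∀ x : G, ∀ hx : x ∈ N, IsConj t x → (¬ ∃ n ∈ N, n * t * n⁻¹ = x) → φ ⟨x, hx⟩ = 1)
    (hKt : ∀ k ∈ K, k * t = t * k)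
    (hK : ∀ c : G, c * t = t * c → ∃ k ∈ K, ∃ n ∈ N, c = k * n)
    (hodd : Odd (N.relIndex K)) : MonoidHom.transfer φ t = -1 := by
  classical
  have hfin : Finite (G ⧸ N) := inferInstance
  have := Fintype.ofFinite (G ⧸ N)
  have := Fintype.ofFinite (Quotient (orbitRel (Subgroup.zpowers t) (G ⧸ N)))
  rw [MonoidHom.transfer_eq_prod_quotient_orbitRel_zpowers_quot]
  set S : Set (G ⧸ N) := orbit K ((1 : G) : G ⧸ N) with hS
  have hmemS : ∀ x : G ⧸ N, x ∈ S ↔ ∃ k ∈ K, ((k : G) : G ⧸ N) = x := by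
    intro x
    rw [hS, mem_orbit_iff]
    constructor
    · rintro ⟨k, hk⟩
      refine ⟨k, k.2, ?_⟩
      rw [← hk]
      show _ = ((k : G) • ((1 : G) : G ⧸ N))
      rw [MulAction.Quotient.smul_coe, smul_eq_mul, mul_one]
    · rintro ⟨k, hk, hkx⟩
      refine ⟨⟨k, hk⟩, ?_⟩
      rw [← hkx]
      show ((k : G) • ((1 : G) : G ⧸ N)) = _
      rw [MulAction.Quotient.smul_coe, smul_eq_mul, mul_one]
  have hfixS : ∀ x ∈ S, t • x = x := by
    intro x hx
    obtain ⟨k, hk, hkx⟩ := (hmemS x).mp hx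
    rw [← hkx, MulAction.Quotient.smul_coe, smul_eq_mul, ← hKt k hk]
    rw [QuotientGroup.eq]
    have : (k * t)⁻¹ * k = t⁻¹ := by group
    rw [this]
    exact N.inv_mem htN
  have hmin : ∀ x : G ⧸ N, Function.minimalPeriod (t • ·) x = 1 ∨
      Function.minimalPeriod (t • ·) x = 2 := by
    intro x
    have h1 : Function.IsPeriodicPt (t • ·) 2 x := by
      show (t • ·)^[2] x = x
      simp only [Function.iterate_succ, Function.iterate_zero, Function.comp, id]
      rw [← mul_smul, ht2, one_smul]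
    exact (Nat.dvd_prime Nat.prime_two).mp h1.minimalPeriod_dvd
  have hminS : ∀ x ∈ S, Function.minimalPeriod (t • ·) x = 1 := by
    intro x hx
    rw [Function.minimalPeriod_eq_one_iff_isFixedPt]
    exact hfixS x hx
  have hfac : ∀ q : Quotient (orbitRel (Subgroup.zpowers t) (G ⧸ N)),
      φ ⟨q.out.out⁻¹ * t ^ Function.minimalPeriod (t • ·) q.out * q.out.out,
        QuotientGroup.out_conj_pow_minimalPeriod_mem N t q.out⟩ =
      if q.out ∈ S then -1 else 1 := by
    intro q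
    have hmem := QuotientGroup.out_conj_pow_minimalPeriod_mem N t q.out
    split_ifs with hq
    · obtain ⟨k, hk, hkx⟩ := (hmemS _).mp hq
      have h1 := hminS _ hq
      have h2 : k⁻¹ * q.out.out ∈ N := by
        rw [← QuotientGroup.eq, hkx, QuotientGroup.out_eq']
      set n : N := ⟨k⁻¹ * q.out.out, h2⟩ with hn
      have h3 : (⟨q.out.out⁻¹ * t ^ Function.minimalPeriod (t • ·) q.out * q.out.out, hmem⟩ : N) =
          n⁻¹ * ⟨t, htN⟩ * n := by
        apply Subtype.ext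
        simp only [h1, pow_one, Subgroup.coe_mul, Subgroup.coe_inv, hn]
        have h4 : k * t * k⁻¹ = t := by rw [hKt k hk]; group
        calc q.out.out⁻¹ * t * q.out.out = q.out.out⁻¹ * (k * t * k⁻¹) * q.out.out := by rw [h4]
          _ = _ := by group
      rw [h3, map_mul, map_mul, map_inv, hφt, mul_comm, ← mul_assoc, mul_inv_cancel, one_mul]
    · rcases hmin q.out with h | h
      · have hmem' : q.out.out⁻¹ * t * q.out.out ∈ N := by
          have := hmem
          rwa [h, pow_one] at this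
        have h3 : (⟨q.out.out⁻¹ * t ^ Function.minimalPeriod (t • ·) q.out * q.out.out, hmem⟩ : N) =
            ⟨q.out.out⁻¹ * t * q.out.out, hmem'⟩ := by
          apply Subtype.ext
          simp only [h, pow_one]
        rw [h3]
        apply hφ
        · rw [isConj_iff]
          exact ⟨q.out.out⁻¹, by simp only [inv_inv]⟩
        · rintro ⟨n, hn, hnx⟩
          apply hq
          have h5 : (q.out.out * n) * t = t * (q.out.out * n) := by
            have h6 : q.out.out * (n * t * n⁻¹) * q.out.out⁻¹ = t := by rw [hnx]; group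
            calc (q.out.out * n) * t = (q.out.out * (n * t * n⁻¹) * q.out.out⁻¹) *
                  (q.out.out * n) := by group
              _ = _ := by rw [h6]
          obtain ⟨k, hk, n', hn', hkn⟩ := hK _ h5
          rw [hmemS]
          refine ⟨k, hk, ?_⟩
          have h7 : ((k : G) : G ⧸ N) = ((q.out.out : G) : G ⧸ N) := by
            rw [QuotientGroup.eq]
            have h8 : q.out.out = k * n' * n⁻¹ := by rw [← hkn]; group
            have h9 : k⁻¹ * q.out.out = n' * n⁻¹ := by rw [h8]; group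
            rw [h9]
            exact N.mul_mem hn' (N.inv_mem hn)
          rw [h7, QuotientGroup.out_eq']
      · have key : (⟨q.out.out⁻¹ * t ^ Function.minimalPeriod (t • ·) q.out * q.out.out,
          QuotientGroup.out_conj_pow_minimalPeriod_mem N t q.out⟩ : N) = 1 := by
          apply Subtype.ext
          simp only [Subgroup.coe_one]
          rw [h, pow_two, ht2]
          group
        rw [key, map_one]
  rw [Finset.prod_congr rfl (fun q _ => hfac q), Finset.prod_ite, Finset.prod_const_one, mul_one,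
    Finset.prod_const]
  have hcard : (Finset.univ.filter (fun q : Quotient (orbitRel (Subgroup.zpowers t) (G ⧸ N)) =>
      q.out ∈ S)).card = N.relIndex K := by
    have h1 : (Finset.univ.filter (fun q : Quotient (orbitRel (Subgroup.zpowers t) (G ⧸ N)) =>
      q.out ∈ S)).card = (Finset.univ.filter (fun x : G ⧸ N => x ∈ S)).card := by
      refine Finset.card_bij (fun q _ => q.out) ?_ ?_ ?_
      · intro q hq
        simpa using hq
      · intro q _ q' _ h
        rw [← Quotient.out_eq q, ← Quotient.out_eq q', h]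
      · intro x hx
        have hxS : x ∈ S := by simpa using hx
        have h2 : (Quotient.mk (orbitRel (Subgroup.zpowers t) (G ⧸ N)) x).out = x := by
          have h3 : (orbitRel (Subgroup.zpowers t) (G ⧸ N))
              (Quotient.mk (orbitRel (Subgroup.zpowers t) (G ⧸ N)) x).out x :=
            Quotient.mk_out x
          rw [orbitRel_apply, mem_orbit_iff] at h3
          obtain ⟨⟨y, hy⟩, h4⟩ := h3
          obtain ⟨m, rfl⟩ := Subgroup.mem_zpowers_iff.mp hy
          rw [← h4]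
          show t ^ m • x = x
          have h5 : t ∈ stabilizer G x := hfixS x hxS
          exact (stabilizer G x).zpow_mem h5 m
        refine ⟨Quotient.mk _ x, ?_, h2⟩
        simp only [Finset.mem_filter, Finset.mem_univ, true_and, h2]
        exact hxS
    rw [h1]
    have h2 : (Finset.univ.filter (fun x : G ⧸ N => x ∈ S)).card = S.ncard := by
      rw [← Set.ncard_coe_finset]
      congr 1
      ext x
      simp
    rw [h2, hS, ← MulAction.index_stabilizer]
    show _ = (N.subgroupOf K).index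
    congr 1
    ext k
    rw [mem_stabilizer_iff, Subgroup.mem_subgroupOf]
    show ((k : G) • ((1 : G) : G ⧸ N)) = _ ↔ _
    rw [MulAction.Quotient.smul_coe, smul_eq_mul, mul_one, eq_comm, QuotientGroup.eq, inv_one,
      one_mul]
  rw [hcard]
  exact hodd.neg_one_pow

end Transfer

section Sign

variable {Y : Type*} [Group Y] [Finite Y]

/-- the conjugation action on the class of `τ` -/
def conjPerm (τ : Y) : Y →* Equiv.Perm {y : Y // IsConj τ y} where
  toFun g :=
    { toFun := fun d => ⟨g * d * g⁻¹, d.2.trans (isConj_iff.mpr ⟨g, rfl⟩)⟩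
      invFun := fun d => ⟨g⁻¹ * d * g, d.2.trans (isConj_iff.mpr ⟨g⁻¹, by simp⟩)⟩
      left_inv := fun d => Subtype.ext (by simp [mul_assoc])
      right_inv := fun d => Subtype.ext (by simp [mul_assoc]) }
  map_one' := by
    ext d
    simp
  map_mul' g h := by
    ext d
    simp [mul_assoc]

open Classical in
/-- the sign of the conjugation action on the class of `τ` -/
noncomputable def mu (τ : Y) : Y →* ℤˣ :=
  letI := Fintype.ofFinite {y : Y // IsConj τ y}
  Equiv.Perm.sign.comp (conjPerm τ)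

theorem mu_eq (τ y : Y) (hy : y * y = 1) :
    mu τ y = (-1) ^ ((Nat.card {d : Y // IsConj τ d} -
      Nat.card {d : Y // IsConj τ d ∧ y * d = d * y}) / 2) := by
  classical
  let := Fintype.ofFinite {y : Y // IsConj τ y}
  have h1 : mu τ y = Equiv.Perm.sign (conjPerm τ y) := by
    unfold mu
    simp only [MonoidHom.comp_apply]
  have h2 : (conjPerm τ y) ^ 2 = 1 := by
    rw [← map_pow, pow_two, hy, map_one]
  rw [h1, Equiv.Perm.sign_of_pow_two_eq_one h2, ← Nat.card_eq_fintype_card]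
  congr 3
  rw [← Nat.card_eq_fintype_card]
  refine Nat.card_congr
    { toFun := fun x => ⟨x.1.1, x.1.2, ?_⟩
      invFun := fun d => ⟨⟨d.1, d.2.1⟩, ?_⟩
      left_inv := fun x => rfl
      right_inv := fun x => rfl }
  · have h3 : y * x.1.1 * y⁻¹ = x.1.1 := congrArg Subtype.val x.2
    exact mul_inv_eq_iff_eq_mul.mp h3
  · apply Subtype.ext
    show y * d.1 * y⁻¹ = d.1
    exact mul_inv_eq_iff_eq_mul.mpr d.2.2

/-- `C_Y(τ) = ⟨τ⟩ × L`, `τ w ~ τ` for all involutions `w ∈ L`, `L` misses the class of `τ`. -/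
theorem card_fixed (τ : Y) (hτ : τ * τ = 1) (L : Subgroup Y) (hLτ : ∀ l ∈ L, l * τ = τ * l)
    (hC : ∀ y : Y, y * τ = τ * y → y ∈ L ∨ τ * y ∈ L)
    (hw : ∀ w ∈ L, w * w = 1 → w ≠ 1 → IsConj τ (τ * w))
    (hw' : ∀ w ∈ L, ¬ IsConj τ w) :
    Nat.card {d : Y // IsConj τ d ∧ τ * d = d * τ} =
      Nat.card {l : L // l * l = 1 ∧ l ≠ 1} + 1 := by
  classical
  have hsq : ∀ d : Y, IsConj τ d → d * d = 1 := by
    intro d hd
    obtain ⟨c, rfl⟩ := isConj_iff.mp hd
    calc c * τ * c⁻¹ * (c * τ * c⁻¹) = c * (τ * τ) * c⁻¹ := by group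
      _ = 1 := by rw [hτ]; group
  rw [← Finite.card_option]
  refine Nat.card_congr
    { toFun := fun d => if h : d.1 = τ then none else
        some ⟨⟨τ * d.1, ?_⟩, ?_, ?_⟩
      invFun := fun l => match l with
        | none => ⟨τ, IsConj.refl τ, rfl⟩
        | some l => ⟨τ * l.1.1, hw _ l.1.2 ?_ ?_, ?_⟩
      left_inv := ?_
      right_inv := ?_ }
  · rcases hC d.1 d.2.2.symm with h1 | h1
    · exact absurd d.2.1 (hw' _ h1)
    · exact h1
  · apply Subtype.ext
    show τ * d.1 * (τ * d.1) = 1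
    calc τ * d.1 * (τ * d.1) = τ * (d.1 * τ) * d.1 := by simp only [mul_assoc]
      _ = τ * (τ * d.1) * d.1 := by rw [d.2.2]
      _ = (τ * τ) * (d.1 * d.1) := by simp only [mul_assoc]
      _ = 1 := by rw [hτ, hsq _ d.2.1, mul_one]
  · intro h1
    have h2 : τ * d.1 = 1 := congrArg Subtype.val h1
    apply h
    calc d.1 = τ * (τ * d.1) := by rw [← mul_assoc, hτ, one_mul]
      _ = τ := by rw [h2, mul_one]
  · exact congrArg Subtype.val l.2.1
  · intro h1
    exact l.2.2 (Subtype.ext h1)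
  · show τ * (τ * l.1.1) = τ * l.1.1 * τ
    rw [mul_assoc τ l.1.1 τ, hLτ _ l.1.2]
  · rintro ⟨d, hd⟩
    by_cases h : d = τ
    · simp only [h, dite_true]
    · simp only [h, dite_false]
      apply Subtype.ext
      show τ * (τ * d) = d
      rw [← mul_assoc, hτ, one_mul]
  · intro l
    match l with
    | none => simp
    | some l =>
      have h1 : ¬ τ * l.1.1 = τ := by
        intro h2
        apply l.2.2
        apply Subtype.ext
        show l.1.1 = 1
        exact mul_eq_left.mp h2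
      simp only [h1, dite_false]
      congr 1
      apply Subtype.ext
      apply Subtype.ext
      show τ * (τ * l.1.1) = l.1.1
      rw [← mul_assoc, hτ, one_mul]

theorem mu_self (τ : Y) (hτ : τ * τ = 1) (L : Subgroup Y) (hLτ : ∀ l ∈ L, l * τ = τ * l)
    (hC : ∀ y : Y, y * τ = τ * y → y ∈ L ∨ τ * y ∈ L)
    (hw : ∀ w ∈ L, w * w = 1 → w ≠ 1 → IsConj τ (τ * w))
    (hw' : ∀ w ∈ L, ¬ IsConj τ w)
    (hI : Nat.card {l : L // l * l = 1 ∧ l ≠ 1} % 4 = 1)
    (h4 : 4 ∣ Nat.card {d : Y // IsConj τ d}) : mu τ τ = -1 := by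
  rw [mu_eq τ τ hτ, card_fixed τ hτ L hLτ hC hw hw']
  have hle : Nat.card {d : Y // IsConj τ d ∧ τ * d = d * τ} ≤ Nat.card {d : Y // IsConj τ d} :=
    Nat.card_le_card_of_injective (fun d => ⟨d.1, d.2.1⟩) (by
      intro a b h
      exact Subtype.ext (Subtype.mk.inj h))
  rw [card_fixed τ hτ L hLτ hC hw hw'] at hle
  apply Odd.neg_one_pow
  rw [Nat.odd_iff]
  omega

theorem mu_other (τ : Y) (hτ : τ * τ = 1) (L : Subgroup Y)
    (hC : ∀ y : Y, y * τ = τ * y → y ∈ L ∨ τ * y ∈ L)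
    (hLperf : ∀ f : L →* ℤˣ, ∀ l, f l = 1)
    (hw : ∀ w ∈ L, w * w = 1 → w ≠ 1 → IsConj τ (τ * w))
    (h4 : 4 ∣ Nat.card {d : Y // IsConj τ d}) (y : Y) (hy : y * y = 1) (hny : ¬ IsConj τ y) :
    mu τ y = 1 := by
  by_cases h : ∃ d, IsConj τ d ∧ y * d = d * y
  · obtain ⟨d, hd, hyd⟩ := h
    obtain ⟨c, rfl⟩ := isConj_iff.mp hd
    set y' := c⁻¹ * y * c with hy'
    have h1 : y' * τ = τ * y' := by
      calc y' * τ = c⁻¹ * (y * (c * τ * c⁻¹)) * c := by rw [hy']; group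
        _ = c⁻¹ * (c * τ * c⁻¹ * y) * c := by rw [hyd]
        _ = τ * y' := by rw [hy']; group
    have h2 : y' * y' = 1 := by
      calc y' * y' = c⁻¹ * (y * y) * c := by rw [hy']; group
        _ = 1 := by rw [hy]; group
    have h3 : y = c * y' * c⁻¹ := by rw [hy']; group
    rcases hC y' h1 with h4 | h4
    · have h5 := hLperf ((mu τ).comp L.subtype) ⟨y', h4⟩
      have h6 : mu τ y' = 1 := h5
      rw [h3, map_mul, map_mul, h6, mul_one, map_inv, mul_inv_cancel]
    · exfalso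
      have h5 : (τ * y') * (τ * y') = 1 := by
        calc (τ * y') * (τ * y') = τ * (y' * τ) * y' := by simp only [mul_assoc]
          _ = (τ * τ) * (y' * y') := by rw [h1]; simp only [mul_assoc]
          _ = 1 := by rw [hτ, h2, mul_one]
      have h6 : τ * (τ * y') = y' := by rw [← mul_assoc, hτ, one_mul]
      apply hny
      rw [h3]
      refine IsConj.trans ?_ (isConj_iff.mpr ⟨c, rfl⟩)
      by_cases h7 : τ * y' = 1
      · have h8 : y' = τ := by rw [← h6, h7, mul_one]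
        rw [h8]
      · have h8 := hw _ h4 h5 h7
        rwa [h6] at h8
  · rw [mu_eq τ y hy]
    have h1 : Nat.card {d : Y // IsConj τ d ∧ y * d = d * y} = 0 := by
      rw [Nat.card_eq_zero]
      left
      exact ⟨fun d => h ⟨d.1, d.2⟩⟩
    rw [h1]
    apply Even.neg_one_pow
    rw [Nat.even_iff]
    omega

omit [Finite Y] in
/-- orbit-stabiliser for conjugates of `τ` -/
theorem card_eq (τ : Y) (S : Subgroup Y) (X : Set Y) (h1 : ∀ s ∈ S, s * τ * s⁻¹ ∈ X)
    (h2 : ∀ x ∈ X, ∃ s ∈ S, s * τ * s⁻¹ = x) :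
    Nat.card S = Nat.card X * Nat.card ↥(S ⊓ Subgroup.centralizer {τ}) := by
  classical
  choose! s hs hs' using h2
  rw [← Nat.card_prod]
  refine Nat.card_congr
    { toFun := fun g => (⟨g.1 * τ * (g.1)⁻¹, h1 _ g.2⟩,
        ⟨(s (g.1 * τ * (g.1)⁻¹))⁻¹ * g.1, ?_, ?_⟩)
      invFun := fun p => ⟨s p.1.1 * p.2.1, S.mul_mem (hs _ p.1.2) p.2.2.1⟩
      left_inv := ?_
      right_inv := ?_ }
  · exact S.mul_mem (S.inv_mem (hs _ (h1 _ g.2))) g.2
  · show _ ∈ Subgroup.centralizer {τ}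
    rw [Subgroup.mem_centralizer_singleton_iff]
    have h3 := hs' _ (h1 _ g.2)
    set u := s (g.1 * τ * (g.1)⁻¹) with hu
    have h4 : u⁻¹ * (g.1 * τ * (g.1)⁻¹) * u = τ := by rw [← h3]; group
    calc u⁻¹ * g.1 * τ = u⁻¹ * (g.1 * τ * (g.1)⁻¹) * u * (u⁻¹ * g.1) := by group
      _ = τ * (u⁻¹ * g.1) := by rw [h4]
  · intro g
    apply Subtype.ext
    show s (g.1 * τ * (g.1)⁻¹) * ((s (g.1 * τ * (g.1)⁻¹))⁻¹ * g.1) = g.1
    group
  · rintro ⟨⟨x, hx⟩, ⟨c, hc1, hc2⟩⟩
    have hc3 : c ∈ Subgroup.centralizer {τ} := hc2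
    rw [Subgroup.mem_centralizer_singleton_iff] at hc3
    have h3 : s x * c * τ * (s x * c)⁻¹ = x := by
      calc s x * c * τ * (s x * c)⁻¹ = s x * (c * τ) * c⁻¹ * (s x)⁻¹ := by group
        _ = s x * (τ * c) * c⁻¹ * (s x)⁻¹ := by rw [hc3]
        _ = s x * τ * (s x)⁻¹ := by group
        _ = x := hs' x hx
    apply Prod.ext
    · exact Subtype.ext h3
    · apply Subtype.ext
      show (s (s x * c * τ * (s x * c)⁻¹))⁻¹ * (s x * c) = c
      rw [h3]
      group

omit [Finite Y] in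
/-- `|T| = 2 |T ∩ L|` for `τ ∈ T ≤ C(τ)` -/
theorem card_two (τ : Y) (L T : Subgroup Y) (hτL : τ ∉ L) (hτ : τ * τ = 1)
    (hLτ : ∀ l ∈ L, l * τ = τ * l)
    (hT : ∀ y ∈ T, y ∈ L ∨ τ * y ∈ L) (hτT : τ ∈ T) :
    Nat.card T = 2 * Nat.card ↥(T ⊓ L) := by
  have h1 : (L.subgroupOf T).index = 2 := by
    rw [Subgroup.index_eq_two_iff]
    refine ⟨⟨τ, hτT⟩, fun b => ?_⟩
    simp only [Subgroup.mem_subgroupOf, Subgroup.coe_mul]
    have hτi : τ⁻¹ = τ := by
      rw [inv_eq_iff_mul_eq_one, hτ]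
    rcases hT b.1 b.2 with h | h
    · right
      refine ⟨h, fun h2 => hτL ?_⟩
      have h3 := L.mul_mem (L.inv_mem h) h2
      rwa [inv_mul_cancel_left] at h3
    · left
      have h5 : (b : Y) * τ ∈ L := by
        have h6 := hLτ _ h
        -- τ b τ = τ τ b = b
        have h7 : τ * b.1 * τ = b.1 := by rw [h6, ← mul_assoc, hτ, one_mul]
        have h8 : (b : Y) * τ = τ * b.1 := by
          calc (b : Y) * τ = (τ * b.1 * τ) * τ := by rw [h7]
            _ = τ * b.1 := by rw [mul_assoc, hτ, mul_one]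
        rw [h8]
        exact h
      refine ⟨h5, fun h2 => hτL ?_⟩
      have h3 := L.mul_mem (L.inv_mem h2) h5
      rwa [inv_mul_cancel_left] at h3
  have h2 := Subgroup.card_mul_index (L.subgroupOf T)
  rw [h1] at h2
  have h3 : Nat.card ↥(L.subgroupOf T) = Nat.card ↥(T ⊓ L) := by
    rw [← Subgroup.inf_subgroupOf_left]
    exact Nat.card_congr (Subgroup.subgroupOfEquivOfLe inf_le_left).toEquiv
  rw [h3] at h2
  omega

/-- `4` divides the length of the class of `τ` -/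
theorem four_dvd (τ : Y) (hτ : τ * τ = 1) (L : Subgroup Y) (hτL : τ ∉ L)
    (hLτ : ∀ l ∈ L, l * τ = τ * l)
    (hC : ∀ y : Y, y * τ = τ * y → y ∈ L ∨ τ * y ∈ L)
    (v w : Y) (hv : v ∈ L) (hw : w ∈ L) (hvv : v * v = 1) (hww : w * w = 1) (hv1 : v ≠ 1)
    (hw1 : w ≠ 1) (hne : v ≠ w) (hvw : v * w = w * v)
    (y z : Y) (hyτ : y * τ * y⁻¹ = τ * v) (hyv : y * v = v * y) (hyw : y * w = w * y)
    (hzτ : z * τ * z⁻¹ = τ * w) (hzv : z * v = v * z) (hzw : z * w = w * z)
    (R : Subgroup Y) (hRL : R ≤ L) (hR8 : 8 ∣ Nat.card R)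
    (hRv : ∀ r ∈ R, r * v * r⁻¹ = v ∨ r * v * r⁻¹ = w ∨ r * v * r⁻¹ = v * w)
    (hRw : ∀ r ∈ R, r * w * r⁻¹ = v ∨ r * w * r⁻¹ = w ∨ r * w * r⁻¹ = v * w)
    (h16 : ¬ 16 ∣ Nat.card L) :
    4 ∣ Nat.card {d : Y // IsConj τ d} := by
  classical
  have hvτ := hLτ v hv
  have hwτ := hLτ w hw
  set X : Set Y := {τ, τ * v, τ * w, τ * (v * w)} with hX
  have hmX : ∀ x, x ∈ X ↔ x = τ ∨ x = τ * v ∨ x = τ * w ∨ x = τ * (v * w) := by
    intro x
    simp [hX]
  have hcardX : Nat.card X = 4 := by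
    have h1 : X = ((({τ, τ * v, τ * w, τ * (v * w)} : Finset Y)) : Set Y) := by
      rw [hX]; simp
    have hvw1 : v * w ≠ 1 := by
      intro h
      apply hne
      calc v = v * (w * w) := by rw [hww, mul_one]
        _ = (v * w) * w := by rw [mul_assoc]
        _ = w := by rw [h, one_mul]
    rw [h1, Nat.card_coe_set_eq, Set.ncard_coe_finset]
    rw [Finset.card_insert_of_notMem, Finset.card_insert_of_notMem, Finset.card_insert_of_notMem,
      Finset.card_singleton]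
    · simp only [Finset.mem_singleton, mul_right_inj]
      intro h
      exact hv1 (mul_eq_right.mp h.symm)
    · simp only [Finset.mem_insert, Finset.mem_singleton, mul_right_inj]
      rintro (h | h)
      · exact hne h
      · exact hw1 (mul_eq_left.mp h.symm)
    · simp only [Finset.mem_insert, Finset.mem_singleton]
      rintro (h | h | h)
      · exact hv1 (mul_eq_left.mp h.symm)
      · exact hw1 (mul_eq_left.mp h.symm)
      · exact hvw1 (mul_eq_left.mp h.symm)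
  let S : Subgroup Y :=
    { carrier := {g | ∀ h ∈ X, g * h * g⁻¹ ∈ X ∧ g⁻¹ * h * g ∈ X}
      one_mem' := fun h hh => by simpa using hh
      mul_mem' := by
        intro a b ha hb h hh
        refine ⟨?_, ?_⟩
        · have := (ha _ (hb _ hh).1).1
          have e : a * b * h * (a * b)⁻¹ = a * (b * h * b⁻¹) * a⁻¹ := by group
          rw [e]; exact this
        · have := (hb _ (ha _ hh).2).2
          have e : (a * b)⁻¹ * h * (a * b) = b⁻¹ * (a⁻¹ * h * a) * b := by group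
          rw [e]; exact this
      inv_mem' := by
        intro a ha h hh
        refine ⟨?_, ?_⟩
        · rw [inv_inv]; exact (ha _ hh).2
        · rw [inv_inv]; exact (ha _ hh).1 }
  have hmS : ∀ g, g ∈ S ↔ ∀ h ∈ X, g * h * g⁻¹ ∈ X ∧ g⁻¹ * h * g ∈ X := fun g => Iff.rfl
  -- `v`, `w` as conjugates
  have hsq : ∀ a b : Y, a * b * a⁻¹ = (a * b) * a⁻¹ := fun a b => rfl
  -- an element conjugating `X` into `X` twice
  have hswap : ∀ g : Y, (∀ h ∈ X, g * h * g⁻¹ ∈ X) → (∀ h ∈ X, g * (g * h * g⁻¹) * g⁻¹ = h) →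
      g ∈ S := by
    intro g h1 h2 h hh
    refine ⟨h1 h hh, ?_⟩
    have h3 : g⁻¹ * h * g = g * h * g⁻¹ := by
      have h4 := h2 h hh
      calc g⁻¹ * h * g = g⁻¹ * (g * (g * h * g⁻¹) * g⁻¹) * g := by rw [h4]
        _ = g * h * g⁻¹ := by group
    rw [h3]
    exact h1 h hh
  have hconj : ∀ g a b : Y, g * (a * b) * g⁻¹ = (g * a * g⁻¹) * (g * b * g⁻¹) := by
    intro g a b; group
  have hyv' : y * v * y⁻¹ = v := by rw [hyv]; group
  have hyw' : y * w * y⁻¹ = w := by rw [hyw]; group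
  have hzv' : z * v * z⁻¹ = v := by rw [hzv]; group
  have hzw' : z * w * z⁻¹ = w := by rw [hzw]; group
  have hyS : y ∈ S := by
    have e1 : y * (τ * v) * y⁻¹ = τ := by
      rw [hconj, hyτ, hyv', mul_assoc, hvv, mul_one]
    have e2 : y * (τ * w) * y⁻¹ = τ * (v * w) := by
      rw [hconj, hyτ, hyw', mul_assoc]
    have e3 : y * (τ * (v * w)) * y⁻¹ = τ * w := by
      rw [hconj, hconj, hyτ, hyv', hyw', mul_assoc, ← mul_assoc v v w, hvv, one_mul]
    apply hswap
    · intro h hh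
      rw [hmX] at hh ⊢
      rcases hh with rfl | rfl | rfl | rfl
      · rw [hyτ]; tauto
      · rw [e1]; tauto
      · rw [e2]; tauto
      · rw [e3]; tauto
    · intro h hh
      rw [hmX] at hh
      rcases hh with rfl | rfl | rfl | rfl
      · rw [hyτ, e1]
      · rw [e1, hyτ]
      · rw [e2, e3]
      · rw [e3, e2]
  have hzS : z ∈ S := by
    have e1 : z * (τ * w) * z⁻¹ = τ := by
      rw [hconj, hzτ, hzw', mul_assoc, hww, mul_one]
    have e2 : z * (τ * v) * z⁻¹ = τ * (v * w) := by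
      rw [hconj, hzτ, hzv', mul_assoc, hvw]
    have e3 : z * (τ * (v * w)) * z⁻¹ = τ * v := by
      rw [hconj, hconj, hzτ, hzv', hzw', mul_assoc, hvw, ← mul_assoc w w v, hww, one_mul]
    apply hswap
    · intro h hh
      rw [hmX] at hh ⊢
      rcases hh with rfl | rfl | rfl | rfl
      · rw [hzτ]; tauto
      · rw [e2]; tauto
      · rw [e1]; tauto
      · rw [e3]; tauto
    · intro h hh
      rw [hmX] at hh
      rcases hh with rfl | rfl | rfl | rfl
      · rw [hzτ, e1]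
      · rw [e2, e3]
      · rw [e1, hzτ]
      · rw [e3, e2]
  have hτS : τ ∈ S := by
    have e0 : τ * τ * τ⁻¹ = τ := by group
    have e1 : τ * v * τ⁻¹ = v := by rw [← hvτ]; group
    have e2 : τ * w * τ⁻¹ = w := by rw [← hwτ]; group
    have e : ∀ h ∈ X, τ * h * τ⁻¹ = h := by
      intro h hh
      rw [hmX] at hh
      rcases hh with rfl | rfl | rfl | rfl
      · exact e0
      · rw [hconj, e0, e1]
      · rw [hconj, e0, e2]
      · rw [hconj, hconj, e0, e1, e2]
    apply hswap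
    · intro h hh
      rw [e h hh]; exact hh
    · intro h hh
      rw [e h hh, e h hh]
  have hRX : ∀ r ∈ R, ∀ h ∈ X, r * h * r⁻¹ ∈ X := by
    intro r hr h hh
    have hrτ : r * τ * r⁻¹ = τ := by rw [hLτ r (hRL hr)]; group
    have e1 : r * (v * w) * r⁻¹ = (r * v * r⁻¹) * (r * w * r⁻¹) := hconj _ _ _
    have n1 : r * v * r⁻¹ ≠ r * w * r⁻¹ := by
      intro h
      apply hne
      have h2 := congrArg (fun x => r⁻¹ * x * r) h
      simpa [mul_assoc] using h2
    have a1 : v * (v * w) = w := by rw [← mul_assoc, hvv, one_mul]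
    have a2 : w * (v * w) = v := by rw [hvw, ← mul_assoc, hww, one_mul]
    have a3 : v * w * v = w := by rw [hvw, mul_assoc, hvv, mul_one]
    have a4 : v * w * w = v := by rw [mul_assoc, hww, mul_one]
    rw [hmX] at hh ⊢
    rcases hh with rfl | rfl | rfl | rfl
    · rw [hrτ]; tauto
    · rw [hconj, hrτ]
      rcases hRv r hr with h | h | h <;> rw [h] <;> tauto
    · rw [hconj, hrτ]
      rcases hRw r hr with h | h | h <;> rw [h] <;> tauto
    · rw [hconj, hrτ, e1]
      have a5 : w * v = v * w := hvw.symm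
      rcases hRv r hr with h | h | h <;> rcases hRw r hr with h' | h' | h' <;>
        rw [h, h'] at n1 ⊢
      · exact absurd rfl n1
      · simp only [or_true]
      · rw [a1]; simp only [or_true, true_or]
      · rw [a5]; simp only [or_true]
      · exact absurd rfl n1
      · rw [a2]; simp only [or_true, true_or]
      · rw [a3]; simp only [or_true, true_or]
      · rw [a4]; simp only [or_true, true_or]
      · exact absurd rfl n1
  have hRS : R ≤ S := by
    intro r hr h hh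
    refine ⟨hRX r hr h hh, ?_⟩
    have := hRX r⁻¹ (R.inv_mem hr) h hh
    rwa [inv_inv] at this
  have hcardS : Nat.card S = 4 * Nat.card ↥(S ⊓ Subgroup.centralizer {τ}) := by
    rw [← hcardX]
    apply card_eq
    · intro s hs
      exact (hs τ ((hmX _).mpr (Or.inl rfl))).1
    · intro x hx
      rw [hmX] at hx
      rcases hx with rfl | rfl | rfl | rfl
      · exact ⟨1, S.one_mem, by group⟩
      · exact ⟨y, hyS, hyτ⟩
      · exact ⟨z, hzS, hzτ⟩
      · refine ⟨y * z, S.mul_mem hyS hzS, ?_⟩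
        calc y * z * τ * (y * z)⁻¹ = y * (z * τ * z⁻¹) * y⁻¹ := by group
          _ = y * (τ * w) * y⁻¹ := by rw [hzτ]
          _ = τ * (v * w) := by rw [hconj, hyτ, hyw', mul_assoc]
  have hcardT : Nat.card ↥(S ⊓ Subgroup.centralizer {τ}) =
      2 * Nat.card ↥((S ⊓ Subgroup.centralizer {τ}) ⊓ L) := by
    apply card_two τ L _ hτL hτ hLτ
    · intro u hu
      apply hC
      exact Subgroup.mem_centralizer_singleton_iff.mp hu.2
    · exact ⟨hτS, Subgroup.mem_centralizer_singleton_iff.mpr rfl⟩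
  have h8 : 8 ∣ Nat.card ↥((S ⊓ Subgroup.centralizer {τ}) ⊓ L) := by
    refine hR8.trans (Subgroup.card_dvd_of_le ?_)
    exact le_inf (le_inf hRS fun r hr =>
      Subgroup.mem_centralizer_singleton_iff.mpr (hLτ r (hRL hr))) hRL
  have h64 : 64 ∣ Nat.card Y := by
    refine Nat.dvd_trans ?_ (Subgroup.card_subgroup_dvd_card S)
    rw [hcardS, hcardT]
    obtain ⟨c, hc⟩ := h8
    exact ⟨c, by rw [hc]; ring⟩
  have hY : Nat.card Y = Nat.card {d : Y // IsConj τ d} * (2 * Nat.card L) := by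
    have h1 := card_eq τ (⊤ : Subgroup Y) {d | IsConj τ d} (fun s _ => isConj_iff.mpr ⟨s, rfl⟩)
      (fun x hx => by
        obtain ⟨c, hc⟩ := isConj_iff.mp hx
        exact ⟨c, Subgroup.mem_top _, hc⟩)
    have h2 : Nat.card ↥((⊤ : Subgroup Y) ⊓ Subgroup.centralizer {τ}) =
        2 * Nat.card ↥(((⊤ : Subgroup Y) ⊓ Subgroup.centralizer {τ}) ⊓ L) := by
      apply card_two τ L _ hτL hτ hLτ
      · intro u hu
        apply hC
        exact Subgroup.mem_centralizer_singleton_iff.mp hu.2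
      · exact ⟨Subgroup.mem_top _, Subgroup.mem_centralizer_singleton_iff.mpr rfl⟩
    have h3 : ((⊤ : Subgroup Y) ⊓ Subgroup.centralizer {τ}) ⊓ L = L := by
      apply inf_eq_right.mpr
      exact le_inf le_top fun r hr => Subgroup.mem_centralizer_singleton_iff.mpr (hLτ r hr)
    rw [h3] at h2
    rw [h2, Subgroup.card_top] at h1
    exact h1
  rw [hY] at h64
  have hL0 : Nat.card L ≠ 0 := Nat.card_pos.ne'
  have hD0 : Nat.card {d : Y // IsConj τ d} ≠ 0 := by
    have : Nonempty {d : Y // IsConj τ d} := ⟨⟨τ, IsConj.refl τ⟩⟩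
    exact Nat.card_pos.ne'
  obtain ⟨k, m, hm, hk⟩ := Nat.exists_eq_two_pow_mul_odd hL0
  obtain ⟨j, m', hm', hj⟩ := Nat.exists_eq_two_pow_mul_odd hD0
  have hk3 : k ≤ 3 := by
    by_contra hcon
    apply h16
    rw [hk]
    exact Nat.dvd_trans (by norm_num : 16 ∣ 2 ^ 4)
      (Nat.dvd_trans (Nat.pow_dvd_pow 2 (by omega)) (Nat.dvd_mul_right _ _))
  have h5 : 2 ^ 6 ∣ 2 ^ (j + k + 1) * (m * m') := by
    have e : Nat.card {d : Y // IsConj τ d} * (2 * Nat.card L) = 2 ^ (j + k + 1) * (m * m') := by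
      rw [hk, hj]; ring
    rw [← e]
    exact (by norm_num : (2 ^ 6 : ℕ) = 64) ▸ h64
  have h6 : (2 ^ 6 : ℕ).Coprime (m * m') := by
    apply Nat.Coprime.pow_left
    exact Nat.coprime_two_left.mpr (hm.mul hm')
  have h7 := h6.dvd_of_dvd_mul_right h5
  have h8 := (Nat.pow_dvd_pow_iff_le_right (by norm_num : 1 < 2)).mp h7
  rw [hj]
  exact Nat.dvd_trans (by norm_num : 4 ∣ 2 ^ 2)
    (Nat.dvd_trans (Nat.pow_dvd_pow 2 (by omega)) (Nat.dvd_mul_right _ _))

end Sign

/-- a group like `L_3(2)`: Sylow 2-subgroups of order 8, one class of involutions, their number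
is `1 mod 4`, no homomorphism onto `{± 1}`, fours groups normalised by a subgroup of order
divisible by 8. -/
structure GoodL (L : Type*) [Group L] : Prop where
  perf : ∀ f : L →* ℤˣ, ∀ l, f l = 1
  inv : Nat.card {l : L // l * l = 1 ∧ l ≠ 1} % 4 = 1
  conj : ∀ a b : L, a * a = 1 → a ≠ 1 → b * b = 1 → b ≠ 1 → IsConj a b
  four : ∀ a b : L, a * a = 1 → a ≠ 1 → b * b = 1 → b ≠ 1 → a ≠ b → a * b = b * a →
    ∃ R : Subgroup L, 8 ∣ Nat.card R ∧
      (∀ r ∈ R, r * a * r⁻¹ = a ∨ r * a * r⁻¹ = b ∨ r * a * r⁻¹ = a * b) ∧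
      (∀ r ∈ R, r * b * r⁻¹ = a ∨ r * b * r⁻¹ = b ∨ r * b * r⁻¹ = a * b)
  n16 : ¬ 16 ∣ Nat.card L

theorem GoodL.congr {L L' : Type*} [Group L] [Group L'] (e : L ≃* L') (h : GoodL L) :
    GoodL L' where
  perf f l := by
    have := h.perf (f.comp e.toMonoidHom) (e.symm l)
    simpa using this
  inv := by
    rw [← h.inv]
    congr 1
    refine Nat.card_congr
      { toFun := fun l => ⟨e.symm l.1, ?_, ?_⟩
        invFun := fun l => ⟨e l.1, ?_, ?_⟩
        left_inv := fun l => Subtype.ext (by simp)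
        right_inv := fun l => Subtype.ext (by simp) }
    · rw [← map_mul, l.2.1, map_one]
    · intro h1
      exact l.2.2 ((map_eq_one_iff e.symm e.symm.injective).mp h1)
    · rw [← map_mul, l.2.1, map_one]
    · intro h1
      exact l.2.2 ((map_eq_one_iff e e.injective).mp h1)
  conj a b ha ha1 hb hb1 := by
    have h1 := h.conj (e.symm a) (e.symm b) (by rw [← map_mul, ha, map_one])
      (fun h1 => ha1 ((map_eq_one_iff e.symm e.symm.injective).mp h1))
      (by rw [← map_mul, hb, map_one])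
      (fun h1 => hb1 ((map_eq_one_iff e.symm e.symm.injective).mp h1))
    have h2 := e.toMonoidHom.map_isConj h1
    simpa using h2
  four a b ha ha1 hb hb1 hne hab := by
    obtain ⟨R, hR8, hRa, hRb⟩ := h.four (e.symm a) (e.symm b) (by rw [← map_mul, ha, map_one])
      (fun h1 => ha1 ((map_eq_one_iff e.symm e.symm.injective).mp h1))
      (by rw [← map_mul, hb, map_one])
      (fun h1 => hb1 ((map_eq_one_iff e.symm e.symm.injective).mp h1))
      (fun h1 => hne (e.symm.injective h1)) (by rw [← map_mul, hab, map_mul])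
    refine ⟨R.map e.toMonoidHom, ?_, ?_, ?_⟩
    · have h1 := Nat.card_congr (R.equivMapOfInjective e.toMonoidHom e.injective).toEquiv
      rwa [← h1]
    · rintro _ ⟨r, hr, rfl⟩
      have e1 : e r * a * (e r)⁻¹ = e (r * e.symm a * r⁻¹) := by simp
      show e r * a * (e r)⁻¹ = a ∨ e r * a * (e r)⁻¹ = b ∨ e r * a * (e r)⁻¹ = a * b
      rw [e1]
      rcases hRa r hr with h1 | h1 | h1 <;> rw [h1] <;> simp
    · rintro _ ⟨r, hr, rfl⟩
      have e1 : e r * b * (e r)⁻¹ = e (r * e.symm b * r⁻¹) := by simp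
      show e r * b * (e r)⁻¹ = a ∨ e r * b * (e r)⁻¹ = b ∨ e r * b * (e r)⁻¹ = a * b
      rw [e1]
      rcases hRb r hr with h1 | h1 | h1 <;> rw [h1] <;> simp
  n16 := by
    rw [← Nat.card_congr e.toEquiv]
    exact h.n16

/-- the abstract kill: `π : N → Y` onto, `C_Y(τ) = ⟨τ⟩ × L`. -/
theorem exists_hom {G Y : Type*} [Group G] [Finite G] [Group Y] [Finite Y] (N K : Subgroup G)
    (π : N →* Y) (hπ : Function.Surjective π) (t : G) (ht2 : t * t = 1) (htN : t ∈ N)
    (hKt : ∀ k ∈ K, k * t = t * k)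
    (hK : ∀ c : G, c * t = t * c → ∃ k ∈ K, ∃ n ∈ N, c = k * n)
    (hodd : Odd (N.relIndex K))
    (hconj : ∀ x : G, ∀ hx : x ∈ N, x * x = 1 → π ⟨x, hx⟩ = π ⟨t, htN⟩ →
      ∃ n ∈ N, n * t * n⁻¹ = x)
    (L : Subgroup Y) (hL : GoodL L) (hτL : π ⟨t, htN⟩ ∉ L)
    (hLτ : ∀ l ∈ L, l * π ⟨t, htN⟩ = π ⟨t, htN⟩ * l)
    (hC : ∀ y : Y, y * π ⟨t, htN⟩ = π ⟨t, htN⟩ * y → y ∈ L ∨ π ⟨t, htN⟩ * y ∈ L)
    (v w : Y) (hv : v ∈ L) (hw : w ∈ L) (hvv : v * v = 1) (hww : w * w = 1) (hv1 : v ≠ 1)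
    (hw1 : w ≠ 1) (hne : v ≠ w) (hvw : v * w = w * v) (hvτ : ¬ IsConj (π ⟨t, htN⟩) v)
    (y z : Y) (hyτ : y * π ⟨t, htN⟩ * y⁻¹ = π ⟨t, htN⟩ * v) (hyv : y * v = v * y)
    (hyw : y * w = w * y)
    (hzτ : z * π ⟨t, htN⟩ * z⁻¹ = π ⟨t, htN⟩ * w) (hzv : z * v = v * z) (hzw : z * w = w * z) :
    ∃ f : G →* ℤˣ, f t = -1 := by
  set τ : Y := π ⟨t, htN⟩ with hτdef
  have hτ : τ * τ = 1 := by
    rw [hτdef, ← map_mul]
    have h1 : (⟨t, htN⟩ * ⟨t, htN⟩ : N) = 1 := Subtype.ext ht2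
    rw [h1, map_one]
  -- involutions of `L`
  have hconjL : ∀ u ∈ L, u * u = 1 → u ≠ 1 → ∃ l ∈ L, l * v * l⁻¹ = u := by
    intro u hu hu2 hu1
    have h1 := hL.conj ⟨v, hv⟩ ⟨u, hu⟩ (Subtype.ext hvv) (fun h => hv1 (congrArg Subtype.val h))
      (Subtype.ext hu2) (fun h => hu1 (congrArg Subtype.val h))
    obtain ⟨c, hc⟩ := isConj_iff.mp h1
    exact ⟨c, c.2, congrArg Subtype.val hc⟩
  have hLw : ∀ u ∈ L, u * u = 1 → u ≠ 1 → IsConj τ (τ * u) := by
    intro u hu hu2 hu1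
    obtain ⟨l, hl, rfl⟩ := hconjL u hu hu2 hu1
    have h1 : IsConj τ (τ * v) := isConj_iff.mpr ⟨y, hyτ⟩
    refine h1.trans (isConj_iff.mpr ⟨l, ?_⟩)
    have h2 : l * τ * l⁻¹ = τ := by rw [hLτ l hl]; group
    calc l * (τ * v) * l⁻¹ = (l * τ * l⁻¹) * (l * v * l⁻¹) := by group
      _ = τ * (l * v * l⁻¹) := by rw [h2]
  have hLw' : ∀ u ∈ L, ¬ IsConj τ u := by
    intro u hu hcon
    obtain ⟨c, hc⟩ := isConj_iff.mp hcon
    have hu2 : u * u = 1 := by
      rw [← hc]
      calc c * τ * c⁻¹ * (c * τ * c⁻¹) = c * (τ * τ) * c⁻¹ := by group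
        _ = 1 := by rw [hτ]; group
    have hτ1 : τ ≠ 1 := fun h => hτL (h ▸ L.one_mem)
    have hu1 : u ≠ 1 := by
      intro h
      apply hτ1
      rw [h] at hc
      calc τ = c⁻¹ * (c * τ * c⁻¹) * c := by group
        _ = 1 := by rw [hc]; group
    obtain ⟨l, hl, rfl⟩ := hconjL u hu hu2 hu1
    apply hvτ
    exact hcon.trans (isConj_iff.mpr ⟨l⁻¹, by group⟩)
  obtain ⟨R, hR8, hRv, hRw⟩ := hL.four ⟨v, hv⟩ ⟨w, hw⟩ (Subtype.ext hvv)
    (fun h => hv1 (congrArg Subtype.val h)) (Subtype.ext hww)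
    (fun h => hw1 (congrArg Subtype.val h)) (fun h => hne (congrArg Subtype.val h))
    (Subtype.ext hvw)
  have h4 : 4 ∣ Nat.card {d : Y // IsConj τ d} := by
    refine four_dvd τ hτ L hτL hLτ hC v w hv hw hvv hww hv1 hw1 hne hvw y z hyτ hyv hyw hzτ hzv
      hzw (R.map L.subtype) ?_ ?_ ?_ ?_ hL.n16
    · rintro _ ⟨r, _, rfl⟩
      exact r.2
    · have h1 := Nat.card_congr
        (R.equivMapOfInjective L.subtype L.subtype_injective).toEquiv
      rwa [← h1]
    · rintro _ ⟨r, hr, rfl⟩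
      rcases hRv r hr with h | h | h
      · exact Or.inl (congrArg Subtype.val h)
      · exact Or.inr (Or.inl (congrArg Subtype.val h))
      · exact Or.inr (Or.inr (congrArg Subtype.val h))
    · rintro _ ⟨r, hr, rfl⟩
      rcases hRw r hr with h | h | h
      · exact Or.inl (congrArg Subtype.val h)
      · exact Or.inr (Or.inl (congrArg Subtype.val h))
      · exact Or.inr (Or.inr (congrArg Subtype.val h))
  refine ⟨MonoidHom.transfer ((mu τ).comp π), ?_⟩
  refine transfer_eq_neg_one N K ((mu τ).comp π) t ht2 htN ?_ ?_ hKt hK hodd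
  · exact mu_self τ hτ L hLτ hC hLw hLw' hL.inv h4
  · intro x hx htx hnx
    have hx2 : x * x = 1 := by
      obtain ⟨c, rfl⟩ := isConj_iff.mp htx
      calc c * t * c⁻¹ * (c * t * c⁻¹) = c * (t * t) * c⁻¹ := by group
        _ = 1 := by rw [ht2]; group
    refine mu_other τ hτ L hC hL.perf hLw h4 (π ⟨x, hx⟩) ?_ ?_
    · rw [← map_mul]
      have h1 : (⟨x, hx⟩ * ⟨x, hx⟩ : N) = 1 := Subtype.ext hx2
      rw [h1, map_one]
    · intro hcon
      obtain ⟨c, hc⟩ := isConj_iff.mp hcon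
      obtain ⟨n, rfl⟩ := hπ c
      apply hnx
      have h1 : (n⁻¹ : N) * ⟨x, hx⟩ * n = ⟨(n : G)⁻¹ * x * n, by
          exact N.mul_mem (N.mul_mem (N.inv_mem n.2) hx) n.2⟩ := Subtype.ext rfl
      have h2 : π (n⁻¹ * ⟨x, hx⟩ * n) = τ := by
        rw [map_mul, map_mul, map_inv, ← hc]
        group
      rw [h1] at h2
      obtain ⟨m, hm, hmx⟩ := hconj _ _ (by
        calc (n : G)⁻¹ * x * n * ((n : G)⁻¹ * x * n) = (n : G)⁻¹ * (x * x) * n := by group
          _ = 1 := by rw [hx2]; group) h2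
      refine ⟨n * m, N.mul_mem n.2 hm, ?_⟩
      calc (n : G) * m * t * (n * m)⁻¹ = n * (m * t * m⁻¹) * (n : G)⁻¹ := by group
        _ = n * ((n : G)⁻¹ * x * n) * (n : G)⁻¹ := by rw [hmx]
        _ = x := by group

/-- The sign kill in terms of an embedding `ι : X → G` with `C_G(t) = ⟨t⟩ × ι(X)`. -/
theorem main {G X L0 : Type*} [Group G] [Finite G] [Group X] [Group L0]
    (ι : X →* G) (hι : Function.Injective ι) (t : G) (ht2 : t * t = 1)
    (hιt : ∀ k, ι k * t = t * ι k) (htι : ∀ k, ι k ≠ t)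
    (hC : ∀ c : G, c * t = t * c → ∃ k, c = ι k ∨ c = t * ι k)
    (M : Subgroup G) (Q R : Subgroup X)
    (htM : t ∈ Subgroup.normalizer (M : Set G))
    (hQM : ∀ m ∈ M, m * t = t * m → ∃ q ∈ Q, ι q = m) (hMQ : ∀ q ∈ Q, ι q ∈ M)
    (hinv : ∀ m ∈ M, (t * m) * (t * m) = 1 → ∃ n ∈ M, n * t * n⁻¹ = t * m)
    (hR : ∀ k : X, ι k ∈ Subgroup.normalizer (M : Set G) ↔ k ∈ R)
    (ρ : R →* L0) (hρ : Function.Surjective ρ) (hker : ∀ r : R, ρ r = 1 ↔ (r : X) ∈ Q)
    (hL : GoodL L0) (hodd : Odd R.index)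
    (v w : X) (hv : v ∈ R) (hw : w ∈ R) (hvv : v * v = 1) (hww : w * w = 1) (hvQ : v ∉ Q)
    (hwQ : w ∉ Q) (hvwQ : v * w ∉ Q) (hvw : v * w = w * v) (hvt : ¬ IsConj t (ι v))
    (y z : G) (hy : y ∈ Subgroup.normalizer (M : Set G))
    (hz : z ∈ Subgroup.normalizer (M : Set G))
    (hyt : y * t * y⁻¹ = t * ι v) (hyv : y * ι v = ι v * y) (hyw : y * ι w = ι w * y)
    (hzt : z * t * z⁻¹ = t * ι w) (hzv : z * ι v = ι v * z) (hzw : z * ι w = ι w * z) :
    ∃ f : G →* ℤˣ, f t = -1 := by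
  classical
  set N : Subgroup G := Subgroup.normalizer (M : Set G) with hN
  have hMN : M ≤ N := Subgroup.le_normalizer
  have : (M.subgroupOf N).Normal := Subgroup.normal_in_normalizer
  let π : N →* N ⧸ M.subgroupOf N := QuotientGroup.mk' _
  have hπ1 : ∀ n : N, π n = 1 ↔ (n : G) ∈ M := by
    intro n
    have := QuotientGroup.eq_one_iff (N := M.subgroupOf N) n
    rw [Subgroup.mem_subgroupOf] at this
    exact this
  let j : R →* N := (ι.comp R.subtype).codRestrict N (fun r => (hR r).mpr r.2)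
  have hj : ∀ r : R, ((j r : N) : G) = ι r := fun r => rfl
  have hkj : ∀ r : R, π (j r) = 1 ↔ (r : X) ∈ Q := by
    intro r
    rw [hπ1, hj]
    constructor
    · intro h
      obtain ⟨q, hq, hqr⟩ := hQM _ h (hιt _)
      rwa [← hι hqr]
    · exact hMQ _
  have hkerEq : (π.comp j).ker = ρ.ker := by
    ext r
    rw [MonoidHom.mem_ker, MonoidHom.mem_ker, MonoidHom.comp_apply, hkj, hker]
  have e : L0 ≃* (π.comp j).range :=
    (QuotientGroup.quotientKerEquivOfSurjective ρ hρ).symm.trans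
      ((QuotientGroup.quotientMulEquivOfEq hkerEq.symm).trans
        (QuotientGroup.quotientKerEquivRange (π.comp j)))
  have hGL : GoodL (π.comp j).range := hL.congr e
  have hmemL : ∀ r : R, π (j r) ∈ (π.comp j).range := fun r => ⟨r, rfl⟩
  have hιN : ∀ k : X, k ∈ R → ι k ∈ N := fun k hk => (hR k).mpr hk
  have hpe : ∀ a b : N, ((a : G) = b) → π a = π b := fun a b h => by rw [Subtype.ext h]
  have hπeq : ∀ a b : N, π a = π b → ∃ m ∈ M, (a : G) = b * m := by
    intro a b h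
    have h1 : π (b⁻¹ * a) = 1 := by rw [map_mul, map_inv, h, inv_mul_cancel]
    rw [hπ1] at h1
    refine ⟨((b⁻¹ * a : N) : G), h1, ?_⟩
    simp
  have htcomm : ∀ r : R, j r * ⟨t, htM⟩ = ⟨t, htM⟩ * j r := fun r => Subtype.ext (hιt r)
  -- conjugacy of the involutions in the coset
  have hconj : ∀ x : G, ∀ hx : x ∈ N, x * x = 1 → π ⟨x, hx⟩ = π ⟨t, htM⟩ →
      ∃ m ∈ M, m * t * m⁻¹ = x := by
    intro x hx hx2 hxt
    obtain ⟨m, hm, hxm⟩ := hπeq _ _ hxt
    have hxm' : x = t * m := hxm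
    rw [hxm'] at hx2 ⊢
    exact hinv m hm hx2
  have hvN := hιN v hv
  have hwN := hιN w hw
  refine exists_hom N ι.range π (QuotientGroup.mk'_surjective _) t ht2 htM ?_ ?_ ?_ ?_
    (π.comp j).range hGL ?_ ?_ ?_ (π (j ⟨v, hv⟩)) (π (j ⟨w, hw⟩)) (hmemL _) (hmemL _) ?_ ?_ ?_ ?_
    ?_ ?_ ?_ (π ⟨y, hy⟩) (π ⟨z, hz⟩) ?_ ?_ ?_ ?_ ?_ ?_
  · rintro _ ⟨k, rfl⟩
    exact hιt k
  · intro c hc
    obtain ⟨k, h | h⟩ := hC c hc
    · exact ⟨ι k, ⟨k, rfl⟩, 1, N.one_mem, by rw [h, mul_one]⟩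
    · exact ⟨ι k, ⟨k, rfl⟩, t, htM, by rw [h, hιt]⟩
  · have h1 : N.relIndex ι.range = (N.comap ι).index := by
      rw [Subgroup.index_comap]
    have h2 : N.comap ι = R := by
      ext k
      rw [Subgroup.mem_comap]
      exact hR k
    rw [h1, h2]
    exact hodd
  · intro x hx hx2 hxt
    obtain ⟨m, hm, h⟩ := hconj x hx hx2 hxt
    exact ⟨m, hMN hm, h⟩
  · rintro ⟨r, hr⟩
    obtain ⟨m, hm, h⟩ := hπeq _ _ hr
    have h' : ι r = t * m := h
    have hmt : m = t * ι r := by rw [h', ← mul_assoc, ht2, one_mul]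
    have hmc : m * t = t * m := by
      rw [hmt, mul_assoc, hιt]
    obtain ⟨q, hq, hqm⟩ := hQM m hm hmc
    apply htι ((r : X) * q⁻¹)
    rw [map_mul, map_inv, hqm, h', mul_assoc, mul_inv_cancel, mul_one]
  · rintro _ ⟨r, rfl⟩
    show π (j r) * π _ = π _ * π (j r)
    rw [← map_mul, ← map_mul, htcomm]
  · intro u hu
    obtain ⟨n, rfl⟩ := QuotientGroup.mk'_surjective _ u
    have hn : π n * π ⟨t, htM⟩ = π ⟨t, htM⟩ * π n := hu
    have h1 : π (n * ⟨t, htM⟩ * n⁻¹) = π ⟨t, htM⟩ := by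
      rw [map_mul, map_mul, map_inv, hn]
      group
    have h2 : (n * ⟨t, htM⟩ * n⁻¹ : N) = ⟨(n : G) * t * (n : G)⁻¹,
        N.mul_mem (N.mul_mem n.2 htM) (N.inv_mem n.2)⟩ := rfl
    rw [h2] at h1
    obtain ⟨m, hm, hmn⟩ := hconj _ _ (by
      calc (n : G) * t * (n : G)⁻¹ * ((n : G) * t * (n : G)⁻¹) = n * (t * t) * (n : G)⁻¹ := by group
        _ = 1 := by rw [ht2]; group) h1
    have h3 : (m⁻¹ * n) * t = t * (m⁻¹ * n) := by
      calc (m⁻¹ * n) * t = m⁻¹ * ((n : G) * t * (n : G)⁻¹) * n := by group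
        _ = m⁻¹ * (m * t * m⁻¹) * n := by rw [hmn]
        _ = t * (m⁻¹ * n) := by group
    have hmN : (⟨m⁻¹ * n, N.mul_mem (N.inv_mem (hMN hm)) n.2⟩ : N) =
        (⟨m, hMN hm⟩ : N)⁻¹ * n := rfl
    have h4 : π ⟨m⁻¹ * n, N.mul_mem (N.inv_mem (hMN hm)) n.2⟩ = π n := by
      rw [hmN, map_mul, map_inv, (hπ1 ⟨m, hMN hm⟩).mpr hm, inv_one, one_mul]
    obtain ⟨k, h | h⟩ := hC _ h3
    · left
      have hk : k ∈ R := by
        rw [← hR, ← h]
        exact N.mul_mem (N.inv_mem (hMN hm)) n.2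
      refine ⟨⟨k, hk⟩, ?_⟩
      show π (j _) = π n
      rw [← h4]
      exact hpe _ _ h.symm
    · right
      have h5 : ι k = t * (m⁻¹ * n) := by rw [h, ← mul_assoc, ht2, one_mul]
      have hk : k ∈ R := by
        rw [← hR, h5]
        exact N.mul_mem htM (N.mul_mem (N.inv_mem (hMN hm)) n.2)
      refine ⟨⟨k, hk⟩, ?_⟩
      show π (j _) = π _ * π n
      rw [← h4, ← map_mul]
      exact hpe _ _ h5
  · rw [← map_mul, ← map_mul]
    have h1 : (⟨v, hv⟩ * ⟨v, hv⟩ : R) = 1 := Subtype.ext hvv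
    rw [h1, map_one, map_one]
  · rw [← map_mul, ← map_mul]
    have h1 : (⟨w, hw⟩ * ⟨w, hw⟩ : R) = 1 := Subtype.ext hww
    rw [h1, map_one, map_one]
  · intro h
    exact hvQ ((hkj _).mp h)
  · intro h
    exact hwQ ((hkj _).mp h)
  · intro h
    apply hvwQ
    have h1 : π (j (⟨v, hv⟩ * ⟨w, hw⟩)) = 1 := by
      rw [map_mul, map_mul, ← h, ← map_mul, ← map_mul]
      have h1 : (⟨v, hv⟩ * ⟨v, hv⟩ : R) = 1 := Subtype.ext hvv
      rw [h1, map_one, map_one]
    exact (hkj _).mp h1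
  · rw [← map_mul, ← map_mul, ← map_mul, ← map_mul]
    congr 2
    exact Subtype.ext hvw
  · intro hcon
    obtain ⟨c, hc⟩ := isConj_iff.mp hcon
    obtain ⟨n, rfl⟩ := QuotientGroup.mk'_surjective _ c
    have hc' : π n * π ⟨t, htM⟩ * (π n)⁻¹ = π (j ⟨v, hv⟩) := hc
    have h1 : π (n⁻¹ * j ⟨v, hv⟩ * n) = π ⟨t, htM⟩ := by
      rw [map_mul, map_mul, map_inv, ← hc']
      group
    have h2 : (n⁻¹ * j ⟨v, hv⟩ * n : N) = ⟨(n : G)⁻¹ * ι v * n,
        N.mul_mem (N.mul_mem (N.inv_mem n.2) hvN) n.2⟩ := rfl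
    rw [h2] at h1
    obtain ⟨m, hm, hmn⟩ := hconj _ _ (by
      calc (n : G)⁻¹ * ι v * (n : G) * ((n : G)⁻¹ * ι v * (n : G)) =
          (n : G)⁻¹ * (ι (v * v)) * (n : G) := by rw [map_mul]; group
        _ = 1 := by rw [hvv, map_one]; group) h1
    apply hvt
    rw [isConj_iff]
    refine ⟨n * m, ?_⟩
    calc (n : G) * m * t * (n * m)⁻¹ = n * (m * t * m⁻¹) * (n : G)⁻¹ := by group
      _ = n * ((n : G)⁻¹ * ι v * n) * (n : G)⁻¹ := by rw [hmn]
      _ = ι v := by group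
  · rw [← map_inv, ← map_mul, ← map_mul, ← map_mul]
    exact hpe _ _ hyt
  · rw [← map_mul, ← map_mul]
    exact hpe _ _ hyv
  · rw [← map_mul, ← map_mul]
    exact hpe _ _ hyw
  · rw [← map_inv, ← map_mul, ← map_mul, ← map_mul]
    exact hpe _ _ hzt
  · rw [← map_mul, ← map_mul]
    exact hpe _ _ hzv
  · rw [← map_mul, ← map_mul]
    exact hpe _ _ hzw

end Cfsg.Agent.OddHalf.D8.SignKill
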