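import Cfsg.Agent.OddHalf.D8.MainE
import Cfsg.Agent.KFacts.J3
import Cfsg.Agent.KFacts.J3Sheet
import Cfsg.Agent.KFacts.QMinusNormal
import Cfsg.Agent.OddHalf.CaseM.Sheet

/-!
# ODD half, D8: the row `J₃` (helper206; the sheet is helper279's `KFacts/J3Sheet.lean`)
-/

set_option autoImplicit false

namespace Cfsg.Agent.OddHalf.D8.RowJ3

open Subgroup Cfsg Cfsg.Agent.OddHalf.D8.Sheet Cfsg.Agent.J3Type.OneClass Cfsg.Agent.J2Type.Model
open Cfsg.Agent.J2Type.CStruct Cfsg.Agent.KFacts

universe u

/-- the sheet of `J₃` with the facts used for it -/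
theorem sheet' (K : Type u) [Group K] (h : Spor.IsoJ3 K) :
    ∃ (z : K) (Q : Subgroup (centralizer ({z} : Set K))) (v : Fin 5 → centralizer ({z} : Set K))
      (ρ : centralizer ({z} : Set K) →* SP), IsModel Q (zc z) v ρ ∧
      Nat.card (centralizer ({z} : Set K)) = 1920 ∧
      ((MulAut.conj : K →* MulAut K).range.index = 1 ∨ (MulAut.conj : K →* MulAut K).range.index = 2) ∧
      SheetE z (centralizer ({z} : Set K)) (Q.map (centralizer ({z} : Set K)).subtype) := by
  obtain ⟨-, z, Q, v, ρ, n, u, F⟩ := J3.exists_facts h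
  have hfin : Finite K := by
    apply Nat.finite_of_card_ne_zero
    rw [F.card_K]; norm_num
  have M := F.model
  have hone : ∀ x y : K, orderOf x = 2 → orderOf y = 2 → IsConj x y := by
    have h1 : ∀ x : K, orderOf x = 2 → IsConj z x := by
      intro x hx
      obtain ⟨g, hg⟩ := F.one x (fun e => by rw [e, orderOf_one] at hx; omega) (by
        rw [← pow_two, ← hx, pow_orderOf_eq_one])
      exact isConj_iff.2 ⟨g, hg⟩
    intro x y hx hy
    exact (h1 x hx).symm.trans (h1 y hy)
  have hvne : ∀ i, (v i : K) ≠ z := by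
    intro i h
    apply zv_ne_z M 0 i
    rw [zp_zero, one_mul]
    exact Subtype.ext h
  have hin : n * z * n⁻¹ ∈ Q.map (centralizer ({z} : Set K)).subtype := by
    rw [F.nz]
    exact ⟨v 0, M.v_mem 0, rfl⟩
  have hnz : n * z * n⁻¹ ≠ z := by
    rw [F.nz]; exact hvne 0
  have hz2 : orderOf z = 2 := orderOf_eq_prime (by rw [pow_two]; exact congrArg Subtype.val M.z_sq)
    (fun e => M.z_ne (Subtype.ext e))
  refine ⟨z, Q, v, ρ, M, F.card_C, ?_, J3Sheet.sheetE F.card_C M hone hin hnz F.gen⟩
  exact J3Sheet.index_le F.card_C M hin hnz F.gen (J3Sheet.odd_index hone hz2)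

/-- the sheet of type (E) -/
theorem sheet (K : Type u) [Group K] (_ : Finite K) (h : Spor.IsoJ3 K) :
    ∃ (z : K) (P R : Subgroup K), SheetE z P R := by
  obtain ⟨z, Q, -, -, -, -, -, h⟩ := sheet' K h
  exact ⟨z, _, _, h⟩

/-- the row `J₃` modulo the case (M) -/
theorem row_of (hM : MainE.NoComponent.{u}) : Rows.Row.{u} (fun K _ => Spor.IsoJ3 K) :=
  MainE.row MainE.frontOuter hM sheet

/-- the sheet of case (M) for a centraliser `2^{1+4}_- : A₅` -/
theorem sheetM {K : Type*} [Group K] [Finite K] {z : K} {Q : Subgroup (centralizer ({z} : Set K))}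
    {v : Fin 5 → centralizer ({z} : Set K)} {ρ : centralizer ({z} : Set K) →* SP} (hc : Nat.card (centralizer ({z} : Set K)) = 1920)
    (M : IsModel Q (zc z) v ρ) (hout : ∃ n, (MulAut.conj : K →* MulAut K).range.index = 2 ^ n)
    (h : SheetE z (centralizer ({z} : Set K)) (Q.map (centralizer ({z} : Set K)).subtype)) :
    CaseM.SheetM (centralizer ({z} : Set K)) (Q.map (centralizer ({z} : Set K)).subtype) where
  big := by
    apply CaseM.big_of_quasisimple h
    intro N hN hQ hn
    rcases QMinus.normal_cases' M N hN hn with h1 | h1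
    · left
      rw [commutator_le]
      intro x hx y hy
      have h4 : x * (y * x⁻¹ * y⁻¹) ∈ N := N.mul_mem hx (hn y hy _ (N.inv_mem hx))
      apply h1
      rw [commutatorElement_def]
      simpa only [mul_assoc] using h4
    · right
      rwa [sup_eq_left.2 hQ] at h1
  idx := by
    refine ⟨2, ?_, ?_⟩
    · have h1 : Nat.card Q = 32 := by
        have := QMinus.card_mul M
        omega
      rw [Nat.card_congr (Q.equivMapOfInjective _ (centralizer ({z} : Set K)).subtype_injective).toEquiv.symm, h1]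
      norm_num
    · intro H hH hle
      have h0 : H.relIndex (centralizer ({z} : Set K)) ≠ 0 := by
        rw [relIndex]; exact FiniteIndex.index_ne_zero
      have h1 := QMinus.index_le_two M (H.subgroupOf (centralizer ({z} : Set K))) (by
        change H.relIndex (centralizer ({z} : Set K)) = 1 ∨ H.relIndex (centralizer ({z} : Set K)) = 2
        omega)
      apply le_antisymm hH
      intro x hx
      have h2 : (⟨x, hx⟩ : centralizer ({z} : Set K)) ∈ H.subgroupOf (centralizer ({z} : Set K)) := by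
        rw [h1]; exact mem_top _
      exact h2
  odd := CaseM.odd_of_index h hout ⟨0, by rw [pow_zero, relIndex_self]⟩

/-- both sheets -/
theorem sheets (K : Type u) [Group K] (_ : Finite K) (h : Spor.IsoJ3 K) :
    ∃ (z : K) (P R : Subgroup K), SheetE z P R ∧ CaseM.SheetM P R := by
  obtain ⟨z, Q, v, ρ, M, hc, hi, h⟩ := sheet' K h
  refine ⟨z, _, _, h, sheetM hc M ?_ h⟩
  rcases hi with hi | hi
  · exact ⟨0, by rw [hi, pow_zero]⟩
  · exact ⟨1, by rw [hi, pow_one]⟩

/-- the row `J₃` modulo the `K`-free case (M) -/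
theorem row_of_noComp (hM : MainE.NoComp.{u} (fun _ _ _ P R => CaseM.SheetM P R)) :
    Rows.Row.{u} (fun K _ => Spor.IsoJ3 K) :=
  MainE.row_of hM fun K _ hf e => sheets K hf e

end Cfsg.Agent.OddHalf.D8.RowJ3
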