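import Cfsg.Agent.OddHalf.CaseC.Row
import Cfsg.Agent.KFacts.Co3.Sheet

/-!
# ODD half, D8: the row of the third Conway group
-/

set_option autoImplicit false

namespace Cfsg.Agent.OddHalf.D8.RowCo3

open Subgroup Cfsg
open Cfsg.Agent.OddHalf.D8 Cfsg.Agent.KFacts.Co3.Sheet

universe u

/-- the sheet of type (C) -/
theorem sheetC {K : Type*} [Group K] {z : K} (h : Facts z) : CaseC.SheetC z (centralizer ({z} : Set K)) where
  basic := h.basic
  qs := h.quasi
  cen2 x hx hc := h.center x hx fun y hy => (hc y hy).symm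
  autP α hα := by
    obtain ⟨k, rfl⟩ := h.inner α
    refine ⟨k, ?_, rfl⟩
    have h1 := hα z h.basic.zP
    rw [MulAut.conj_apply, mul_inv_eq_iff_eq_mul] at h1
    exact mem_centralizer_singleton_iff.2 h1
  outP := h.innerP

theorem card_of {K : Type*} [Group K] (h : Spor.IsoCo3 K) : IsSimpleGroup K ∧ Nat.card K = 495766656000 := by
  obtain ⟨e⟩ := h
  have e' : K ≃* Cfsg.Agent.SporRec.Co3.Chain.G3 := e.trans Cfsg.Agent.SporRec.Co3.Model.equivCo3.symm
  have h3 := Cfsg.Agent.SporRec.Co3.Chain.isCo3_G3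
  have := h3.1
  exact ⟨e'.isSimpleGroup, (Nat.card_congr e'.toEquiv).trans h3.2⟩

theorem center_bot {K : Type*} [Group K] (h : Spor.IsoCo3 K) : center K = ⊥ := by
  obtain ⟨hs, hc⟩ := card_of h
  obtain ⟨z, hz⟩ := exists_facts h
  rcases (inferInstance : (center K).Normal).eq_bot_or_eq_top with h1 | h1
  · exact h1
  · exfalso
    have h2 : centralizer ({z} : Set K) = ⊤ := by
      rw [eq_top_iff]
      intro x _
      rw [mem_centralizer_singleton_iff]
      have h3 : x ∈ center K := by rw [h1]; exact mem_top x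
      exact (mem_center_iff.1 h3 z).symm
    have h4 := hz.card
    rw [h2, card_top, hc] at h4
    norm_num at h4

/-- the facts of type (C), as in `Final.FactsC` -/
theorem factsC (K : Type u) [Group K] (_ : Finite K) (h : Spor.IsoCo3 K) :
    center K = ⊥ ∧ ∃ (z : K) (P : Subgroup K), CaseC.SheetC z P := by
  obtain ⟨z, hz⟩ := exists_facts h
  exact ⟨center_bot h, z, _, sheetC hz⟩

/-- **the row K = Co3 of D8** -/
theorem row (hSch : Cfsg.Agent.Schreier.Cases.SchFor.{u} @IsKnownSimple')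
    (hGW : SylowSp4.Hyps.GW.{u}) (hI : CaseM.Intr.{u}) (hS : CaseM.IntrSign.{u}) :
    Rows.Row.{u} (fun K _ => Spor.IsoCo3 K) :=
  CaseC.row_of hSch hGW hI hS factsC

end Cfsg.Agent.OddHalf.D8.RowCo3
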