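import Cfsg.Agent.OddHalf.D8.SelfFour
import Cfsg.Agent.Cit.ElevenFact

/-!
# ODD half, D8: the row `M₁₁` (helper652)
-/

set_option autoImplicit false

namespace Cfsg.Agent.OddHalf.D8.RowM11

open Subgroup Cfsg Matrix Cfsg.Agent.Cit.Eleven Cfsg.Agent.OddHalf.Front.FE

universe u

/-- a self-centralising four-group of `M₁₁` -/
theorem exists_four {L : Type*} [Group L] (h : Cfsg.Spor.IsoM11 L) : ∃ z b : L, z * z = 1 ∧ b * b = 1 ∧
    z ≠ 1 ∧ b ≠ 1 ∧ z ≠ b ∧ z * b = b * z ∧
    ∀ x : L, x * z = z * x → x * b = b * x → x = 1 ∨ x = z ∨ x = b ∨ x = z * b := by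
  have := finite h
  have : Fact (Nat.Prime 2) := ⟨Nat.prime_two⟩
  obtain ⟨z, hz⟩ := exists_prime_orderOf_dvd_card' (G := L) 2 (by rw [(isM11 h).2]; norm_num)
  have hzz : z * z = 1 := by rw [← pow_two, ← hz]; exact pow_orderOf_eq_one z
  have hz1 : z ≠ 1 := by rintro rfl; simp at hz
  obtain ⟨e⟩ := nonempty_equiv h hz
  have hdd : ∃ d : X, d * d = 1 ∧ d ≠ 1 ∧ d ≠ -1 ∧ d.1 = !![1, 0; 0, -1] :=
    ⟨⟨!![1, 0; 0, -1], !![1, 0; 0, -1], by decide, by decide⟩, by
      refine ⟨?_, ?_, ?_, rfl⟩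
      · ext i j; fin_cases i <;> fin_cases j <;> decide
      · intro h; have := congrArg (fun x : X => x.1 1 1) h; revert this; decide
      · intro h; have := congrArg (fun x : X => x.1 0 0) h; revert this; decide⟩
  obtain ⟨d, h1, h2, h3, h4⟩ := hdd
  have hXd : ∀ x : X, x * d = d * x → x = 1 ∨ x = -1 ∨ x = d ∨ x = -1 * d := by
    intro x hx
    have h5 : x.1 * d.1 = d.1 * x.1 := congrArg Units.val hx
    rw [h4, mat_eq x] at h5
    have e01 := congrFun (congrFun h5 0) 1
    have e10 := congrFun (congrFun h5 1) 0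
    simp [Matrix.mul_apply, Fin.sum_univ_two] at e01 e10
    have hdet := det_cases x
    rw [det_eq] at hdet
    have key : ∀ a b c e : ZMod 3, -b = b → c = -c → (a * e - b * c = 1 ∨ a * e - b * c = -1) →
        b = 0 ∧ c = 0 ∧ ((a = 1 ∧ e = 1) ∨ (a = -1 ∧ e = -1) ∨ (a = 1 ∧ e = -1) ∨ (a = -1 ∧ e = 1)) := by
      decide
    obtain ⟨k1, k2, k3⟩ := key _ _ _ _ e01 e10 hdet
    have hval : ∀ y : X, x.1 = y.1 → x = y := fun y hy => Units.ext hy
    rcases k3 with ⟨k3, k4⟩ | ⟨k3, k4⟩ | ⟨k3, k4⟩ | ⟨k3, k4⟩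
    · left
      apply hval; rw [mat_eq x, k1, k2, k3, k4]; exact Matrix.one_fin_two.symm
    · right; left
      apply hval; rw [mat_eq x, k1, k2, k3, k4]
      ext i j; fin_cases i <;> fin_cases j <;> simp
    · right; right; left
      apply hval; rw [mat_eq x, k1, k2, k3, k4, h4]
    · right; right; right
      apply hval; rw [mat_eq x, k1, k2, k3, k4]
      ext i j; fin_cases i <;> fin_cases j <;> simp [h4]
  have hsub : ∀ y : X, ((e.symm y : ↥(centralizer ({z} : Set L))) : L) * z =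
      z * ((e.symm y : ↥(centralizer ({z} : Set L))) : L) := fun y => mem_cent.1 (e.symm y).2
  have hz' : e ⟨z, self_mem z⟩ = -1 := equiv_z hz e
  have hb1 : ((e.symm d : ↥(centralizer ({z} : Set L))) : L) ≠ 1 := by
    intro h5
    apply h2
    have h6 : e.symm d = 1 := Subtype.ext h5
    rw [← map_one e.symm] at h6
    exact e.symm.injective h6
  have hzb : z ≠ ((e.symm d : ↥(centralizer ({z} : Set L))) : L) := by
    intro h5
    apply h3
    have h6 : e.symm d = ⟨z, self_mem z⟩ := Subtype.ext h5.symm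
    rw [← hz', ← h6, e.apply_symm_apply]
  refine ⟨z, (e.symm d : L), hzz, ?_, hz1, hb1, hzb, (hsub d).symm, ?_⟩
  · have := congrArg Subtype.val (congrArg e.symm h1)
    simpa using this
  · intro x hxz hxb
    have hx : x ∈ centralizer ({z} : Set L) := mem_cent.2 hxz
    have h5 : (⟨x, hx⟩ : ↥(centralizer ({z} : Set L))) * e.symm d = e.symm d * ⟨x, hx⟩ := Subtype.ext hxb
    have h6 : e ⟨x, hx⟩ * d = d * e ⟨x, hx⟩ := by
      have := congrArg e h5
      rwa [map_mul, map_mul, e.apply_symm_apply] at this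
    rcases hXd _ h6 with h7 | h7 | h7 | h7
    · left
      rw [← map_one e] at h7
      exact congrArg Subtype.val (e.injective h7)
    · right; left
      rw [← hz'] at h7
      exact congrArg Subtype.val (e.injective h7)
    · right; right; left
      have h8 : (⟨x, hx⟩ : ↥(centralizer ({z} : Set L))) = e.symm d := by
        rw [← h7, e.symm_apply_apply]
      exact congrArg Subtype.val h8
    · right; right; right
      rw [← hz'] at h7
      have h8 : (⟨x, hx⟩ : ↥(centralizer ({z} : Set L))) = ⟨z, self_mem z⟩ * e.symm d := by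
        apply e.injective
        rw [h7, map_mul, e.apply_symm_apply]
      exact congrArg Subtype.val h8

theorem center_eq_bot {L : Type*} [Group L] (h : Cfsg.Spor.IsoM11 L) : center L = ⊥ := by
  have := finite h
  have : Fact (Nat.Prime 2) := ⟨Nat.prime_two⟩
  obtain ⟨z, b, hzz, hbb, hz1, hb1, hzb, hc, hC⟩ := exists_four h
  have hz : orderOf z = 2 := orderOf_eq_prime (by rw [pow_two, hzz]) hz1
  rw [eq_bot_iff]
  intro x hx
  rw [mem_center_iff] at hx
  rw [mem_bot]
  rcases eq_of_comm_QQ h hz (x := x) (fun y _ => (hx y).symm) with h1 | h1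
  · exact h1
  · exfalso
    rw [h1] at hx
    have h2 : centralizer ({z} : Set L) = ⊤ := by
      rw [eq_top_iff]
      intro y _
      exact mem_cent.2 (hx y)
    have h3 := index_centralizer h hz
    rw [h2, index_top] at h3
    omega

/-- **row `m11` of `D8.Rows.All`** -/
theorem row : Rows.Row.{u} (fun K _ => Spor.IsoM11 K) := by
  intro G _ hG K hK hC h
  have := hG.fin
  have := hG.simple
  have : Fact (Nat.Prime 2) := ⟨Nat.prime_two⟩
  obtain ⟨t, q, hs⟩ := exists_start hG hK hC (center_eq_bot h)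
  have hin : ∀ a : MulAut ↥K, ∃ g : ↥K, a = MulAut.conj g := aut_inner h
  by_cases hq : q * q = 1
  · obtain ⟨z, b, hzz, hbb, hz1, hb1, hzb, hc, hCzb⟩ := exists_four h
    apply hG.sect5
    refine SelfFour.rank4 hs hin hq (a := (z : G)) (b := (b : G)) z.2 b.2 (congrArg Subtype.val hzz)
      (congrArg Subtype.val hbb) (fun e => hz1 (Subtype.ext e)) (fun e => hb1 (Subtype.ext e))
      (fun e => hzb (Subtype.ext e)) (congrArg Subtype.val hc) ?_
    intro x hx hxz hxb
    rcases hCzb ⟨x, hx⟩ (Subtype.ext hxz) (Subtype.ext hxb) with e | e | e | e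
    · exact Or.inl (congrArg Subtype.val e)
    · exact Or.inr (Or.inl (congrArg Subtype.val e))
    · exact Or.inr (Or.inr (Or.inl (congrArg Subtype.val e)))
    · exact Or.inr (Or.inr (Or.inr (congrArg Subtype.val e)))
  · refine SelfFour.false_of_isolated hG.na hs.tt hs.t1 (SelfFour.isolated hs hin ?_ hq)
    intro k hk hkk hk1 x hx hxk hxC
    have hkk' : (⟨k, hk⟩ : ↥K) * ⟨k, hk⟩ = 1 := Subtype.ext hkk
    have hk1' : (⟨k, hk⟩ : ↥K) ≠ 1 := fun e => hk1 (congrArg Subtype.val e)
    have ho : orderOf (⟨k, hk⟩ : ↥K) = 2 := orderOf_eq_prime (by rw [pow_two, hkk']) hk1'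
    rcases eq_of_comm_QQ h ho (x := ⟨x, hx⟩) (fun y hy => by
      have hy' : y * ⟨k, hk⟩ = ⟨k, hk⟩ * y := mem_cent.1 (QQ_le' _ hy)
      exact Subtype.ext (hxC y y.2 (congrArg Subtype.val hy')).symm) with e | e
    · have : x = 1 := congrArg Subtype.val e
      rw [this, one_mul]
    · have : x = k := congrArg Subtype.val e
      rw [this, hkk]

end Cfsg.Agent.OddHalf.D8.RowM11
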