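import Cfsg.Agent.OddHalf.CaseM.Sheet
import Cfsg.Agent.OddHalf.D8.SheetMap

/-!
# The sheet of case (M) along an isomorphism (copy of helper950's lemma, without the Thompson group)
-/

set_option autoImplicit false

namespace Cfsg.Agent.OddHalf.D8.SheetMMap

open Cfsg.Agent.OddHalf.D8.Sheet Cfsg.Agent.OddHalf.CaseM

open scoped commutatorElement

section

variable {K K' : Type*} [Group K] [Group K']

/-- `SheetM` along an isomorphism -/
theorem sheetM_map (e : K ≃* K') {P R : Subgroup K} (h : SheetM P R) :
    SheetM (P.map e.toMonoidHom) (R.map e.toMonoidHom) := by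
  have hinj : Function.Injective (Subgroup.map e.toMonoidHom) := Subgroup.map_injective e.injective
  have key : ∀ S : Subgroup K', ∃ S0 : Subgroup K, S = S0.map e.toMonoidHom := fun S =>
    ⟨S.comap e.toMonoidHom, by rw [Subgroup.map_comap_eq_self_of_surjective e.surjective]⟩
  constructor
  · intro S hS hsub hp hne
    obtain ⟨S0, rfl⟩ := key S
    have hS0 : S0 ≤ P := (Subgroup.map_le_map_iff_of_injective e.injective).1 hS
    have h2 : ⁅S0, S0⁆ = S0 := hinj (by rw [Subgroup.map_commutator]; exact hp)
    have h3 : S0 ≠ ⊥ := by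
      rintro rfl
      exact hne (Subgroup.map_bot _)
    have h1 : (S0.subgroupOf P).IsSubnormal := by
      let f : P →* P.map e.toMonoidHom := (e.subgroupMap P).toMonoidHom
      have h4 := hsub.comap f
      have h5 : ((S0.map e.toMonoidHom).subgroupOf (P.map e.toMonoidHom)).comap f = S0.subgroupOf P := by
        ext x
        rw [Subgroup.mem_comap, Subgroup.mem_subgroupOf, Subgroup.mem_subgroupOf]
        show e (x : K) ∈ S0.map e.toMonoidHom ↔ _
        constructor
        · rintro ⟨y, hy, hyx⟩
          have h6 : y = x := e.injective hyx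
          rw [← h6]; exact hy
        · intro hx; exact ⟨_, hx, rfl⟩
      rwa [h5] at h4
    rw [← Subgroup.map_commutator, h.big S0 hS0 h1 h2 h3]
  · obtain ⟨w, hw, hi⟩ := h.idx
    refine ⟨w, ?_, ?_⟩
    · exact (Nat.card_congr (e.subgroupMap R).toEquiv).symm.le.trans hw
    · intro H hH hi2
      obtain ⟨H0, rfl⟩ := key H
      have hH0 : H0 ≤ P := (Subgroup.map_le_map_iff_of_injective e.injective).1 hH
      rw [Subgroup.relIndex_map_map_of_injective _ _ e.injective] at hi2
      rw [hi H0 hH0 hi2]
  · intro α hodd hα
    let β : MulAut K := (e.trans α).trans e.symm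
    have hβ : ∀ x, e (β x) = α (e x) := fun x => by
      show e (e.symm (α (e x))) = _
      rw [MulEquiv.apply_symm_apply]
    have hpow : ∀ (n : ℕ) x, e ((β ^ n) x) = (α ^ n) (e x) := by
      intro n
      induction n with
      | zero => intro x; rfl
      | succ n ih =>
        intro x
        rw [pow_succ, pow_succ, MulAut.mul_apply, MulAut.mul_apply, ih, hβ]
    have hord : orderOf β ∣ orderOf α := by
      apply orderOf_dvd_of_pow_eq_one
      apply MulEquiv.ext
      intro x
      apply e.injective
      rw [hpow, pow_orderOf_eq_one]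
      rfl
    have h1 : β = 1 := h.odd β (hodd.of_dvd_nat hord) (fun x hx => by
      apply e.injective
      rw [hβ]
      exact hα _ ⟨x, hx, rfl⟩)
    apply MulEquiv.ext
    intro y
    obtain ⟨x, rfl⟩ := e.surjective y
    rw [← hβ, h1]
    rfl

end

end Cfsg.Agent.OddHalf.D8.SheetMMap
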