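import Cfsg.Agent.OddHalf.D8.MainE
import Cfsg.Agent.OddHalf.D8.SheetMap
import Cfsg.Agent.OddHalf.D8.SheetMMap
import Cfsg.Agent.KFacts.CoTwo.QuotInst
import Cfsg.Agent.KFacts.CoTwo.Sheets

/-!
# ODD half, D8: the row of the second Conway group (helper902, with helper904, helper235)
-/

set_option autoImplicit false

namespace Cfsg.Agent.OddHalf.D8.RowCo2

open Cfsg Cfsg.Agent.OddHalf.D8.Sheet

universe u

/-- the field `co2` of `Final.Missing` (`FactsE`) -/
theorem facts (K : Type u) [Group K] (_ : Finite K) (e : Spor.IsoCo2 K) :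
    ∃ (z : K) (P R : Subgroup K), SheetE z P R ∧ CaseM.SheetM P R := by
  obtain ⟨e⟩ := e
  have := Cfsg.Agent.Schreier.CoTwoStab.finite
  have h := Cfsg.Agent.KFacts.CoTwo.Sheets.sheets Cfsg.Agent.KFacts.CoTwo.QuotInst.dataT
  exact ⟨_, _, _, SheetMap.sheetE_map e.symm h.1, SheetMMap.sheetM_map e.symm h.2⟩

/-- the row modulo the K-free case (M) -/
theorem row_of_noComp (hM : MainE.NoComp.{u} (fun _ _ _ P R => CaseM.SheetM P R)) :
    Rows.Row.{u} (fun K _ => Spor.IsoCo2 K) :=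
  MainE.row_of hM facts

end Cfsg.Agent.OddHalf.D8.RowCo2
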