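import Cfsg.Agent.OddHalf.D8.MainE
import Cfsg.Agent.OddHalf.CaseM.Sign
import Cfsg.Agent.OddHalf.CaseC.Row
import Cfsg.Agent.OddHalf.D8.RowM11
import Cfsg.Agent.OddHalf.EightTorus.Rows

/-!
# ODD half: the node D8 (helper915, integrator)

`Given`: the statements of other nodes which are used. `Missing`: the list of the statements on sporadic groups from
which the node `Iface.D8` follows (`d8`). Fields disappear from the list when they are proved.
-/

set_option autoImplicit false

namespace Cfsg.Agent.OddHalf.D8.Final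

open Subgroup Cfsg Cfsg.Agent.OddHalf.D8.Sheet Cfsg.Agent.OddHalf.D8.Rows

universe u

/-- the statements of other nodes -/
structure Given : Prop where
  /-- the Schreier property of the known simple groups -/
  sch : Cfsg.Agent.Schreier.Cases.SchFor.{u} @IsKnownSimple'
  /-- Gorenstein-Walter (S0483) -/
  gw : SylowSp4.Hyps.GW.{u}
  /-- no intrinsic component of Lie type in odd characteristic (node NI) -/
  ni : CaseM.NI.{u}
  /-- the 2-parts of the multipliers (D9 / D10) -/
  mult : D9.Cut.Mult.{u}
  /-- `OutSign` for the groups with even multiplier (table of helper53) -/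
  sign : CaseM.SignRows.{u}

/-- `C_G(z)` has no component -/
def NoCompM : Prop := MainE.NoComp.{u} (fun _ _ _ P R => CaseM.SheetM P R)

/-- case (M) (helper271) -/
theorem noCompM (g : Given.{u}) (I : Iface.Intr2.{u}) : NoCompM.{u} :=
  CaseM.noComp_of g.sch g.gw (fun G _ C M z hz hM hzM hCM => I G C M hM
    (by
      intro R
      have h1 : IsCyclic ↥(centralizer (M : Set G)) := by
        rw [hCM]
        infer_instance
      infer_instance)
    ⟨z, hz, hzM, by rw [hCM]; exact mem_zpowers z⟩) g.ni g.mult g.sign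

/-- the facts on a group of type (E) -/
def FactsE (X : (K : Type u) → [Group K] → Prop) : Prop :=
  ∀ (K : Type u) [Group K], Finite K → X K →
    ∃ (z : K) (P R : Subgroup K), SheetE z P R ∧ CaseM.SheetM P R

/-- the row of a group of type (E) -/
theorem rowE (hM : NoCompM.{u}) {X : (K : Type u) → [Group K] → Prop} (hX : FactsE.{u} X) : Row.{u} X :=
  MainE.row_of hM hX

/-- the facts on a group of type (C) -/
def FactsC (X : (K : Type u) → [Group K] → Prop) : Prop :=
  ∀ (K : Type u) [Group K], Finite K → X K → center K = ⊥ ∧ ∃ (z : K) (P : Subgroup K), CaseC.SheetC z P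

/-- the row of a group of type (C) (helper971) -/
theorem rowC (g : Given.{u}) (I : Iface.Intr2.{u}) {X : (K : Type u) → [Group K] → Prop} (hX : FactsC.{u} X) :
    Row.{u} X :=
  CaseC.row_of g.sch g.gw (fun G _ C M z h => I G C M h.std
    (by
      intro R
      have h1 : IsCyclic ↥(centralizer (M : Set G)) := by
        rw [h.cent]
        infer_instance
      infer_instance)
    ⟨z, h.hz, h.zM, by rw [h.cent]; exact mem_zpowers z⟩) (CaseM.intrSign g.ni g.mult g.sign) hX

/-- the missing statements -/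
structure Missing : Prop where
  -- facts on groups of type (E)
  suz : FactsE.{u} (fun K _ => Spor.IsoSuz K)
  j3 : FactsE.{u} (fun K _ => Spor.IsoJ3 K)
  th : FactsE.{u} (fun K _ => Spor.IsoTh K)
  co1 : FactsE.{u} (fun K _ => Spor.IsoCo1 K)
  co2 : FactsE.{u} (fun K _ => Spor.IsoCo2 K)
  b : FactsE.{u} (fun K _ => Spor.IsoB K)
  m : FactsE.{u} (fun K _ => Spor.IsoM K)
  j4 : FactsE.{u} (fun K _ => Spor.IsoJ4 K)
  hn : FactsE.{u} (fun K _ => Spor.IsoHN K)
  fi24 : FactsE.{u} (fun K _ => Spor.IsoFi24' K)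
  -- facts on a group of type (C)
  co3 : FactsC.{u} (fun K _ => Spor.IsoCo3 K)
  -- rows
  m22 : Row.{u} (fun K _ => Spor.IsoM22 K)
  m23 : Row.{u} (fun K _ => Spor.IsoM23 K)
  m24 : Row.{u} (fun K _ => Spor.IsoM24 K)
  j2 : Row.{u} (fun K _ => Spor.IsoJ2 K)
  hs : Row.{u} (fun K _ => Spor.IsoHS K)
  he : Row.{u} (fun K _ => Spor.IsoHe K)
  ru : Row.{u} (fun K _ => Spor.IsoRu K)
  on : Row.{u} (fun K _ => Spor.IsoON K)
  fi22 : Row.{u} (fun K _ => Spor.IsoFi22 K)
  fi23 : Row.{u} (fun K _ => Spor.IsoFi23 K)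

/-- all rows from the missing statements -/
theorem all (g : Given.{u}) (I : Iface.Intr2.{u}) (h : Missing.{u}) : All.{u} :=
  have hM := noCompM g I
  { m11 := RowM11.row
    m22 := h.m22
    m23 := h.m23
    m24 := h.m24
    j1 := EightTorus.Rows.j1
    j2 := h.j2
    j3 := rowE hM h.j3
    j4 := rowE hM h.j4
    co1 := rowE hM h.co1
    co2 := rowE hM h.co2
    co3 := rowC g I h.co3
    hs := h.hs
    suz := rowE hM h.suz
    he := h.he
    ru := h.ru
    on := h.on
    fi22 := h.fi22
    fi23 := h.fi23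
    fi24 := rowE hM h.fi24
    hn := rowE hM h.hn
    th := rowE hM h.th
    b := rowE hM h.b
    m := rowE hM h.m }

/-- **the node D8** (as in `Main.Nodes.d8`) -/
theorem d8 (g : Given.{u}) (h : Iface.Intr2.{u} → Missing.{u}) : Iface.Intr2.{u} → Iface.D8.{u} :=
  fun hI => d8_of_rows (all g hI (h hI))

end Cfsg.Agent.OddHalf.D8.Final
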