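import Cfsg.Agent.OddHalf.D8.GlueE

/-!
# ODD half, D8: the output of the front end (helper915)

`Out K t q z P`: `Emb K t q z P`, `Q = ⟨t⟩`, some 2-element maps `t` to `t z` and `z` to `z`, `t` and `z` are not conjugate
in `G`, and `t` lies in the commutator subgroup of `C_G(z)`.

`out_of_odd`: this holds if `Q K` has odd index in `C_G(t)`.
-/

set_option autoImplicit false

namespace Cfsg.Agent.OddHalf.D8.Front

open Subgroup Cfsg Cfsg.Agent.OddHalf.Front.FE Cfsg.Agent.OddHalf.D8.Sheet Cfsg.Agent.OddHalf.D8.GlueE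

universe u

/-- the output of the front end -/
structure Out {G : Type u} [Group G] (K : Subgroup G) (t q : G) (z : K) (P : Subgroup K) : Prop where
  emb : Emb K t q z P
  /-- `Q = ⟨t⟩` -/
  Q2 : ∀ y ∈ zpowers q, y = 1 ∨ y = t
  swap : ∃ x : G, IsPGroup 2 (zpowers x) ∧ x * t * x⁻¹ = t * z ∧ x * z * x⁻¹ = z
  ne : ∀ g : G, g * t * g⁻¹ ≠ z
  com : (⟨t, mem_centralizer_singleton_iff.2 emb.comm⟩ : centralizer ({(z : G)} : Set G)) ∈
    commutator (centralizer ({(z : G)} : Set G))

variable {G : Type u} [Group G]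

/-- the data of the clean case -/
theorem clean [Finite G] {K : Subgroup G} {t q : G} {z : K} {P : Subgroup K} (h : Emb K t q z P)
    (hodd : ¬ 2 ∣ (zpowers q ⊔ K).relIndex (centralizer ({t} : Set G))) :
    ∃ SK : Subgroup G, TR.Clean t z (zpowers q) K SK (P.map K.subtype) := by
  obtain ⟨S, hzS, hcz, hcS⟩ := h.sh.syl
  refine ⟨(S : Subgroup K).map K.subtype, ?_⟩
  have hSK : ((S : Subgroup K).map K.subtype).subgroupOf K = S :=
    comap_map_eq_self_of_injective K.subtype_injective _
  exact
    { tt := h.st.tt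
      t1 := h.st.t1
      tQ := h.st.tQ
      pQ := h.st.pQ
      cyc := inferInstance
      cen := fun a ha k hk => (h.st.QK a ha k hk).symm
      inf := fun x hx hxK => h.st.cen x hxK fun y hy => h.st.QK x hx y hy
      odd := hodd
      pS := S.isPGroup'.map _
      SK_le := map_subtype_le _
      oddS := by
        rw [relIndex, hSK]
        exact S.not_dvd_index
      zz := h.zz
      z1 := h.z1
      zS := ⟨z, hzS, rfl⟩
      zc := by
        rintro _ ⟨x, hx, rfl⟩
        exact congrArg Subtype.val (hcz x hx)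
      cS := by
        rintro _ ⟨y, hy, rfl⟩ hc
        rcases hcS y hy (fun x hx => Subtype.ext (hc x ⟨x, hx, rfl⟩)) with e | e
        · exact Or.inl (congrArg Subtype.val e)
        · exact Or.inr (congrArg Subtype.val e)
      sol := h.sol
      zP := ⟨z, h.sh.zP, rfl⟩
      perf := by rw [← map_commutator, h.sh.perf]
      P_le := by
        rintro _ ⟨y, hy, rfl⟩
        exact ⟨y.2, mem_centralizer_singleton_iff.2 (congrArg Subtype.val (h.sh.cen y hy))⟩
      P_der := by
        obtain ⟨m, hm⟩ := h.sh.der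
        refine ⟨m, ?_⟩
        have h1 : K ⊓ centralizer ({(z : G)} : Set G) ≤ (centralizer ({z} : Set K)).map K.subtype := by
          intro x hx
          exact Emb.mem_map.2 ⟨hx.1, mem_centralizer_singleton_iff.2
            (Subtype.ext (mem_centralizer_singleton_iff.1 hx.2))⟩
        refine (TR.dser_mono m h1).trans ?_
        have h2 : ∀ m, ∀ L : Subgroup K, TR.dser m (L.map K.subtype) = (TR.dser m L).map K.subtype := by
          intro m L
          induction m with
          | zero => rfl
          | succ m ih => rw [TR.dser_succ', TR.dser_succ', ih, map_commutator]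
        rw [h2]
        exact map_mono hm }

/-- **the clean case** -/
theorem out_of_odd [Finite G] (hG : commutator G = ⊤) {K : Subgroup G} {t q : G} {z : K} {P : Subgroup K}
    (h : Emb K t q z P)
    (hodd : ¬ 2 ∣ (zpowers q ⊔ K).relIndex (centralizer ({t} : Set G))) : Out K t q z P := by
  obtain ⟨SK, hc⟩ := clean h hodd
  obtain ⟨hQ2, S, -, -, ⟨x, hxS, -, -, hxt, hxz⟩, hne, hcom⟩ := hc.main hG
  exact ⟨h, hQ2, ⟨x, S.isPGroup'.to_le (by rw [zpowers_le]; exact hxS), hxt, hxz⟩, hne, hcom⟩

end Cfsg.Agent.OddHalf.D8.Front
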