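import Cfsg.Agent.OddHalf.Soft
import Cfsg.Agent.OddHalf.D3.Basic
import Cfsg.Agent.ClassificationK.PCompTransport
import Cfsg.Agent.S1301

/-!
# ODD half, D8: the pump-up of `J` in `C(a)` (helper921)

`a`, `t` commuting involutions, `J` a quasisimple subnormal subgroup of even order of `C(a) ∩ C(t)`, `O(C(a)) = 1`:
there is a component `D` of `C(a)` with `J = D`, or `J < D = D^t`, or `D^t ≠ D` and `J = {d d^t : d ∈ D}`.
-/

set_option autoImplicit false

namespace Cfsg.Agent.OddHalf.D8.PumpX

open Subgroup Cfsg Cfsg.Agent.SignalizersComponents Cfsg.Agent.OddHalf.D3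

theorem pLayer_le_layer {X : Type*} [Group X] (hO : pPrimeCore 2 X = ⊥) :
    pLayer 2 X ≤ layer X :=
  sSup_le fun K hK => Components.component_le_layer
    (Cfsg.Agent.ClassificationK.PCompTransport.isComponent_of_isPComponent 2 hK
      (by rw [hO, commutator_bot_right]))

variable {G : Type*} [Group G]

/-- `J` is a component of `C_X(t)`, `X = C(a)`. -/
theorem comp_in {a t : G} (hat : a * t = t * a) {J : Subgroup G}
    (hJa : J ≤ centralizer ({a} : Set G)) (hJt : J ≤ centralizer ({t} : Set G)) (hq : IsQuasisimple J)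
    (hsub : (J.subgroupOf (centralizer ({a} : Set G) ⊓ centralizer ({t} : Set G))).IsSubnormal) :
    Comp (⟨t, mem_cs.2 hat.symm⟩ : centralizer ({a} : Set G)) (J.subgroupOf (centralizer ({a} : Set G))) := by
  have hle : J.subgroupOf (centralizer ({a} : Set G)) ≤
      centralizer ({(⟨t, mem_cs.2 hat.symm⟩ : centralizer ({a} : Set G))} : Set (centralizer ({a} : Set G))) := by
    intro k hk
    rw [mem_cs]
    exact Subtype.ext (mem_cs.1 (hJt hk))
  refine ⟨hle, ?_, ?_⟩
  · let ι : centralizer ({(⟨t, mem_cs.2 hat.symm⟩ : centralizer ({a} : Set G))} :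
        Set (centralizer ({a} : Set G))) →* ↥(centralizer ({a} : Set G) ⊓ centralizer ({t} : Set G)) :=
      ((centralizer ({a} : Set G)).subtype.comp (Subgroup.subtype (centralizer
        ({(⟨t, mem_cs.2 hat.symm⟩ : centralizer ({a} : Set G))} :
          Set (centralizer ({a} : Set G)))))).codRestrict _ (by
        rintro ⟨c, hc⟩
        exact mem_inf.2 ⟨c.2, mem_cs.2 (congrArg Subtype.val (mem_cs.1 hc))⟩)
    exact hsub.comap ι
  · exact Components.isQuasisimple_of_mulEquiv
      ((subgroupOfEquivOfLe hle).trans (subgroupOfEquivOfLe hJa)).symm hq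

/-- **The pump-up of `J`.** -/
theorem pump [Finite G] {a t : G} (hO : centralizerPPrimeCore 2 a = ⊥) (tt : t * t = 1)
    (hat : a * t = t * a) {J : Subgroup G}
    (hJa : J ≤ centralizer ({a} : Set G)) (hJt : J ≤ centralizer ({t} : Set G)) (hq : IsQuasisimple J)
    (heven : 2 ∣ Nat.card J)
    (hsub : (J.subgroupOf (centralizer ({a} : Set G) ⊓ centralizer ({t} : Set G))).IsSubnormal) :
    ∃ D : Subgroup G, Comp a D ∧ (J = D ∨ (J < D ∧ cj t D = D) ∨
      (cj t D ≠ D ∧ (∀ d ∈ D, d * (t * d * t⁻¹) ∈ J) ∧ ∀ l ∈ J, ∃ d ∈ D, l = d * (t * d * t⁻¹))) := by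
  have hc := comp_in hat hJa hJt hq hsub
  set X := centralizer ({a} : Set G) with hX
  set t' : X := ⟨t, mem_cs.2 hat.symm⟩ with ht'
  have htt' : t' * t' = 1 := Subtype.ext tt
  have hT : IsPGroup 2 (zpowers t') := by
    rintro ⟨x, hx⟩
    obtain ⟨i, rfl⟩ := mem_zpowers_iff.1 hx
    refine ⟨1, Subtype.ext ?_⟩
    show (t' ^ i) ^ (2 ^ 1) = 1
    rw [pow_one, pow_two, ← (Commute.refl t').mul_zpow, htt', one_zpow]
  have h3 := Cfsg.Agent.S1301.result (zpowers t') hT
  have hcz : centralizer ((zpowers t' : Subgroup X) : Set X) = centralizer ({t'} : Set X) := by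
    rw [zpowers_eq_closure, centralizer_closure]
  rw [hcz] at h3
  have hJX : J.subgroupOf X ≤ layer X := by
    refine le_trans ?_ (h3.trans (pLayer_le_layer (Soft.core_eq_bot hO)))
    have h2 : 2 ∣ Nat.card ((J.subgroupOf X).subgroupOf (centralizer ({t'} : Set X))) := by
      rw [Nat.card_congr ((subgroupOfEquivOfLe hc.le).trans (subgroupOfEquivOfLe hJa)).toEquiv]
      exact heven
    have : Fact (Nat.Prime 2) := ⟨Nat.prime_two⟩
    have h4 := Subgroup.map_mono (f := (centralizer ({t'} : Set X)).subtype)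
      (show (J.subgroupOf X).subgroupOf (centralizer ({t'} : Set X)) ≤
        pLayer 2 (centralizer ({t'} : Set X)) from
          le_sSup (EvenComponent.isPComponent_of_isComponent hc.comp h2))
    rwa [map_subgroupOf_eq_of_le hc.le] at h4
  obtain ⟨D, hD, h⟩ := trichotomy_of_le_layer t' htt' _ hc hJX
  have hmap : (J.subgroupOf X).map X.subtype = J := map_subgroupOf_eq_of_le hJa
  have hDc : Comp a (D.map X.subtype) := comp_map hD
  refine ⟨D.map X.subtype, hDc, ?_⟩
  rcases h with h | h | ⟨h1, h2, h3⟩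
  · left
    rw [← h, hmap]
  · right; left
    have hlt : J < D.map X.subtype := by
      refine lt_of_le_of_ne ?_ ?_
      · rw [← hmap]; exact map_mono h.le
      · intro he
        apply h.ne
        apply map_injective X.subtype_injective
        rw [hmap, ← he]
    refine ⟨hlt, ?_⟩
    by_contra hne
    have h5 := hDc.conj_of_comm (g := t) hat.symm
    have h6 := h5.comm hDc hne
    apply not_comm_self hq
    intro x hx
    rw [mem_centralizer_iff]
    intro y hy
    have hx' : x ∈ cj t (D.map X.subtype) := by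
      rw [mem_cj]
      have : t⁻¹ * x * t = x := by
        rw [mul_assoc, mem_cs.1 (hJt hx)]; group
      rw [this]
      exact hlt.le hx
    exact (comm_elt h6 hx' (hlt.le hy)).symm
  · right; right
    have e : ∀ d : G, t * d * t⁻¹ = t * d * t⁻¹ := fun _ => rfl
    refine ⟨?_, ?_, ?_⟩
    · intro he
      apply h1
      apply map_injective X.subtype_injective
      rw [cj_map_subtype]
      exact he
    · rintro _ ⟨d, hd, rfl⟩
      have := h2 d hd
      exact this
    · intro l hl
      obtain ⟨d, hd, hdl⟩ := h3 ⟨l, hJa hl⟩ hl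
      exact ⟨d, ⟨d, hd, rfl⟩, congrArg Subtype.val hdl⟩

end Cfsg.Agent.OddHalf.D8.PumpX
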