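import Cfsg.Agent.OddHalf.D8.MainE
import Cfsg.Agent.KFacts.Baby.FactsB
import Cfsg.Agent.KFacts.CoTwo.Main
import Cfsg.Agent.Schreier.CoTwoStab

/-!
# ODD half, D8: the row `K = B`

`inner`: every automorphism of the model of `Co2` in the centraliser of the central involution of the Baby Monster is
inner. `facts`: the facts of type (E).
-/

set_option autoImplicit false

namespace Cfsg.Agent.OddHalf.D8.RowB

open Subgroup Cfsg Cfsg.Agent.OddHalf.D8.Sheet

universe u

/-- every automorphism of `GroupInst.K₀` is inner -/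
theorem inner : Cfsg.Agent.KFacts.Baby.Sheet.Inner := by
  intro α
  obtain ⟨e⟩ := Cfsg.Agent.Schreier.CoTwoStab.exists_equiv _ Cfsg.Agent.BabyM.GroupInst.dt_l₀
  exact Cfsg.Agent.KFacts.CoTwo.Main.allInner_iso e α

/-- **The facts of type (E) on `B`.** -/
theorem facts (K : Type u) [Group K] (hf : Finite K) (hK : Spor.IsoB K) :
    ∃ (z : K) (P R : Subgroup K), SheetE z P R ∧ CaseM.SheetM P R :=
  Cfsg.Agent.KFacts.Baby.FactsB.facts inner K hf hK

/-- **the row `K = B`** -/
theorem row_of_noComp (hM : MainE.NoComp.{u} (fun _ _ _ P R => CaseM.SheetM P R)) :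
    Rows.Row.{u} (fun K _ => Spor.IsoB K) :=
  MainE.row_of hM facts

end Cfsg.Agent.OddHalf.D8.RowB
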