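import Cfsg.Agent.OddHalf.D8.MainE
import Cfsg.Agent.KFacts.Co1.CaseM

/-!
# ODD half, D8: the row of the first Conway group (helper899)

`facts`: the facts of type (E) and of case (M) (`Final.FactsE`); the datum of the `y`-trick is
helper281's (`KFacts.Co1.YTrick`).
-/

set_option autoImplicit false

namespace Cfsg.Agent.OddHalf.D8.RowCo1

open Cfsg Cfsg.Agent.OddHalf.D8.Sheet

universe u

/-- the facts on `Co1` -/
theorem facts (K : Type u) [Group K] (_ : Finite K) (e : Spor.IsoCo1 K) :
    ∃ (z : K) (P R : Subgroup K), SheetE z P R ∧ CaseM.SheetM P R :=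
  Cfsg.Agent.KFacts.Co1.CaseM.exists_sheets K e

/-- **the row K = Co1 of D8** (`hM` = `CaseM.noComp ..`) -/
theorem row (hM : MainE.NoComp.{u} (fun _ _ _ P R => CaseM.SheetM P R)) :
    Rows.Row.{u} (fun K _ => Spor.IsoCo1 K) :=
  MainE.row_of hM fun K _ hf e => facts K hf e

end Cfsg.Agent.OddHalf.D8.RowCo1
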