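import Cfsg.Agent.OddHalf.D8.MainE
import Cfsg.Agent.OddHalf.D8.SheetMap
import Cfsg.Agent.OddHalf.D8.SheetMMap
import Cfsg.Agent.KFacts.HN.SheetM

/-!
# ODD half, D8: the row of the Harada-Norton group
-/

set_option autoImplicit false

namespace Cfsg.Agent.OddHalf.D8.RowHN

open Cfsg Cfsg.Agent.OddHalf.D8.Sheet

universe u

/-- the field `hn` of `Final.Missing` (`FactsE`) -/
theorem facts (K : Type u) [Group K] (_ : Finite K) (e : Spor.IsoHN K) :
    ∃ (z : K) (P R : Subgroup K), SheetE z P R ∧ CaseM.SheetM P R := by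
  obtain ⟨e⟩ := e
  exact ⟨_, _, _, SheetMap.sheetE_map e.symm Cfsg.Agent.KFacts.HN.sheetE,
    SheetMMap.sheetM_map e.symm Cfsg.Agent.KFacts.HN.sheetM⟩

/-- the row modulo the K-free case (M) -/
theorem row_of_noComp (hM : MainE.NoComp.{u} (fun _ _ _ P R => CaseM.SheetM P R)) :
    Rows.Row.{u} (fun K _ => Spor.IsoHN K) :=
  MainE.row_of hM facts

end Cfsg.Agent.OddHalf.D8.RowHN
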