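import Cfsg.Agent.OddHalf.D8.HS.EndM
import Cfsg.Agent.KFacts.HS.Comm

/-!
# ODD half, D8: the row of the Higman-Sims group

G-level: helper970, helper896, helper702 (`HS/EndM.row`); facts: helper473 (`KFacts.HS.exists_sheet`).
-/

set_option autoImplicit false

namespace Cfsg.Agent.OddHalf.D8.RowHS

open Subgroup Cfsg Cfsg.Agent.OddHalf.D8.HS Cfsg.Agent.OddHalf.D8.HS.SheetHS Cfsg.Agent.OddHalf.D8.HS.GlueM

universe u

/-- the facts on `HS` -/
theorem facts (K : Type u) [Group K] (_ : Finite K) (h : Spor.IsoHS K) :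
    ∃ (z v k : K) (P R : Subgroup K), SheetHS z v k P R ∧ SheetHSM z v k P R := by
  obtain ⟨z, v, k, P, R, sh, h1, h2, h3, h4, h5⟩ := Cfsg.Agent.KFacts.HS.exists_sheet' h
  exact ⟨z, v, k, P, R, sh, ⟨h1, h2, h3, h4, h5⟩⟩

/-- **the row K = HS of D8** (`hR` = `Small.RowsAll.rows`, `h58` = S1758) -/
theorem row (hSch : Cfsg.Agent.Schreier.Cases.SchFor.{u} @IsKnownSimple')
    (hGW : SylowSp4.Hyps.GW.{u}) (hI : Iface.Intr2.{u}) (hS : CaseM.IntrSign.{u})
    (hR : Small.Excl.Rows) (h58 : Elim.P1758.{u}) : Rows.Row.{u} (fun K _ => Spor.IsoHS K) :=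
  EndM.row hSch hGW hI hS hR h58 facts

end Cfsg.Agent.OddHalf.D8.RowHS
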