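import Cfsg.Agent.OddHalf.D8.MainE
import Cfsg.Agent.KFacts.J4.SheetMJ4

/-!
# ODD half, D8: the row of the fourth Janko group, with the facts of case (M) (helper869)
-/

set_option autoImplicit false

namespace Cfsg.Agent.OddHalf.D8.RowJ4M

open Cfsg

universe u

/-- **the row K = J4 of D8** (`hM` = `CaseM.noComp ..`) -/
theorem row (hM : MainE.NoComp.{u} (fun _ _ _ P R => CaseM.SheetM P R)) :
    Rows.Row.{u} (fun K _ => Spor.IsoJ4 K) :=
  MainE.row_of hM fun _ _ _ h => KFacts.J4.SheetMJ4.exists_sheets h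

end Cfsg.Agent.OddHalf.D8.RowJ4M
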