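import Cfsg.Agent.OddHalf.D8.MainE
import Cfsg.Agent.KFacts.MonsterM
import Cfsg.Agent.MonsterX.InstanceFinal
import Cfsg.Agent.MonsterP.Equiv

/-!
# ODD half, D8: the row of the Monster

`facts`: the facts of type (E) and of case (M) (`Final.FactsE`).
-/

set_option autoImplicit false

namespace Cfsg.Agent.OddHalf.D8.RowM

open Cfsg Cfsg.Agent.OddHalf.D8.Sheet Cfsg.Agent.MonsterX

universe u

/-- the facts on the Monster -/
theorem facts (K : Type u) [Group K] (_ : Finite K) (e : Spor.IsoM K) :
    ∃ (z : K) (P R : Subgroup K), SheetE z P R ∧ CaseM.SheetM P R :=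
  KFacts.MonsterM.facts_of Instance.mGroup Instance.mRep Instance.mLat InstanceFinal.mOrbit Instance.mTrans
    (MonsterP.Equiv.equiv.map fun f => f.symm) e

/-- **the row K = M of D8** (`hM` = `CaseM.noComp ..`) -/
theorem row (hM : MainE.NoComp.{u} (fun _ _ _ P R => CaseM.SheetM P R)) :
    Rows.Row.{u} (fun K _ => Spor.IsoM K) :=
  MainE.row_of hM fun K _ hf e => facts K hf e

end Cfsg.Agent.OddHalf.D8.RowM
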