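import Cfsg.Agent.OddHalf.D8.RowRuB
import Cfsg.Agent.OddHalf.D8.RuFam.PlaneRu
import Cfsg.Agent.OddHalf.D8.RuFam.TwMain
import Cfsg.Agent.KFacts.Ru.PackD

/-!
# ODD half, D8: the row of the Rudvalis group (helper294)

Packets: `PackD.loc` (helper229), `PlaneRu.plane` (helper926), `Tw.twist` (helper8); group level: helpers 936, 278;
end: helpers 879, 871, 953.
-/

set_option autoImplicit false

namespace Cfsg.Agent.OddHalf.D8.RowRu

open Cfsg

universe u

/-- **the row of the Rudvalis group** -/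
theorem row : Rows.Row.{u} (fun K _ => Spor.IsoRu K) :=
  row_of_packets Cfsg.Agent.KFacts.Ru.PackD.loc Cfsg.Agent.OddHalf.D8.RuFam.PlaneRu.plane
    Cfsg.Agent.OddHalf.D8.RuFam.Tw.twist

end Cfsg.Agent.OddHalf.D8.RowRu
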