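import Cfsg.Agent.OddHalf.D8.MainE
import Cfsg.Agent.OddHalf.D8.SheetMap
import Cfsg.Agent.KFacts.Th.CaseM

/-!
# ODD half, D8: the row of the Thompson group (helper950)
-/

set_option autoImplicit false

namespace Cfsg.Agent.OddHalf.D8.RowTh

open Cfsg Cfsg.Agent.OddHalf.D8.Sheet

universe u

theorem exists_sheet (K : Type u) [Group K] (e : Spor.IsoTh K) :
    ∃ (z : K) (P R : Subgroup K), SheetE z P R := by
  obtain ⟨e⟩ := e
  exact ⟨_, _, _, SheetMap.sheetE_map e.symm Cfsg.Agent.KFacts.Th.Main.sheet⟩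

theorem row (hF : MainE.FrontOuter.{u}) (hM : MainE.NoComponent.{u}) :
    Rows.Row.{u} (fun K _ => Spor.IsoTh K) :=
  MainE.row hF hM fun K _ _ e => exists_sheet K e

/-- the row modulo the K-free case (M) -/
theorem row_of_noComp (hM : MainE.NoComp.{u} (fun _ _ _ P R => Cfsg.Agent.OddHalf.CaseM.SheetM P R)) :
    Rows.Row.{u} (fun K _ => Spor.IsoTh K) :=
  MainE.row_of hM fun K _ _ e => Cfsg.Agent.KFacts.Th.CaseM.exists_sheets K e

end Cfsg.Agent.OddHalf.D8.RowTh
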