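import Cfsg.Agent.Lib.ThompsonPQ
import Cfsg.Agent.Transfer.FrobeniusFusion

/-!
# ODD half, D8: the wreath kill (helper956)

`t`, `z` commuting involutions, `M` a subgroup commuting with `M^t`, `φ m = m m^t`, `z ∈ φ(M)`.
`P ≤ φ(M)` perfect, `z ∈ Z(P)`, `R ≤ P`; `O_2(C(z))` self-centralising in `C(z)`.
Then some homomorphism `C(z) → {±1}` maps `t` to `-1`.
-/

set_option autoImplicit false

namespace Cfsg.Agent.OddHalf.D8.WreathLam

open Subgroup

variable {G : Type*} [Group G]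

/-! ### General lemmas -/

/-- a perfect 2-group is trivial -/
theorem eq_bot_of_perfect [Finite G] {P : Subgroup G} (hP : IsPGroup 2 P) (h : ⁅P, P⁆ = P) :
    P = ⊥ := by
  have hnil : Group.IsNilpotent P := hP.isNilpotent
  obtain ⟨n, hn⟩ := (Subgroup.isNilpotent_iff_lowerCentralSeries P).mp hnil
  have hle : ∀ n, Subgroup.lowerCentralSeries P n = P := by
    intro n
    induction n with
    | zero => rw [Subgroup.lowerCentralSeries_zero]
    | succ n ih => rw [Subgroup.lowerCentralSeries_succ, ih, h]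
  rw [← hle n, hn]

/-- a perfect group whose elements have 2-power powers in `N` lies in `N` -/
theorem perfect_le [Finite G] {P N : Subgroup G} (h : ⁅P, P⁆ = P)
    (hn : ∀ p ∈ P, ∀ x ∈ N, p * x * p⁻¹ ∈ N)
    (hodd : ∀ x ∈ P, Odd (orderOf x) → x ∈ N) : P ≤ N := by
  set N' : Subgroup P := N.subgroupOf P with hN'
  have hnorm : N'.Normal := ⟨fun x hx g => hn g g.2 x hx⟩
  have hp : IsPGroup 2 (P ⧸ N') := by
    intro q
    obtain ⟨x, rfl⟩ := QuotientGroup.mk_surjective q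
    obtain ⟨k, m, hm, hk⟩ := Nat.exists_eq_two_pow_mul_odd (orderOf_pos x).ne'
    refine ⟨k, ?_⟩
    rw [← QuotientGroup.mk_pow, QuotientGroup.eq_one_iff]
    show ((x ^ 2 ^ k : P) : G) ∈ N
    apply hodd _ (x ^ 2 ^ k).2
    rw [Subgroup.orderOf_coe, orderOf_pow, hk, Nat.gcd_mul_right_left, Nat.mul_div_cancel_left _
      (by positivity)]
    exact hm
  have hcomm : commutator P = ⊤ := by
    rw [commutator_def, ← (Subgroup.map_injective P.subtype_injective).eq_iff, Subgroup.map_commutator,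
      ← MonoidHom.range_eq_map, Subgroup.range_subtype, h]
  have hq : ⁅(⊤ : Subgroup (P ⧸ N')), (⊤ : Subgroup (P ⧸ N'))⁆ = (⊤ : Subgroup (P ⧸ N')) := by
    have h1 : (⊤ : Subgroup (P ⧸ N')) = (⊤ : Subgroup P).map (QuotientGroup.mk' N') := by
      rw [← MonoidHom.range_eq_map, MonoidHom.range_eq_top.2 (QuotientGroup.mk'_surjective N')]
    rw [h1, ← Subgroup.map_commutator, ← commutator_def, hcomm]
  have h2 : (⊤ : Subgroup (P ⧸ N')) = ⊥ :=
    eq_bot_of_perfect (hp.to_subgroup (⊤ : Subgroup (P ⧸ N'))) hq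
  intro p hp'
  have h3 : ((⟨p, hp'⟩ : P) : P ⧸ N') ∈ (⊤ : Subgroup (P ⧸ N')) := mem_top _
  rw [h2, mem_bot, QuotientGroup.eq_one_iff] at h3
  exact h3

/-- `A × B` lemma for a perfect group -/
theorem axb [Finite G] {P C : Subgroup G} {t : G} (tt : t * t = 1) (hP : ⁅P, P⁆ = P)
    (hPt : ∀ p ∈ P, p * t = t * p) (hC2 : IsPGroup 2 C)
    (hPC : ∀ p ∈ P, ∀ c ∈ C, p * c * p⁻¹ ∈ C) (htC : ∀ c ∈ C, t * c * t⁻¹ ∈ C)
    (h : ∀ y ∈ C, y * t = t * y → ∀ p ∈ P, y * p = p * y) : ∀ c ∈ C, ∀ p ∈ P, c * p = p * c := by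
  have hnc : ∀ x : G, (∀ c ∈ C, x * c * x⁻¹ ∈ C) → (∀ c ∈ C, x⁻¹ * c * x ∈ C) →
      x ∈ normalizer (C : Set G) := by
    intro x h1 h2
    rw [mem_normalizer_iff]
    intro y
    refine ⟨h1 y, fun h3 => ?_⟩
    have h4 := h2 _ h3
    have e : x⁻¹ * (x * y * x⁻¹) * x = y := by group
    rwa [e] at h4
  have htn : t ∈ normalizer (C : Set G) := by
    have ht' : t⁻¹ = t := inv_eq_of_mul_eq_one_right tt
    apply hnc _ htC
    intro c hc
    have := htC c hc
    rwa [ht'] at this ⊢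
  have hPn : ∀ p ∈ P, p ∈ normalizer (C : Set G) := by
    intro p hp
    apply hnc _ (hPC p hp)
    intro c hc
    have := hPC p⁻¹ (inv_mem hp) c hc
    rwa [inv_inv] at this
  have hle : P ≤ P ⊓ centralizer (C : Set G) := by
    apply perfect_le hP
    · intro p hp x hx
      obtain ⟨hx1, hx2⟩ := mem_inf.1 hx
      refine mem_inf.2 ⟨mul_mem (mul_mem hp hx1) (inv_mem hp), ?_⟩
      rw [mem_centralizer_iff]
      intro c hc
      have h1 : p⁻¹ * c * p ∈ C := by
        have := hPC p⁻¹ (inv_mem hp) c hc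
        rwa [inv_inv] at this
      have h2 := mem_centralizer_iff.1 hx2 _ h1
      calc c * (p * x * p⁻¹) = p * (p⁻¹ * c * p * x) * p⁻¹ := by group
        _ = p * (x * (p⁻¹ * c * p)) * p⁻¹ := by rw [h2]
        _ = p * x * p⁻¹ * c := by group
    · intro x hx hodd
      refine mem_inf.2 ⟨hx, ?_⟩
      have hP2 : IsPGroup 2 (zpowers t) := by
        rintro ⟨a, ha⟩
        obtain ⟨i, rfl⟩ := mem_zpowers_iff.1 ha
        refine ⟨1, Subtype.ext ?_⟩
        show (t ^ i) ^ (2 ^ 1) = 1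
        rw [pow_one, pow_two, ← (Commute.refl t).mul_zpow, tt, one_zpow]
      have := Cfsg.Agent.Lib.ThompsonPQ.thompson_p_times_q 2 (zpowers t) (zpowers x) C hP2
        (by rw [Nat.card_zpowers]; exact hodd.coprime_two_right) hC2
        (by
          rw [zpowers_le, mem_centralizer_iff]
          intro y hy
          obtain ⟨i, rfl⟩ := mem_zpowers_iff.1 hy
          exact ((show Commute x t from hPt x hx).zpow_left i).eq)
        (by rw [zpowers_le]; exact htn)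
        (by rw [zpowers_le]; exact hPn x hx)
        (by
          rintro y ⟨hy1, hy2⟩
          have h1 : y * t = t * y := (mem_centralizer_iff.1 hy2 t (mem_zpowers t)).symm
          rw [mem_centralizer_iff]
          intro w hw
          obtain ⟨i, rfl⟩ := mem_zpowers_iff.1 hw
          exact ((show Commute y x from h y hy1 h1 x hx).zpow_right i).eq.symm)
      exact this (mem_zpowers x)
  intro c hc p hp
  exact mem_centralizer_iff.1 (mem_inf.1 (hle hp)).2 c hc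

/-- a perfect group `P` with `[y, P]` in an abelian group centralised by `P` centralises `y` -/
theorem comm_of_perfect {P : Subgroup G} (hP : ⁅P, P⁆ = P) {y : G} (A : Set G)
    (h : ∀ p ∈ P, y * p * y⁻¹ * p⁻¹ ∈ A) (hA : ∀ a ∈ A, ∀ q ∈ P, a * q = q * a)
    (hAA : ∀ a ∈ A, ∀ b ∈ A, a * b = b * a) : ∀ p ∈ P, y * p = p * y := by
  have hmul : ∀ p ∈ P, ∀ q ∈ P,
      y * (p * q) * y⁻¹ * (p * q)⁻¹ = (y * p * y⁻¹ * p⁻¹) * (y * q * y⁻¹ * q⁻¹) := by
    intro p hp q hq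
    have h1 := hA _ (h q hq) p hp
    calc y * (p * q) * y⁻¹ * (p * q)⁻¹ = (y * p * y⁻¹ * p⁻¹) * (p * (y * q * y⁻¹ * q⁻¹)) * p⁻¹ := by
          group
      _ = (y * p * y⁻¹ * p⁻¹) * ((y * q * y⁻¹ * q⁻¹) * p) * p⁻¹ := by rw [h1]
      _ = _ := by group
  have hle : P ≤ centralizer ({y} : Set G) := by
    conv_lhs => rw [← hP]
    rw [commutator_le]
    intro p hp q hq
    have e1 : y * (p * q) * y⁻¹ * (p * q)⁻¹ = y * (q * p) * y⁻¹ * (q * p)⁻¹ := by
      rw [hmul p hp q hq, hmul q hq p hp, hAA _ (h p hp) _ (h q hq)]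
    -- `κ (p q) = κ (q p)`
    have e2 : y * (p * q * (q * p)⁻¹) * y⁻¹ * (p * q * (q * p)⁻¹)⁻¹ = 1 := by
      have hpq := mul_mem hp hq
      have hqp := mul_mem hq hp
      have e3 := hmul (p * q * (q * p)⁻¹) (mul_mem hpq (inv_mem hqp)) (q * p) hqp
      rw [inv_mul_cancel_right, e1] at e3
      exact (mul_eq_right.1 e3.symm)
    rw [mem_centralizer_singleton_iff, commutatorElement_def]
    have e4 : p * q * (q * p)⁻¹ = p * q * p⁻¹ * q⁻¹ := by group
    rw [e4] at e2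
    have e5 : y * (p * q * p⁻¹ * q⁻¹) * y⁻¹ = p * q * p⁻¹ * q⁻¹ := mul_inv_eq_one.1 e2
    rw [mul_inv_eq_iff_eq_mul] at e5
    exact e5.symm
  intro p hp
  exact (mem_centralizer_singleton_iff.1 (hle hp)).symm

/-- three subgroups: `[C, P, P] = 1`, `P` perfect -/
theorem three {C P : Subgroup G} (hP : ⁅P, P⁆ = P)
    (h : ∀ x ∈ C, ∀ p ∈ P, ∀ q ∈ P, x * p * x⁻¹ * p⁻¹ * q = q * (x * p * x⁻¹ * p⁻¹)) :
    ∀ x ∈ C, ∀ p ∈ P, x * p = p * x := by
  have h1 : ⁅⁅C, P⁆, P⁆ = ⊥ := by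
    rw [commutator_eq_bot_iff_le_centralizer, commutator_le]
    intro x hx p hp
    rw [mem_centralizer_iff]
    intro q hq
    rw [commutatorElement_def]
    exact (h x hx p hp q hq).symm
  have h2 : ⁅⁅P, C⁆, P⁆ = ⊥ := by rw [commutator_comm P C]; exact h1
  have h3 : ⁅⁅P, P⁆, C⁆ = ⊥ := commutator_commutator_eq_bot_of_rotate h2 h1
  rw [hP, commutator_eq_bot_iff_le_centralizer] at h3
  intro x hx p hp
  exact mem_centralizer_iff.1 (h3 hp) x hx

/-- an abelian 2-group on which `t` fixes only `1, z` -/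
theorem four [Finite G] {W : Subgroup G} {t z : G} (tt : t * t = 1) (tz : t * z = z * t)
    (zz : z * z = 1) (z1 : z ≠ 1) (W2 : IsPGroup 2 W) (Wab : ∀ x ∈ W, ∀ y ∈ W, x * y = y * x)
    (tW : ∀ x ∈ W, t * x * t ∈ W) (zW : z ∈ W)
    (hfix : ∀ x ∈ W, t * x * t = x → x = 1 ∨ x = z) (hne : ∃ x ∈ W, x ≠ 1 ∧ x ≠ z)
    (Wn : ∀ g : G, g * z = z * g → ∀ x ∈ W, g * x * g⁻¹ ∈ W) :
    ∃ w ∈ W, w ≠ t * w * t ∧
      ∀ g : G, g * z = z * g → g * w * g⁻¹ = w ∨ g * w * g⁻¹ = t * w * t := by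
  obtain ⟨w, hw, hw1, hwz, hww⟩ : ∃ w ∈ W, w ≠ 1 ∧ w ≠ z ∧ (w * w = 1 ∨ w * w = z) := by
    by_cases hA : ∃ w ∈ W, w ≠ 1 ∧ w ≠ z ∧ w * w = 1
    · obtain ⟨w, h1, h2, h3, h4⟩ := hA
      exact ⟨w, h1, h2, h3, Or.inl h4⟩
    · push Not at hA
      obtain ⟨x, hx, hx1, hxz⟩ := hne
      obtain ⟨k, hk⟩ : ∃ k, orderOf x = 2 ^ k := by
        have := (IsPGroup.iff_orderOf.1 W2) ⟨x, hx⟩
        rwa [Subgroup.orderOf_mk] at this
      have hk2 : 2 ≤ k := by
        by_contra hlt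
        have hle : k = 0 ∨ k = 1 := by omega
        rcases hle with rfl | rfl
        · exact hx1 (orderOf_eq_one_iff.1 hk)
        · apply hA x hx hx1 hxz
          have := pow_orderOf_eq_one x
          rwa [hk, pow_one, pow_two] at this
      obtain ⟨j, rfl⟩ := Nat.exists_eq_add_of_le hk2
      set w := x ^ 2 ^ j with hw
      have hw4 : orderOf w = 4 := by
        rw [hw, orderOf_pow, hk, pow_add, Nat.gcd_mul_left_left, Nat.mul_div_cancel _ (by positivity)]
        norm_num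
      have hww : w * w ≠ 1 := by
        intro h1
        have h2 : orderOf w ∣ 2 := orderOf_dvd_of_pow_eq_one (by rw [pow_two]; exact h1)
        rw [hw4] at h2
        omega
      have hw4' : (w * w) * (w * w) = 1 := by
        have := pow_orderOf_eq_one w
        rw [hw4] at this
        rwa [show (4 : ℕ) = 2 + 2 from rfl, pow_add, pow_two] at this
      have hwW : w ∈ W := pow_mem hx _
      have hwz : w * w = z := by
        by_contra h1
        exact hA (w * w) (mul_mem hwW hwW) hww h1 hw4'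
      refine ⟨w, hwW, ?_, ?_, Or.inr hwz⟩
      · intro h1
        exact hww (by rw [h1, mul_one])
      · intro h1
        rw [h1, zz] at hwz
        exact z1 hwz.symm
  have key : ∀ v ∈ W, v ≠ 1 → v ≠ z → (v * v = 1 ∨ v * v = z) → t * v * t = v * z := by
    intro v hv hv1 hvz hvv
    have hc := Wab v hv _ (tW v hv)
    have h1 : t * (v * (t * v * t)) * t = v * (t * v * t) := by
      calc t * (v * (t * v * t)) * t = t * v * t * v * (t * t) := by group
        _ = t * v * t * v := by rw [tt, mul_one]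
        _ = _ := hc.symm
    have hnf : t * v * t ≠ v := fun h2 => by
      rcases hfix v hv h2 with h3 | h3
      · exact hv1 h3
      · exact hvz h3
    have hvzc := Wab v hv z zW
    rcases hfix _ (mul_mem hv (tW v hv)) h1 with h2 | h2
    · rcases hvv with h3 | h3
      · exfalso
        apply hnf
        exact mul_left_cancel (h2.trans h3.symm)
      · apply mul_left_cancel (a := v)
        rw [h2, ← mul_assoc, h3, zz]
    · rcases hvv with h3 | h3
      · apply mul_left_cancel (a := v)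
        rw [h2, ← mul_assoc, h3, one_mul]
      · exfalso
        apply hnf
        exact mul_left_cancel (h2.trans h3.symm)
  have hkw := key w hw hw1 hwz hww
  have hwzc := Wab w hw z zW
  refine ⟨w, hw, ?_, ?_⟩
  · rw [hkw]
    intro h1
    exact z1 (mul_eq_left.1 h1.symm)
  · intro g hg
    set v := g * w * g⁻¹ with hv
    have hvW : v ∈ W := Wn g hg w hw
    have hgz : g * z * g⁻¹ = z := by rw [hg]; group
    have hvv : v * v = w * w := by
      have e : v * v = g * (w * w) * g⁻¹ := by rw [hv]; group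
      rw [e]
      rcases hww with h1 | h1
      · rw [h1]; group
      · rw [h1, hgz]
    have hv1 : v ≠ 1 := by
      intro h1
      apply hw1
      have e : w = g⁻¹ * v * g := by rw [hv]; group
      rw [e, h1]; group
    have hvz : v ≠ z := by
      intro h1
      apply hwz
      have e : w = g⁻¹ * v * g := by rw [hv]; group
      rw [e, h1]
      calc g⁻¹ * z * g = g⁻¹ * (z * g) := by group
        _ = g⁻¹ * (g * z) := by rw [hg]
        _ = z := by group
    have hkv := key v hvW hv1 hvz (by rw [hvv]; exact hww)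
    -- `v w⁻¹` is fixed
    have h5 : t * (v * w⁻¹) * t = v * w⁻¹ := by
      have e1 : t * w⁻¹ * t = (w * z)⁻¹ := by
        rw [← hkw]
        have ht : t⁻¹ = t := inv_eq_of_mul_eq_one_right tt
        rw [mul_inv_rev, mul_inv_rev, ht, ← mul_assoc]
      calc t * (v * w⁻¹) * t = t * v * (t * t) * w⁻¹ * t := by rw [tt]; group
        _ = (t * v * t) * (t * w⁻¹ * t) := by group
        _ = v * z * (w * z)⁻¹ := by rw [hkv, e1]
        _ = v * w⁻¹ := by group
    rcases hfix _ (mul_mem hvW (inv_mem hw)) h5 with h6 | h6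
    · left
      exact mul_inv_eq_one.1 h6
    · right
      rw [hkw, mul_inv_eq_iff_eq_mul.1 h6, hwzc]

/-- Herbrand: if the fixed points of `t` on the abelian group `Z` are norms, then every element of norm 1 is
`w⁻¹ w^t` -/
theorem norm_one [Finite G] {Z : Subgroup G} {t : G} (tt : t * t = 1)
    (ab : ∀ x ∈ Z, ∀ y ∈ Z, x * y = y * x) (tZ : ∀ x ∈ Z, t * x * t ∈ Z)
    (hfix : ∀ x ∈ Z, t * x * t = x → ∃ y ∈ Z, y * (t * y * t) = x) :
    ∀ c ∈ Z, c * (t * c * t) = 1 → ∃ w ∈ Z, w⁻¹ * (t * w * t) = c := by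
  have sgm : ∀ x y : G, t * (x * y) * t = t * x * t * (t * y * t) := by
    intro x y
    calc t * (x * y) * t = t * x * (t * t) * y * t := by rw [tt]; group
      _ = _ := by group
  have sgs : ∀ x : G, t * (t * x * t) * t = x := by
    intro x
    calc t * (t * x * t) * t = (t * t) * x * (t * t) := by group
      _ = x := by rw [tt]; group
  let N : Z →* Z :=
    { toFun := fun x => ⟨x * (t * x * t), mul_mem x.2 (tZ x x.2)⟩
      map_one' := by apply Subtype.ext; show (1 : G) * (t * 1 * t) = 1; rw [mul_one, one_mul, tt]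
      map_mul' := by
        rintro ⟨x, hx⟩ ⟨y, hy⟩
        apply Subtype.ext
        show x * y * (t * (x * y) * t) = x * (t * x * t) * (y * (t * y * t))
        rw [sgm]
        have := ab y hy _ (tZ x hx)
        calc x * y * (t * x * t * (t * y * t)) = x * (y * (t * x * t)) * (t * y * t) := by group
          _ = _ := by rw [this]; group }
  let D : Z →* Z :=
    { toFun := fun x => ⟨(x : G)⁻¹ * (t * x * t), mul_mem (inv_mem x.2) (tZ x x.2)⟩
      map_one' := by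
        apply Subtype.ext; show (1 : G)⁻¹ * (t * 1 * t) = 1; rw [mul_one, inv_one, one_mul, tt]
      map_mul' := by
        rintro ⟨x, hx⟩ ⟨y, hy⟩
        apply Subtype.ext
        show (x * y)⁻¹ * (t * (x * y) * t) = x⁻¹ * (t * x * t) * (y⁻¹ * (t * y * t))
        rw [sgm]
        have h1 := ab y⁻¹ (inv_mem hy) _ (mul_mem (inv_mem hx) (tZ x hx))
        calc (x * y)⁻¹ * (t * x * t * (t * y * t))
            = (y⁻¹ * (x⁻¹ * (t * x * t))) * (t * y * t) := by group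
          _ = _ := by rw [h1]; group }
  have hN : ∀ x : Z, ((N x : Z) : G) = x * (t * x * t) := fun x => rfl
  have hD : ∀ x : Z, ((D x : Z) : G) = (x : G)⁻¹ * (t * x * t) := fun x => rfl
  have h1 : D.ker = N.range := by
    ext x
    constructor
    · intro hx
      have h2 : (x : G)⁻¹ * (t * x * t) = 1 := by
        rw [← hD, (MonoidHom.mem_ker).1 hx]; rfl
      obtain ⟨y, hy, hyx⟩ := hfix x x.2 (inv_mul_eq_one.1 h2).symm
      exact ⟨⟨y, hy⟩, Subtype.ext hyx⟩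
    · rintro ⟨y, rfl⟩
      rw [MonoidHom.mem_ker]
      apply Subtype.ext
      rw [hD, hN]
      show ((y : G) * (t * y * t))⁻¹ * (t * (y * (t * y * t)) * t) = 1
      rw [sgm, sgs, inv_mul_eq_one]
      exact ab y y.2 _ (tZ y y.2)
  have h2 : D.range ≤ N.ker := by
    rintro _ ⟨y, rfl⟩
    rw [MonoidHom.mem_ker]
    apply Subtype.ext
    rw [hN, hD]
    show (y : G)⁻¹ * (t * y * t) * (t * ((y : G)⁻¹ * (t * y * t)) * t) = 1
    rw [sgm, sgs]
    have e : t * (y : G)⁻¹ * t = (t * y * t)⁻¹ := by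
      have ht : t⁻¹ = t := inv_eq_of_mul_eq_one_right tt
      rw [mul_inv_rev, mul_inv_rev, ht, ← mul_assoc]
    rw [e]; group
  have h3 : Nat.card D.range = Nat.card N.ker := by
    have e1 : D.ker.index = Nat.card D.range := Subgroup.index_ker D
    have e2 : N.ker.index = Nat.card N.range := Subgroup.index_ker N
    have e3 := N.ker.card_mul_index
    have e4 := N.range.card_mul_index
    rw [h1] at e1
    rw [e2] at e3
    rw [e1] at e4
    have e5 : 0 < Nat.card N.range := Nat.card_pos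
    apply Nat.eq_of_mul_eq_mul_left e5
    rw [e4, ← e3, mul_comm]
  have h4 : D.range = N.ker := Subgroup.eq_of_le_of_card_ge h2 h3.ge
  intro c hc hc1
  have h5 : (⟨c, hc⟩ : Z) ∈ N.ker := by
    rw [MonoidHom.mem_ker]
    exact Subtype.ext hc1
  rw [← h4] at h5
  obtain ⟨w, hw⟩ := h5
  exact ⟨w, w.2, congrArg Subtype.val hw⟩

/-- the extension `D⟨t⟩` -/
def extT (t : G) (tt : t * t = 1) (D : Subgroup G) (hD : ∀ x ∈ D, t * x * t ∈ D) : Subgroup G where
  carrier := {x | x ∈ D ∨ t * x ∈ D}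
  one_mem' := Or.inl (one_mem D)
  mul_mem' := by
    rintro x y (hx | hx) (hy | hy)
    · exact Or.inl (mul_mem hx hy)
    · right
      have e : t * (x * y) = (t * x * t) * (t * y) := by
        calc t * (x * y) = t * x * (t * t) * y := by rw [tt]; group
          _ = _ := by group
      rw [e]; exact mul_mem (hD x hx) hy
    · right
      rw [← mul_assoc]; exact mul_mem hx hy
    · left
      have e : x * y = (t * (t * x) * t) * (t * y) := by
        calc x * y = (t * t) * x * (t * t) * y := by rw [tt]; group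
          _ = _ := by group
      rw [e]; exact mul_mem (hD _ hx) hy
  inv_mem' := by
    rintro x (hx | hx)
    · exact Or.inl (inv_mem hx)
    · right
      have e : t * x⁻¹ = t * (t * x)⁻¹ * t := by
        have ht : t⁻¹ = t := inv_eq_of_mul_eq_one_right tt
        rw [mul_inv_rev, ht]
        calc t * x⁻¹ = t * (x⁻¹ * (t * t)) := by rw [tt, mul_one]
          _ = _ := by group
      rw [e]; exact hD _ (inv_mem hx)

theorem mem_extT {t : G} {tt : t * t = 1} {D : Subgroup G} {hD : ∀ x ∈ D, t * x * t ∈ D} {x : G} :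
    x ∈ extT t tt D hD ↔ x ∈ D ∨ t * x ∈ D := Iff.rfl

theorem extT_isPGroup {t : G} {tt : t * t = 1} {D : Subgroup G} {hD : ∀ x ∈ D, t * x * t ∈ D}
    (h2 : IsPGroup 2 D) : IsPGroup 2 (extT t tt D hD) := by
  rintro ⟨x, hx⟩
  have key : ∀ y ∈ D, ∃ k : ℕ, y ^ 2 ^ k = 1 := by
    intro y hy
    obtain ⟨k, hk⟩ := h2 ⟨y, hy⟩
    exact ⟨k, congrArg Subtype.val hk⟩
  have hx2 : x * x ∈ D := by
    rcases hx with hx | hx
    · exact mul_mem hx hx
    · have e : x * x = (t * (t * x) * t) * (t * x) := by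
        calc x * x = (t * t) * x * (t * t) * x := by rw [tt]; group
          _ = _ := by group
      rw [e]; exact mul_mem (hD _ hx) hx
  obtain ⟨k, hk⟩ := key _ hx2
  refine ⟨k + 1, Subtype.ext ?_⟩
  show x ^ 2 ^ (k + 1) = 1
  rw [pow_succ', pow_mul, pow_two]
  exact hk

/-- an action with an orbit contained in a pair, swapped by `t`, gives a sign -/
theorem exists_sign {H : Type*} [Group H] {α : Type*} [MulAction H α] {a b : α} {t : H}
    (hab : a ≠ b) (ht : t • a = b) (h : ∀ g : H, g • a = a ∨ g • a = b) :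
    ∃ lam : H →* ℤˣ, lam t = -1 := by
  classical
  have hb : ∀ g : H, g • b = a ∨ g • b = b := by
    intro g
    rw [← ht, ← mul_smul]
    rcases h (g * t) with h1 | h1
    · exact Or.inl h1
    · right; rw [h1, ht]
  refine ⟨⟨⟨fun g => if g • a = a then 1 else -1, ?_⟩, ?_⟩, ?_⟩
  · simp
  · intro g k
    simp only [mul_smul]
    rcases h k with hk | hk
    · rw [hk]; simp
    · rw [hk, if_neg hab.symm]
      rcases h g with hg | hg
      · have h1 : g • b = b := by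
          rcases hb g with h2 | h2
          · exfalso
            exact hab (smul_left_cancel g (hg.trans h2.symm))
          · exact h2
        rw [h1, hg, if_neg hab.symm, if_pos rfl]; simp
      · have h1 : g • b = a := by
          rcases hb g with h2 | h2
          · exact h2
          · exfalso
            exact hab (smul_left_cancel g (hg.trans h2.symm))
        rw [h1, hg, if_pos rfl, if_neg hab.symm]; simp
  · show (if t • a = a then (1 : ℤˣ) else -1) = -1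
    rw [ht, if_neg hab.symm]

/-! ### The configuration -/

/-- conjugation by the involution `t` -/
def sg (t x : G) : G := t * x * t

/-- `φ m = m m^t` -/
def phi (t x : G) : G := x * (t * x * t)

structure Hyp (t z d : G) (M P R O : Subgroup G) : Prop where
  tt : t * t = 1
  tz : t * z = z * t
  zz : z * z = 1
  comm : ∀ x ∈ M, ∀ y ∈ M, x * (t * y * t) = t * y * t * x
  PJ : ∀ p ∈ P, ∃ m ∈ M, phi t m = p
  zJ : ∃ m ∈ M, phi t m = z
  zJ' : ∃ m ∈ M, phi t m * z ≠ z * phi t m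
  perf : ⁅P, P⁆ = P
  P1 : P ≠ ⊥
  Pz : ∀ p ∈ P, p * z = z * p
  RP : R ≤ P
  Rn : ∀ p ∈ P, ∀ r ∈ R, p * r * p⁻¹ ∈ R
  zR : z ∈ ⁅R, R⁆
  cl : ∀ x ∈ ⁅R, R⁆, ∀ r ∈ R, x * r = r * x
  ZP : ∀ x ∈ R, (∀ r ∈ R, x * r = r * x) → ∀ p ∈ P, x * p = p * x
  irr : ∀ U : Subgroup G, U ≤ R → (∀ p ∈ P, ∀ u ∈ U, p * u * p⁻¹ ∈ U) →
    U = R ∨ ∀ u ∈ U, ∀ r ∈ R, u * r = r * u
  dR : d ∈ R
  ZR : ∀ x ∈ R, (∀ r ∈ R, x * r = r * x) → x = 1 ∨ x = d ∨ x = z ∨ x = d * z
  /-- normal 2-subgroups of `C(t) ∩ C(z)` -/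
  oc : ∀ Y : Subgroup G, IsPGroup 2 Y → (∀ y ∈ Y, y * t = t * y) → (∀ y ∈ Y, y * z = z * y) →
    (∀ g : G, g * t = t * g → g * z = z * g → ∀ y ∈ Y, g * y * g⁻¹ ∈ Y) →
    ∀ y ∈ Y, (∀ p ∈ P, y * p * y⁻¹ * p⁻¹ ∈ R) ∧ (y * d = d * y → y ∈ R ∨ t * y ∈ R)
  fix : ∀ c ∈ M, t * c * t = c → c = 1 ∨ c = d
  O2 : IsPGroup 2 O
  Oz : ∀ x ∈ O, x * z = z * x
  On : ∀ h : G, h * z = z * h → ∀ x ∈ O, h * x * h⁻¹ ∈ O
  Oc : ∀ h : G, h * z = z * h → (∀ x ∈ O, h * x = x * h) → h ∈ O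

namespace Hyp

variable {t z d : G} {M P R O : Subgroup G} (h : Hyp t z d M P R O)

include h

theorem tinv : t⁻¹ = t := inv_eq_of_mul_eq_one_right h.tt

theorem sg_mul (x y : G) : t * (x * y) * t = t * x * t * (t * y * t) := by
  calc t * (x * y) * t = t * x * (t * t) * y * t := by rw [h.tt]; group
    _ = _ := by group

theorem sg_sg (x : G) : t * (t * x * t) * t = x := by
  calc t * (t * x * t) * t = (t * t) * x * (t * t) := by group
    _ = x := by rw [h.tt]; group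

theorem sg_inv (x : G) : t * x⁻¹ * t = (t * x * t)⁻¹ := by
  rw [mul_inv_rev, mul_inv_rev, h.tinv, ← mul_assoc]

theorem phi_mul {x y : G} (hx : x ∈ M) (hy : y ∈ M) : phi t (x * y) = phi t x * phi t y := by
  unfold phi
  rw [h.sg_mul]
  have := h.comm y hy x hx
  calc x * y * (t * x * t * (t * y * t)) = x * (y * (t * x * t)) * (t * y * t) := by group
    _ = x * (t * x * t * y) * (t * y * t) := by rw [this]
    _ = _ := by group

theorem phi_comm_t {x : G} (hx : x ∈ M) : t * phi t x * t = phi t x := by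
  unfold phi
  rw [h.sg_mul, h.sg_sg]
  exact (h.comm x hx x hx).symm

/-- `φ` as a homomorphism on `M` -/
def ph : M →* G where
  toFun x := phi t x
  map_one' := by
    show phi t 1 = 1
    unfold phi
    rw [mul_one, one_mul, h.tt]
  map_mul' x y := h.phi_mul x.2 y.2

theorem ph_apply (x : M) : h.ph x = phi t x := rfl

theorem P_t {p : G} (hp : p ∈ P) : p * t = t * p := by
  obtain ⟨m, hm, rfl⟩ := h.PJ p hp
  have h1 := h.phi_comm_t hm
  calc phi t m * t = t * phi t m * t * t := by rw [h1]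
    _ = t * phi t m * (t * t) := by group
    _ = t * phi t m := by rw [h.tt, mul_one]

/-- an element of the kernel of `φ` is central in `M` -/
theorem ker_central {k : G} (hk : k ∈ M) (hk1 : phi t k = 1) {x : G} (hx : x ∈ M) :
    k * x = x * k := by
  have h1 : k = (t * k * t)⁻¹ := eq_inv_of_mul_eq_one_left hk1
  have h2 : Commute x (t * k * t) := h.comm x hx k hk
  have h3 : Commute x k := by rw [h1]; exact h2.inv_right
  exact h3.eq.symm

theorem phi_inv {x : G} (hx : x ∈ M) : phi t x⁻¹ = (phi t x)⁻¹ := by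
  apply eq_inv_of_mul_eq_one_left
  rw [← h.phi_mul (inv_mem hx) hx, inv_mul_cancel]
  unfold phi
  rw [mul_one, one_mul, h.tt]

theorem phi_comm {x y : G} (hx : x ∈ M) (hy : y ∈ M) :
    phi t (x * y * x⁻¹ * y⁻¹) = phi t x * phi t y * (phi t x)⁻¹ * (phi t y)⁻¹ := by
  rw [h.phi_mul (mul_mem (mul_mem hx hy) (inv_mem hx)) (inv_mem hy),
    h.phi_mul (mul_mem hx hy) (inv_mem hx), h.phi_mul hx hy, h.phi_inv hx, h.phi_inv hy]

theorem phi_conj {x y : G} (hx : x ∈ M) (hy : y ∈ M) :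
    phi t (x * y * x⁻¹) = phi t x * phi t y * (phi t x)⁻¹ := by
  rw [h.phi_mul (mul_mem hx hy) (inv_mem hx), h.phi_mul hx hy, h.phi_inv hx]

theorem exists_A [Finite G] : ∃ A : Subgroup G, A ≤ M ∧ ⁅A, A⁆ = A ∧ (∀ a ∈ A, phi t a ∈ P) ∧
    ∀ p ∈ P, ∃ a ∈ A, phi t a = p := by
  have hne : ∃ B : Subgroup M, B.map h.ph = P := by
    refine ⟨P.comap h.ph, ?_⟩
    rw [map_comap_eq]
    apply inf_eq_right.2
    intro p hp
    obtain ⟨m, hm, hmp⟩ := h.PJ p hp
    exact ⟨⟨m, hm⟩, hmp⟩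
  obtain ⟨B, hB, hmin⟩ := WellFounded.has_min (wellFounded_lt : WellFounded
    ((· < ·) : Subgroup M → Subgroup M → Prop)) {B | B.map h.ph = P} hne
  have hB' : B.map h.ph = P := hB
  have h1 : ⁅B, B⁆ = B := by
    by_contra hne1
    have hlt : ⁅B, B⁆ < B := lt_of_le_of_ne (commutator_le_self B) hne1
    apply hmin ⁅B, B⁆ _ hlt
    show (⁅B, B⁆).map h.ph = P
    rw [map_commutator, hB', h.perf]
  refine ⟨B.map M.subtype, ?_, ?_, ?_, ?_⟩
  · rintro _ ⟨x, -, rfl⟩
    exact x.2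
  · rw [← map_commutator, h1]
  · rintro _ ⟨x, hx, rfl⟩
    rw [← hB']
    exact ⟨x, hx, rfl⟩
  · intro p hp
    rw [← hB'] at hp
    obtain ⟨x, hx, rfl⟩ := hp
    exact ⟨x, ⟨x, hx, rfl⟩, rfl⟩

end Hyp

/-- the perfect cover `A ≤ M` of `P` -/
structure Cov (t : G) (M P A : Subgroup G) : Prop where
  le : A ≤ M
  perf : ⁅A, A⁆ = A
  AP : ∀ a ∈ A, phi t a ∈ P
  PA : ∀ p ∈ P, ∃ a ∈ A, phi t a = p

namespace Hyp

variable {t z d : G} {M P R O A : Subgroup G} (h : Hyp t z d M P R O) (c : Cov t M P A)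

include h c

theorem central_of {u : G} (hu : u ∈ M) (huP : ∀ p ∈ P, phi t u * p = p * phi t u) :
    ∀ a ∈ A, u * a = a * u := by
  apply comm_of_perfect c.perf {k | k ∈ M ∧ phi t k = 1}
  · intro a ha
    refine ⟨mul_mem (mul_mem (mul_mem hu (c.le ha)) (inv_mem hu)) (inv_mem (c.le ha)), ?_⟩
    rw [h.phi_comm hu (c.le ha), huP _ (c.AP a ha)]
    group
  · rintro k ⟨hk, hk1⟩ a ha
    exact h.ker_central hk hk1 (c.le ha)
  · rintro k ⟨hk, hk1⟩ l ⟨hl, -⟩
    exact h.ker_central hk hk1 hl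

theorem A_z {a : G} (ha : a ∈ A) : a * z = z * a := by
  obtain ⟨m, hm, hmz⟩ := h.zJ
  have h1 : m * a = a * m := by
    apply h.central_of c hm _ a ha
    intro p hp
    rw [hmz]; exact (h.Pz p hp).symm
  have h2 : a * (t * m * t) = t * m * t * a := h.comm a (c.le ha) m hm
  rw [← hmz]
  unfold phi
  calc a * (m * (t * m * t)) = (a * m) * (t * m * t) := by group
    _ = (m * a) * (t * m * t) := by rw [h1]
    _ = m * (a * (t * m * t)) := by group
    _ = m * (t * m * t * a) := by rw [h2]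
    _ = _ := by group

theorem sgA_z {a : G} (ha : a ∈ A) : t * a * t * z = z * (t * a * t) := by
  have h1 := h.A_z c ha
  calc t * a * t * z = t * a * (t * z) := by group
    _ = t * (a * z) * t := by rw [h.tz]; group
    _ = (t * z) * a * t := by rw [h1]; group
    _ = z * (t * a * t) := by rw [h.tz]; group

end Hyp

/-- the minimal normal subgroup `C ≤ O_2(H)` of `H` not centralised by `P` -/
structure MinC (z : G) (P O C : Subgroup G) : Prop where
  le : C ≤ O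
  nor : ∀ g : G, g * z = z * g → ∀ x ∈ C, g * x * g⁻¹ ∈ C
  nc : ¬ ∀ x ∈ C, ∀ p ∈ P, x * p = p * x
  min : ∀ D : Subgroup G, D ≤ C → (∀ g : G, g * z = z * g → ∀ x ∈ D, g * x * g⁻¹ ∈ D) →
    (¬ ∀ x ∈ D, ∀ p ∈ P, x * p = p * x) → D = C

namespace Hyp

variable {t z d : G} {M P R O : Subgroup G} (h : Hyp t z d M P R O)

include h

theorem exists_C [Finite G] : ∃ C : Subgroup G, MinC z P O C := by
  have hO : ¬ ∀ x ∈ O, ∀ p ∈ P, x * p = p * x := by
    intro h1
    apply h.P1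
    apply eq_bot_of_perfect _ h.perf
    apply h.O2.to_le
    intro p hp
    exact h.Oc p (h.Pz p hp) fun x hx => (h1 x hx p hp).symm
  obtain ⟨C, hC, hmin⟩ := WellFounded.has_min (wellFounded_lt : WellFounded
    ((· < ·) : Subgroup G → Subgroup G → Prop))
    {C | C ≤ O ∧ (∀ g : G, g * z = z * g → ∀ x ∈ C, g * x * g⁻¹ ∈ C) ∧
      ¬ ∀ x ∈ C, ∀ p ∈ P, x * p = p * x} ⟨O, le_rfl, h.On, hO⟩
  obtain ⟨h1, h2, h3⟩ := hC
  refine ⟨C, h1, h2, h3, fun D hD h4 h5 => ?_⟩
  by_contra hne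
  exact hmin D ⟨hD.trans h1, h4, h5⟩ (lt_of_le_of_ne hD hne)

theorem ne_z : z ≠ 1 := by
  rintro rfl
  obtain ⟨m, -, hm⟩ := h.zJ'
  exact hm (by rw [mul_one, one_mul])

theorem z_t : z * t = t * z := h.tz.symm

variable {C : Subgroup G} (m : MinC z P O C)

include m

theorem C2 : IsPGroup 2 C := h.O2.to_le m.le

theorem tC {x : G} (hx : x ∈ C) : t * x * t ∈ C := by
  have := m.nor t h.tz x hx
  rwa [h.tinv] at this

theorem PC {p x : G} (hp : p ∈ P) (hx : x ∈ C) : p * x * p⁻¹ ∈ C := m.nor p (h.Pz p hp) x hx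

theorem Y_oc {y : G} (hy : y ∈ C) (hyt : y * t = t * y) :
    (∀ p ∈ P, y * p * y⁻¹ * p⁻¹ ∈ R) ∧ (y * d = d * y → y ∈ R ∨ t * y ∈ R) := by
  apply h.oc (C ⊓ centralizer ({t} : Set G)) ((h.C2 m).to_le inf_le_left) _ _ _ y
  · exact mem_inf.2 ⟨hy, mem_centralizer_singleton_iff.2 hyt⟩
  · intro x hx
    exact mem_centralizer_singleton_iff.1 (mem_inf.1 hx).2
  · intro x hx
    exact h.Oz x (m.le (mem_inf.1 hx).1)
  · intro g hgt hgz x hx
    obtain ⟨hx1, hx2⟩ := mem_inf.1 hx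
    refine mem_inf.2 ⟨m.nor g hgz x hx1, ?_⟩
    have h1 := mem_centralizer_singleton_iff.1 hx2
    rw [mem_centralizer_singleton_iff]
    have h2 : Commute g t := hgt
    have h3 : Commute x t := h1
    exact ((h2.mul_left h3).mul_left h2.inv_left).eq

theorem R_le_C [Finite G] : R ≤ C := by
  set Y : Subgroup G := C ⊓ centralizer ({t} : Set G) with hY
  have hmemY : ∀ y, y ∈ Y → y ∈ C ∧ y * t = t * y := fun y hy =>
    ⟨(mem_inf.1 hy).1, mem_centralizer_singleton_iff.1 (mem_inf.1 hy).2⟩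
  have hYP : ∀ p ∈ P, ∀ y ∈ Y, p * y * p⁻¹ ∈ Y := by
    intro p hp y hy
    obtain ⟨h1, h2⟩ := hmemY y hy
    refine mem_inf.2 ⟨h.PC m hp h1, ?_⟩
    rw [mem_centralizer_singleton_iff]
    have h3 : Commute p t := h.P_t hp
    exact ((h3.mul_left h2).mul_left h3.inv_left).eq
  obtain ⟨y₀, hy₀, p₀, hp₀, hne⟩ : ∃ y ∈ Y, ∃ p ∈ P, y * p ≠ p * y := by
    by_contra hcon
    push Not at hcon
    apply m.nc
    apply axb h.tt h.perf (fun p hp => h.P_t hp) (h.C2 m) (fun p hp x hx => h.PC m hp hx)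
      (fun x hx => m.nor t h.tz x hx)
    intro y hy hyt
    exact hcon y (mem_inf.2 ⟨hy, mem_centralizer_singleton_iff.2 hyt⟩)
  have hUR : ⁅Y, P⁆ ≤ R := by
    rw [commutator_le]
    intro y hy p hp
    obtain ⟨h1, h2⟩ := hmemY y hy
    exact (h.Y_oc m h1 h2).1 p hp
  have hUC : ⁅Y, P⁆ ≤ C := by
    rw [commutator_le]
    intro y hy p hp
    obtain ⟨h1, -⟩ := hmemY y hy
    have h2 := mul_mem h1 (h.PC m hp (inv_mem h1))
    rw [commutatorElement_def]
    have e : y * (p * y⁻¹ * p⁻¹) = y * p * y⁻¹ * p⁻¹ := by group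
    rwa [e] at h2
  have hUP : ∀ p ∈ P, ∀ u ∈ ⁅Y, P⁆, p * u * p⁻¹ ∈ ⁅Y, P⁆ := by
    intro p hp u hu
    have h1 : (⁅Y, P⁆).map (MulAut.conj p).toMonoidHom ≤ ⁅Y, P⁆ := by
      rw [map_commutator]
      apply commutator_mono
      · rintro _ ⟨y, hy, rfl⟩
        exact hYP p hp y hy
      · rintro _ ⟨q, hq, rfl⟩
        exact mul_mem (mul_mem hp hq) (inv_mem hp)
    exact h1 ⟨u, hu, rfl⟩
  rcases h.irr _ hUR hUP with h1 | h1
  · rw [← h1]; exact hUC
  · exfalso
    apply hne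
    apply comm_of_perfect h.perf ((⁅Y, P⁆ : Subgroup G) : Set G) _ _ _ p₀ hp₀
    · intro p hp
      exact commutator_mem_commutator hy₀ hp
    · intro a ha q hq
      exact h.ZP a (hUR ha) (h1 a ha) q hq
    · intro a ha b hb
      exact h1 a ha b (hUR hb)

theorem d_mem [Finite G] : d ∈ C := h.R_le_C m h.dR

theorem z_mem [Finite G] : z ∈ C := by
  have h1 : ⁅R, R⁆ ≤ R := commutator_le_self R
  exact h.R_le_C m (h1 h.zR)

/-- `[R, P] = R` -/
theorem RP_eq : ⁅R, P⁆ = R := by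
  have h0 : ⁅R, P⁆ ≤ R := by
    rw [commutator_le]
    intro r hr p hp
    have h2 := mul_mem hr (h.Rn p hp _ (inv_mem hr))
    rw [commutatorElement_def]
    have e : r * (p * r⁻¹ * p⁻¹) = r * p * r⁻¹ * p⁻¹ := by group
    rwa [e] at h2
  have hUP : ∀ p ∈ P, ∀ u ∈ ⁅R, P⁆, p * u * p⁻¹ ∈ ⁅R, P⁆ := by
    intro p hp u hu
    have h1 : (⁅R, P⁆).map (MulAut.conj p).toMonoidHom ≤ ⁅R, P⁆ := by
      rw [map_commutator]
      apply commutator_mono
      · rintro _ ⟨y, hy, rfl⟩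
        exact h.Rn p hp y hy
      · rintro _ ⟨q, hq, rfl⟩
        exact mul_mem (mul_mem hp hq) (inv_mem hp)
    exact h1 ⟨u, hu, rfl⟩
  rcases h.irr _ h0 hUP with h1 | h1
  · exact h1
  · exfalso
    have hc : ∀ r ∈ R, ∀ p ∈ P, r * p = p * r := by
      intro r hr
      apply comm_of_perfect h.perf ((⁅R, P⁆ : Subgroup G) : Set G)
      · intro p hp
        exact commutator_mem_commutator hr hp
      · intro a ha q hq
        exact h.ZP a (h0 ha) (h1 a ha) q hq
      · intro a ha b hb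
        exact h1 a ha b (h0 hb)
    have h2 : ⁅R, R⁆ = ⊥ := by
      rw [eq_bot_iff, commutator_le]
      intro x hx y hy
      rw [mem_bot, commutatorElement_def, hc x hx y (h.RP hy)]
      group
    have h3 := h.zR
    rw [h2, mem_bot] at h3
    exact h.ne_z h3

variable {A : Subgroup G} (c : Cov t M P A)

include c

theorem AC {a x : G} (ha : a ∈ A) (hx : x ∈ C) : a * x * a⁻¹ ∈ C := m.nor a (h.A_z c ha) x hx

/-- `[a, b] ∈ C` if `φ a ∈ R` -/
theorem comm_mem [Finite G] {a b : G} (ha : a ∈ A) (hb : b ∈ A) (haR : phi t a ∈ R) :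
    a * b * a⁻¹ * b⁻¹ ∈ C := by
  have h1 := h.R_le_C m haR
  have h2 := mul_mem h1 (h.AC m c hb (inv_mem h1))
  have h3 : Commute b (t * a * t) := h.comm b (c.le hb) a (c.le ha)
  have e : phi t a * (b * (phi t a)⁻¹ * b⁻¹) = a * b * a⁻¹ * b⁻¹ := by
    unfold phi
    calc a * (t * a * t) * (b * (a * (t * a * t))⁻¹ * b⁻¹)
        = a * ((t * a * t) * b * (t * a * t)⁻¹) * a⁻¹ * b⁻¹ := by group
      _ = a * b * a⁻¹ * b⁻¹ := by
          rw [← h3.eq]; group
  rwa [e] at h2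

/-- `R ≤ φ(C ∩ A)` -/
theorem exists_R [Finite G] {r : G} (hr : r ∈ R) : ∃ a, a ∈ C ∧ a ∈ A ∧ phi t a = r := by
  have hle : ⁅R, P⁆ ≤ (((C ⊓ A).subgroupOf M).map h.ph) := by
    rw [commutator_le]
    intro r hr p hp
    obtain ⟨a, ha, rfl⟩ := c.PA r (h.RP hr)
    obtain ⟨b, hb, rfl⟩ := c.PA p hp
    have hab := h.comm_mem m c ha hb hr
    have habA : a * b * a⁻¹ * b⁻¹ ∈ A :=
      mul_mem (mul_mem (mul_mem ha hb) (inv_mem ha)) (inv_mem hb)
    refine ⟨⟨a * b * a⁻¹ * b⁻¹, c.le habA⟩, mem_inf.2 ⟨hab, habA⟩, ?_⟩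
    rw [commutatorElement_def]
    exact h.phi_comm (c.le ha) (c.le hb)
  rw [h.RP_eq m] at hle
  obtain ⟨x, hx, hxr⟩ := hle hr
  obtain ⟨hx1, hx2⟩ := mem_inf.1 (show (x : G) ∈ C ⊓ A from hx)
  exact ⟨x, hx1, hx2, hxr⟩

theorem t_not_mem [Finite G] : t ∉ C := by
  intro ht
  have hAC : A ≤ C := by
    conv_lhs => rw [← c.perf]
    rw [commutator_le]
    intro a ha b hb
    -- `t a t a⁻¹ ∈ C`
    have h1 : t * a * t * a⁻¹ ∈ C := by
      have := mul_mem ht (h.AC m c ha ht)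
      have e : t * (a * t * a⁻¹) = t * a * t * a⁻¹ := by group
      rwa [e] at this
    have h2 : b * (t * a * t) = t * a * t * b := h.comm b (c.le hb) a (c.le ha)
    have h3 := mul_mem (inv_mem h1) (h.AC m c hb h1)
    rw [commutatorElement_def]
    have e : (t * a * t * a⁻¹)⁻¹ * (b * (t * a * t * a⁻¹) * b⁻¹) = a * b * a⁻¹ * b⁻¹ := by
      calc (t * a * t * a⁻¹)⁻¹ * (b * (t * a * t * a⁻¹) * b⁻¹)
          = a * (t * a * t)⁻¹ * (b * (t * a * t)) * a⁻¹ * b⁻¹ := by group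
        _ = a * b * a⁻¹ * b⁻¹ := by rw [h2]; group
    rwa [e] at h3
  apply h.P1
  apply eq_bot_of_perfect _ h.perf
  apply (h.C2 m).to_le
  intro p hp
  obtain ⟨a, ha, rfl⟩ := c.PA p hp
  exact mul_mem (hAC ha) (h.tC m (hAC ha))

end Hyp

namespace Hyp

variable {t z d : G} {M P R O : Subgroup G} (h : Hyp t z d M P R O)
variable {C : Subgroup G} (m : MinC z P O C)

include h m

theorem P_comm_C' [Finite G] : ∀ x ∈ ⁅C, C⁆, ∀ p ∈ P, x * p = p * x := by
  by_contra hcon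
  have h1 : ⁅C, C⁆ = C := by
    apply m.min _ (commutator_le_self C) _ hcon
    intro g hg x hx
    have h1 : (⁅C, C⁆).map (MulAut.conj g).toMonoidHom ≤ ⁅C, C⁆ := by
      rw [map_commutator]
      apply commutator_mono <;>
      · rintro _ ⟨y, hy, rfl⟩
        exact m.nor g hg y hy
    exact h1 ⟨x, hx, rfl⟩
  have h2 := eq_bot_of_perfect (h.C2 m) h1
  apply m.nc
  intro x hx p _
  rw [h2, mem_bot] at hx
  rw [hx, one_mul, mul_one]

theorem class_two [Finite G] : ∀ x ∈ ⁅C, C⁆, ∀ y ∈ C, x * y = y * x := by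
  set Z : Subgroup G := C ⊓ centralizer ((⁅C, C⁆ : Subgroup G) : Set G) with hZ
  have hC' := h.P_comm_C' m
  have hinv : ∀ g : G, g * z = z * g → ∀ x ∈ ⁅C, C⁆, g * x * g⁻¹ ∈ ⁅C, C⁆ := by
    intro g hg x hx
    have h1 : (⁅C, C⁆).map (MulAut.conj g).toMonoidHom ≤ ⁅C, C⁆ := by
      rw [map_commutator]
      apply commutator_mono <;>
      · rintro _ ⟨y, hy, rfl⟩
        exact m.nor g hg y hy
    exact h1 ⟨x, hx, rfl⟩
  have hinv' : ∀ g : G, g * z = z * g → ∀ x ∈ ⁅C, C⁆, g⁻¹ * x * g ∈ ⁅C, C⁆ := by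
    intro g hg x hx
    have := hinv g⁻¹ (show Commute g⁻¹ z from (show Commute g z from hg).inv_left).eq x hx
    rwa [inv_inv] at this
  have hZC : Z = C := by
    apply m.min _ inf_le_left
    · intro g hg x hx
      obtain ⟨h1, h2⟩ := mem_inf.1 hx
      refine mem_inf.2 ⟨m.nor g hg x h1, ?_⟩
      rw [mem_centralizer_iff]
      intro y hy
      have h3 := mem_centralizer_iff.1 h2 _ (hinv' g hg y hy)
      calc y * (g * x * g⁻¹) = g * (g⁻¹ * y * g * x) * g⁻¹ := by group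
        _ = g * (x * (g⁻¹ * y * g)) * g⁻¹ := by rw [h3]
        _ = _ := by group
    · intro hcon
      apply m.nc
      apply three h.perf
      intro x hx p hp q hq
      apply hcon _ _ q hq
      refine mem_inf.2 ⟨?_, ?_⟩
      · have h2 := mul_mem hx (h.PC m hp (inv_mem hx))
        have e : x * (p * x⁻¹ * p⁻¹) = x * p * x⁻¹ * p⁻¹ := by group
        rwa [e] at h2
      · rw [mem_centralizer_iff]
        intro y hy
        have h3 : Commute y p := hC' y hy p hp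
        have h4 : x⁻¹ * y * x ∈ ⁅C, C⁆ := by
          have hxz : x * z = z * x := h.Oz x (m.le hx)
          exact hinv' x hxz y hy
        have h5 := hC' _ h4 p hp
        have h6 : Commute y (x * p * x⁻¹) := by
          show y * (x * p * x⁻¹) = x * p * x⁻¹ * y
          calc y * (x * p * x⁻¹) = x * (x⁻¹ * y * x * p) * x⁻¹ := by group
            _ = x * (p * (x⁻¹ * y * x)) * x⁻¹ := by rw [h5]
            _ = _ := by group
        exact (h6.mul_right h3.inv_right).eq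
  intro x hx y hy
  rw [← hZC] at hy
  exact mem_centralizer_iff.1 (mem_inf.1 hy).2 x hx

theorem z_notin_M : z ∉ M := by
  intro hz
  have htz : t * z * t = z := by rw [h.tz, mul_assoc, h.tt, mul_one]
  obtain ⟨x, hx, hne⟩ := h.zJ'
  apply hne
  have h1 : Commute z (t * x * t) := h.comm z hz x hx
  have h2 : Commute x z := by
    have := h.comm x hx z hz
    rwa [htz] at this
  exact (h2.mul_left h1.symm).eq

variable {A : Subgroup G} (c : Cov t M P A)

include c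

/-- a preimage of `z` in `[C ∩ A, C ∩ A]` -/
theorem exists_nu [Finite G] : ∃ n ∈ ⁅C ⊓ A, C ⊓ A⁆, phi t n = z := by
  set S : Subgroup M := (C ⊓ A).subgroupOf M with hS
  have h1 : R ≤ S.map h.ph := by
    intro r hr
    obtain ⟨a, h1, h2, h3⟩ := h.exists_R m c hr
    exact ⟨⟨a, c.le h2⟩, mem_inf.2 ⟨h1, h2⟩, h3⟩
  have h2 : ⁅R, R⁆ ≤ ⁅S, S⁆.map h.ph := by
    rw [map_commutator]
    exact commutator_mono h1 h1
  obtain ⟨n, hn, hnz⟩ := h2 h.zR
  refine ⟨n, ?_, hnz⟩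
  have h3 : S.map M.subtype ≤ C ⊓ A := by
    rintro _ ⟨x, hx, rfl⟩
    exact hx
  have h4 : (⁅S, S⁆).map M.subtype ≤ ⁅C ⊓ A, C ⊓ A⁆ := by
    rw [map_commutator]
    exact commutator_mono h3 h3
  exact h4 ⟨n, hn, rfl⟩

theorem lam_of_not_central [Finite G] (hd : ¬ ∀ x ∈ C, x * d = d * x) :
    ∃ lam : centralizer ({z} : Set G) →* ℤˣ,
      lam ⟨t, mem_centralizer_singleton_iff.2 h.tz⟩ = -1 := by
  set W : Subgroup G := C ⊓ centralizer (C : Set G) with hW
  have hWC : ∀ x ∈ W, x ∈ C := fun x hx => (mem_inf.1 hx).1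
  have hWc : ∀ x ∈ W, ∀ y ∈ C, x * y = y * x := fun x hx y hy =>
    (mem_centralizer_iff.1 (mem_inf.1 hx).2 y hy).symm
  have hWi : ∀ x ∈ C, (∀ y ∈ C, x * y = y * x) → x ∈ W := fun x hx h1 =>
    mem_inf.2 ⟨hx, mem_centralizer_iff.2 fun y hy => (h1 y hy).symm⟩
  have hRC := h.R_le_C m
  have hzC' : z ∈ ⁅C, C⁆ := commutator_mono hRC hRC h.zR
  have hzW : z ∈ W := hWi z (commutator_le_self C hzC') (h.class_two m z hzC')
  obtain ⟨n, hn, hnz⟩ := h.exists_nu m c
  have hnC' : n ∈ ⁅C, C⁆ := commutator_mono inf_le_left inf_le_left hn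
  have hnW : n ∈ W := hWi n (commutator_le_self C hnC') (h.class_two m n hnC')
  have hnA : n ∈ A := (mem_inf.1 ((commutator_le_self (C ⊓ A)) hn)).2
  have hn1 : n ≠ 1 := by
    rintro rfl
    apply h.ne_z
    rw [← hnz]
    unfold phi
    rw [mul_one, one_mul, h.tt]
  have hnz' : n ≠ z := by
    rintro rfl
    exact h.z_notin_M m (c.le hnA)
  obtain ⟨w, hw, hne, hsw⟩ := four h.tt h.tz h.zz h.ne_z ((h.C2 m).to_le inf_le_left)
    (fun x hx y hy => hWc x hx y (hWC y hy))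
    (fun x hx => by
      have h1 := h.tC m (hWC x hx)
      apply hWi _ h1
      intro y hy
      have h2 := hWc x hx _ (h.tC m hy)
      calc t * x * t * y = t * (x * (t * y * t)) * t := by
            rw [show t * (x * (t * y * t)) * t = t * x * t * y * (t * t) by group, h.tt, mul_one]
        _ = t * ((t * y * t) * x) * t := by rw [h2]
        _ = (t * t) * y * t * x * t := by group
        _ = y * (t * x * t) := by rw [h.tt]; group) hzW
    (by
      intro x hx hfx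
      have hxt : x * t = t * x := by
        calc x * t = t * x * t * t := by rw [hfx]
          _ = t * x * (t * t) := by group
          _ = t * x := by rw [h.tt, mul_one]
      have hxC := hWC x hx
      have hdC := h.d_mem m
      have hxR : x ∈ R := by
        rcases (h.Y_oc m hxC hxt).2 (hWc x hx d hdC) with h1 | h1
        · exact h1
        · exfalso
          apply h.t_not_mem m c
          have h2 := mul_mem (hRC h1) (inv_mem hxC)
          rwa [mul_inv_cancel_right] at h2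
      rcases h.ZR x hxR (fun r hr => hWc x hx r (hRC hr)) with h1 | h1 | h1 | h1
      · exact Or.inl h1
      · exfalso
        apply hd
        intro y hy
        rw [← h1]
        exact (hWc x hx y hy).symm
      · exact Or.inr h1
      · exfalso
        apply hd
        intro y hy
        have h2 : Commute x y := hWc x hx y hy
        have h3 : Commute z y := hWc z hzW y hy
        have h4 : d = x * z⁻¹ := by rw [h1]; group
        rw [h4]
        exact (h2.mul_left h3.inv_left).eq.symm)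
    ⟨n, hnW, hn1, hnz'⟩
    (by
      intro g hg x hx
      apply hWi _ (m.nor g hg x (hWC x hx))
      intro y hy
      have hg' : g⁻¹ * z = z * g⁻¹ := (show Commute g z from hg).inv_left.eq
      have h1 := m.nor g⁻¹ hg' y hy
      rw [inv_inv] at h1
      have h2 := hWc x hx _ h1
      calc g * x * g⁻¹ * y = g * (x * (g⁻¹ * y * g)) * g⁻¹ := by group
        _ = g * ((g⁻¹ * y * g) * x) * g⁻¹ := by rw [h2]
        _ = _ := by group)
  -- the action of `C(z)` on `G` by conjugation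
  letI : MulAction (centralizer ({z} : Set G)) G :=
    MulAction.compHom G ((MulAut.conj : G →* MulAut G).comp (centralizer ({z} : Set G)).subtype)
  have hsm : ∀ (g : centralizer ({z} : Set G)) (x : G), g • x = (g : G) * x * (g : G)⁻¹ :=
    fun g x => rfl
  apply exists_sign (a := w) (b := t * w * t) hne
  · rw [hsm]
    show t * w * t⁻¹ = _
    rw [h.tinv]
  · intro g
    rw [hsm]
    exact hsw g (mem_centralizer_singleton_iff.1 g.2)

end Hyp

namespace Hyp

variable {t z d : G} {M P R O : Subgroup G} (h : Hyp t z d M P R O)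
variable {C : Subgroup G} (m : MinC z P O C) {A : Subgroup G} (c : Cov t M P A)

include h m c

theorem fixR [Finite G] (hd : ∀ x ∈ C, x * d = d * x) {y : G} (hy : y ∈ C) (hyt : y * t = t * y) :
    y ∈ R := by
  rcases (h.Y_oc m hy hyt).2 (hd y hy) with h1 | h1
  · exact h1
  · exfalso
    apply h.t_not_mem m c
    have h2 := mul_mem (h.R_le_C m h1) (inv_mem hy)
    rwa [mul_inv_cancel_right] at h2

theorem phiR [Finite G] (hd : ∀ x ∈ C, x * d = d * x) {a : G} (ha : a ∈ C) (haA : a ∈ A) :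
    phi t a ∈ R := by
  apply h.fixR m c hd
  · exact mul_mem ha (h.tC m ha)
  · have h1 := h.phi_comm_t (c.le haA)
    calc phi t a * t = t * phi t a * t * t := by rw [h1]
      _ = t * phi t a * (t * t) := by group
      _ = t * phi t a := by rw [h.tt, mul_one]

/-- `C₀ = R₁ R₁^t` -/
def C0 (C : Subgroup G) : Subgroup G where
  carrier := {x | ∃ a, a ∈ C ∧ a ∈ A ∧ ∃ b, b ∈ C ∧ b ∈ A ∧ x = a * (t * b * t)}
  one_mem' := ⟨1, one_mem C, one_mem A, 1, one_mem C, one_mem A, by rw [mul_one, one_mul, h.tt]⟩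
  mul_mem' := by
    rintro _ _ ⟨a, ha, haA, b, hb, hbA, rfl⟩ ⟨a', ha', haA', b', hb', hbA', rfl⟩
    refine ⟨a * a', mul_mem ha ha', mul_mem haA haA', b * b', mul_mem hb hb', mul_mem hbA hbA', ?_⟩
    have h1 := h.comm a' (c.le haA') b (c.le hbA)
    rw [h.sg_mul]
    calc a * (t * b * t) * (a' * (t * b' * t)) = a * ((t * b * t) * a') * (t * b' * t) := by group
      _ = a * (a' * (t * b * t)) * (t * b' * t) := by rw [h1]
      _ = _ := by group
  inv_mem' := by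
    rintro _ ⟨a, ha, haA, b, hb, hbA, rfl⟩
    refine ⟨a⁻¹, inv_mem ha, inv_mem haA, b⁻¹, inv_mem hb, inv_mem hbA, ?_⟩
    have h1 : Commute a (t * b * t) := h.comm a (c.le haA) b (c.le hbA)
    rw [h.sg_inv, ← mul_inv_rev, ← h1.eq]

theorem mem_C0 {x : G} : x ∈ h.C0 c C ↔
    ∃ a, a ∈ C ∧ a ∈ A ∧ ∃ b, b ∈ C ∧ b ∈ A ∧ x = a * (t * b * t) := Iff.rfl

theorem C0_le : h.C0 c C ≤ C := by
  rintro _ ⟨a, ha, -, b, hb, -, rfl⟩
  exact mul_mem ha (h.tC m hb)

theorem tC0 {x : G} (hx : x ∈ h.C0 c C) : t * x * t ∈ h.C0 c C := by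
  obtain ⟨a, ha, haA, b, hb, hbA, rfl⟩ := hx
  refine ⟨b, hb, hbA, a, ha, haA, ?_⟩
  rw [h.sg_mul, h.sg_sg]
  exact (h.comm b (c.le hbA) a (c.le haA)).symm

theorem mem_C0_left {a : G} (ha : a ∈ C) (haA : a ∈ A) : a ∈ h.C0 c C :=
  ⟨a, ha, haA, 1, one_mem C, one_mem A, by rw [mul_one, h.tt, mul_one]⟩

theorem R_le_C0 [Finite G] : R ≤ h.C0 c C := by
  intro r hr
  obtain ⟨a, ha, haA, rfl⟩ := h.exists_R m c hr
  exact ⟨a, ha, haA, a, ha, haA, rfl⟩

/-- the involutions of `t C₀` are `C₀`-conjugate to `t` -/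
theorem exists_conj [Finite G] {u : G} (hu : u ∈ h.C0 c C) (huu : t * u * (t * u) = 1) :
    ∃ x ∈ h.C0 c C, x⁻¹ * t * x = t * u := by
  obtain ⟨a, ha, haA, b, hb, hbA, rfl⟩ := hu
  have haM := c.le haA
  have hbM := c.le hbA
  have h1 : b * a * (t * (a * b) * t) = 1 := by
    have e1 : Commute a (t * b * t) := h.comm a haM b hbM
    have e2 : Commute b (t * a * t) := h.comm b hbM a haM
    have e3 : Commute a (t * a * t) := h.comm a haM a haM
    rw [h.sg_mul]
    have e4 : t * (a * (t * b * t)) * t = t * a * t * b := by rw [h.sg_mul, h.sg_sg]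
    calc b * a * (t * a * t * (t * b * t)) = b * (a * (t * a * t)) * (t * b * t) := by group
      _ = b * ((t * a * t) * a) * (t * b * t) := by rw [e3.eq]
      _ = (b * (t * a * t)) * (a * (t * b * t)) := by group
      _ = (t * a * t * b) * (a * (t * b * t)) := by rw [e2.eq]
      _ = t * (a * (t * b * t)) * t * (a * (t * b * t)) := by rw [e4]
      _ = t * (a * (t * b * t)) * (t * (a * (t * b * t))) := by group
      _ = 1 := huu
  have h2 : b * a = t * (a * b)⁻¹ * t := by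
    rw [h.sg_inv]; exact eq_inv_of_mul_eq_one_left h1
  have hab : a * b = b * a := by
    have e1 : Commute a (b * a) := by
      rw [h2]; exact h.comm a haM _ (inv_mem (mul_mem haM hbM))
    have e2 : a * (b * a) = b * a * a := e1.eq
    exact mul_right_cancel (by rw [mul_assoc]; exact e2)
  -- the abelian group `Z`
  let Z : Subgroup G :=
    { carrier := {x | (x ∈ C ∧ x ∈ A) ∧ (t * x * t ∈ C ∧ t * x * t ∈ A)}
      one_mem' := ⟨⟨one_mem C, one_mem A⟩, by rw [mul_one, h.tt]; exact ⟨one_mem C, one_mem A⟩⟩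
      mul_mem' := by
        rintro x y ⟨⟨hx1, hx2⟩, hx3, hx4⟩ ⟨⟨hy1, hy2⟩, hy3, hy4⟩
        refine ⟨⟨mul_mem hx1 hy1, mul_mem hx2 hy2⟩, ?_⟩
        rw [h.sg_mul]
        exact ⟨mul_mem hx3 hy3, mul_mem hx4 hy4⟩
      inv_mem' := by
        rintro x ⟨⟨hx1, hx2⟩, hx3, hx4⟩
        refine ⟨⟨inv_mem hx1, inv_mem hx2⟩, ?_⟩
        rw [h.sg_inv]
        exact ⟨inv_mem hx3, inv_mem hx4⟩ }
  have hZ : ∀ x, x ∈ Z ↔ (x ∈ C ∧ x ∈ A) ∧ (t * x * t ∈ C ∧ t * x * t ∈ A) := fun x => Iff.rfl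
  have hcZ : b * a ∈ Z := by
    rw [hZ]
    refine ⟨⟨mul_mem hb ha, mul_mem hbA haA⟩, ?_⟩
    have e : t * (b * a) * t = (a * b)⁻¹ := by rw [h2, h.sg_sg]
    rw [e]
    exact ⟨inv_mem (mul_mem ha hb), inv_mem (mul_mem haA hbA)⟩
  obtain ⟨w, hw, hwc⟩ := norm_one (Z := Z) h.tt
    (fun x hx y hy => by
      have := h.comm x (c.le hx.1.2) _ (c.le hy.2.2)
      rwa [h.sg_sg] at this)
    (fun x hx => (hZ _).2 ⟨hx.2, by rw [h.sg_sg]; exact hx.1⟩)
    (fun x hx hfx => by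
      rcases h.fix x (c.le hx.1.2) hfx with h3 | h3
      · exact ⟨1, one_mem Z, by rw [mul_one, one_mul, h.tt, h3]⟩
      · obtain ⟨y, hy, hyA, hyd⟩ := h.exists_R m c h.dR
        refine ⟨y, ⟨⟨hy, hyA⟩, ?_⟩, ?_⟩
        · have e : t * y * t = y⁻¹ * x := by
            rw [h3, ← hyd]; unfold phi; group
          rw [e]
          exact ⟨mul_mem (inv_mem hy) hx.1.1, mul_mem (inv_mem hyA) hx.1.2⟩
        · rw [h3]; exact hyd)
    (b * a) hcZ (by rw [← hab] at h1 ⊢; exact h1)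
  refine ⟨a * w, h.mem_C0_left m c (mul_mem ha hw.1.1) (mul_mem haA hw.1.2), ?_⟩
  -- compute
  have hbe : b = w⁻¹ * (t * w * t) * a⁻¹ := by rw [hwc]; group
  have hwM := c.le hw.1.2
  have hσwM := c.le hw.2.2
  have e5 : Commute (t * w * t) a := by
    exact (h.comm a haM w hwM).symm
  have e6 : Commute (t * a * t) w := (h.comm w hwM a haM).symm
  have e7 : Commute w a := by
    have := h.comm a haM _ hσwM
    rw [h.sg_sg] at this
    exact Commute.symm this
  have e8 : Commute (t * a * t) a := (h.comm a haM a haM).symm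
  have e9 : Commute (t * w * t) w := (h.comm w hwM w hwM).symm
  have e10 : Commute (t * a * t) (t * w * t) := by
    have := h.comm _ hσwM a haM
    exact Commute.symm this
  have hσb : t * b * t = (t * w * t)⁻¹ * w * (t * a * t)⁻¹ := by
    rw [hbe, h.sg_mul, h.sg_mul, h.sg_inv, h.sg_inv, h.sg_sg]
  rw [hσb]
  have e11 : (a * w)⁻¹ * t * (a * w) = t * ((t * (a * w) * t)⁻¹ * (a * w)) := by
    rw [← h.sg_inv]
    calc (a * w)⁻¹ * t * (a * w) = (t * t) * (a * w)⁻¹ * t * (a * w) := by rw [h.tt, one_mul]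
      _ = _ := by group
  rw [e11, h.sg_mul]
  congr 1
  calc (t * a * t * (t * w * t))⁻¹ * (a * w)
      = (t * w * t)⁻¹ * ((t * a * t)⁻¹ * a) * w := by group
    _ = (t * w * t)⁻¹ * (a * (t * a * t)⁻¹) * w := by rw [(e8.inv_left).eq]
    _ = ((t * w * t)⁻¹ * a) * ((t * a * t)⁻¹ * w) := by group
    _ = (a * (t * w * t)⁻¹) * (w * (t * a * t)⁻¹) := by rw [(e5.inv_left).eq, (e6.inv_left).eq]
    _ = _ := by group

/-- `C = R₁ R₁^t` if `d` is central in `C` -/
theorem le_C0 [Finite G] (hd : ∀ x ∈ C, x * d = d * x) : C ≤ h.C0 c C := by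
  by_contra hcon
  have htC : ∀ x ∈ C, t * x * t ∈ C := fun x hx => h.tC m hx
  have htC0 : ∀ x ∈ h.C0 c C, t * x * t ∈ h.C0 c C := fun x hx => h.tC0 m c hx
  set Q : Subgroup G := extT t h.tt (h.C0 c C) htC0 with hQ
  set Q' : Subgroup G := extT t h.tt C htC with hQ'
  have htn := h.t_not_mem m c
  have hQQ' : Q ≤ Q' := by
    rintro x (hx | hx)
    · exact Or.inl (h.C0_le m c hx)
    · exact Or.inr (h.C0_le m c hx)
  obtain ⟨g₀, hg₀, hg₀'⟩ := SetLike.not_le_iff_exists.1 hcon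
  have hlt : Q < Q' := by
    apply lt_of_le_of_ne hQQ'
    intro he
    have h1 : g₀ ∈ Q' := Or.inl hg₀
    rw [← he] at h1
    rcases h1 with h1 | h1
    · exact hg₀' h1
    · apply htn
      have h2 := mul_mem (h.C0_le m c h1) (inv_mem hg₀)
      rwa [mul_inv_cancel_right] at h2
  have hnil : Group.IsNilpotent Q' := (extT_isPGroup (h.C2 m)).isNilpotent
  obtain ⟨x, hx, hxQ, hxN⟩ :=
    Cfsg.Agent.Transfer.FrobeniusFusion.exists_mem_normalizer_notMem hlt
  have htQ : t ∈ Q := Or.inr (by rw [h.tt]; exact one_mem _)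
  -- an element of `C`
  obtain ⟨g, hg, hgQ, hgN⟩ : ∃ g ∈ C, g ∉ h.C0 c C ∧ g ∈ normalizer (Q : Set G) := by
    rcases hx with hx | hx
    · exact ⟨x, hx, fun h1 => hxQ (Or.inl h1), hxN⟩
    · exact ⟨t * x, hx, fun h1 => hxQ (Or.inr h1), mul_mem (le_normalizer htQ) hxN⟩
  have h1 : g⁻¹ * t * g ∈ Q := by
    have := (mem_normalizer_iff.1 (inv_mem hgN) t).1 htQ
    rwa [inv_inv] at this
  rcases h1 with h1 | h1
  · apply htn
    have h2 := mul_mem (mul_mem hg (h.C0_le m c h1)) (inv_mem hg)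
    have e : g * (g⁻¹ * t * g) * g⁻¹ = t := by group
    rwa [e] at h2
  · have hinv : t * (t * (g⁻¹ * t * g)) = g⁻¹ * t * g := by
      rw [← mul_assoc, h.tt, one_mul]
    obtain ⟨y, hy, hyt⟩ := h.exists_conj m c h1 (by
      rw [hinv]
      calc g⁻¹ * t * g * (g⁻¹ * t * g) = g⁻¹ * (t * t) * g := by group
        _ = 1 := by rw [h.tt]; group)
    rw [hinv] at hyt
    apply hgQ
    have h2 : g * y⁻¹ ∈ R := by
      apply h.fixR m c hd (mul_mem hg (inv_mem (h.C0_le m c hy)))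
      calc g * y⁻¹ * t = g * (y⁻¹ * t * y) * y⁻¹ := by group
        _ = g * (g⁻¹ * t * g) * y⁻¹ := by rw [hyt]
        _ = t * (g * y⁻¹) := by group
    have h3 := mul_mem (h.R_le_C0 m c h2) hy
    rwa [inv_mul_cancel_right] at h3

/-- `φ u` central in `R`: `u` centralises `A` -/
theorem comm_A_of_central [Finite G] (hd : ∀ x ∈ C, x * d = d * x) {u : G} (hu : u ∈ C) (huA : u ∈ A)
    (hc : ∀ r ∈ R, phi t u * r = r * phi t u) : ∀ a ∈ A, u * a = a * u :=
  h.central_of c (c.le huA) fun p hp => h.ZP _ (h.phiR m c hd hu huA) hc p hp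

theorem phi_N [Finite G] (hd : ∀ x ∈ C, x * d = d * x) {n : G} (hn : n ∈ ⁅C ⊓ A, C ⊓ A⁆) :
    phi t n ∈ ⁅R, R⁆ := by
  set S : Subgroup M := (C ⊓ A).subgroupOf M with hS
  have h1 : S.map h.ph ≤ R := by
    rintro _ ⟨x, hx, rfl⟩
    obtain ⟨hx1, hx2⟩ := mem_inf.1 (show (x : G) ∈ C ⊓ A from hx)
    exact h.phiR m c hd hx1 hx2
  have hle : C ⊓ A ≤ M := inf_le_right.trans c.le
  have h3 : C ⊓ A ≤ S.map M.subtype := fun x hx => ⟨⟨x, hle hx⟩, hx, rfl⟩
  have h4 : ⁅C ⊓ A, C ⊓ A⁆ ≤ (⁅S, S⁆).map M.subtype := by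
    rw [map_commutator]
    exact commutator_mono h3 h3
  obtain ⟨y, hy, rfl⟩ := h4 hn
  have h5 : (⁅S, S⁆).map h.ph ≤ ⁅R, R⁆ := by
    rw [map_commutator]
    exact commutator_mono h1 h1
  exact h5 ⟨y, hy, rfl⟩

theorem N_comm_A [Finite G] (hd : ∀ x ∈ C, x * d = d * x) {n : G} (hn : n ∈ ⁅C ⊓ A, C ⊓ A⁆) :
    ∀ a ∈ A, n * a = a * n := by
  obtain ⟨h1, h2⟩ := mem_inf.1 (commutator_le_self (C ⊓ A) hn)
  exact h.comm_A_of_central m c hd h1 h2 (h.cl _ (h.phi_N m c hd hn))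

/-- `[x, R₁] = [R₁, R₁]` if `φ x` is not central in `R` -/
theorem full [Finite G] (hd : ∀ x ∈ C, x * d = d * x) {x : G} (hx : x ∈ C) (hxA : x ∈ A)
    (hxc : ¬ ∀ r ∈ R, phi t x * r = r * phi t x) {n : G} (hn : n ∈ ⁅C ⊓ A, C ⊓ A⁆) :
    ∃ r, r ∈ C ∧ r ∈ A ∧ x * r * x⁻¹ * r⁻¹ = n := by
  -- commutators are central
  have hcc : ∀ u ∈ C, ∀ r ∈ C, ∀ e ∈ C, u * r * u⁻¹ * r⁻¹ * e = e * (u * r * u⁻¹ * r⁻¹) := by
    intro u hu r hr e he
    exact h.class_two m _ (commutator_mem_commutator hu hr) e he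
  have hmulr : ∀ u ∈ C, ∀ r ∈ C, ∀ s ∈ C,
      u * (r * s) * u⁻¹ * (r * s)⁻¹ = (u * r * u⁻¹ * r⁻¹) * (u * s * u⁻¹ * s⁻¹) := by
    intro u hu r hr s hs
    have h1 := hcc u hu s hs r hr
    calc u * (r * s) * u⁻¹ * (r * s)⁻¹ = (u * r * u⁻¹ * r⁻¹) * (r * (u * s * u⁻¹ * s⁻¹)) * r⁻¹ := by
          group
      _ = (u * r * u⁻¹ * r⁻¹) * ((u * s * u⁻¹ * s⁻¹) * r) * r⁻¹ := by rw [h1]
      _ = _ := by group
  have hmull : ∀ u ∈ C, ∀ v ∈ C, ∀ r ∈ C,
      u * v * r * (u * v)⁻¹ * r⁻¹ = (u * r * u⁻¹ * r⁻¹) * (v * r * v⁻¹ * r⁻¹) := by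
    intro u hu v hv r hr
    have h1 := hcc v hv r hr (u * r * u⁻¹ * r⁻¹)
      (mul_mem (mul_mem (mul_mem hu hr) (inv_mem hu)) (inv_mem hr))
    have h2 := hcc v hv r hr u hu
    calc u * v * r * (u * v)⁻¹ * r⁻¹ = u * (v * r * v⁻¹ * r⁻¹) * (r * u⁻¹ * r⁻¹) := by group
      _ = (v * r * v⁻¹ * r⁻¹) * u * (r * u⁻¹ * r⁻¹) := by rw [h2]
      _ = (v * r * v⁻¹ * r⁻¹) * (u * r * u⁻¹ * r⁻¹) := by group
      _ = _ := h1
  -- `Y = [x, R₁]`
  let Y : Subgroup G :=
    { carrier := {y | ∃ r, r ∈ C ∧ r ∈ A ∧ x * r * x⁻¹ * r⁻¹ = y}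
      one_mem' := ⟨1, one_mem C, one_mem A, by group⟩
      mul_mem' := by
        rintro _ _ ⟨r, hr, hrA, rfl⟩ ⟨s, hs, hsA, rfl⟩
        exact ⟨r * s, mul_mem hr hs, mul_mem hrA hsA, hmulr x hx r hr s hs⟩
      inv_mem' := by
        rintro _ ⟨r, hr, hrA, rfl⟩
        refine ⟨r⁻¹, inv_mem hr, inv_mem hrA, ?_⟩
        have h1 := hmulr x hx r hr r⁻¹ (inv_mem hr)
        rw [mul_inv_cancel] at h1
        apply eq_inv_of_mul_eq_one_right
        rw [← h1]; group }
  have hY : ∀ y, y ∈ Y ↔ ∃ r, r ∈ C ∧ r ∈ A ∧ x * r * x⁻¹ * r⁻¹ = y := fun y => Iff.rfl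
  -- `U = {u ∈ R₁ : [u, R₁] ≤ Y}`
  let U : Subgroup G :=
    { carrier := {u | (u ∈ C ∧ u ∈ A) ∧ ∀ r, r ∈ C → r ∈ A → u * r * u⁻¹ * r⁻¹ ∈ Y}
      one_mem' := ⟨⟨one_mem C, one_mem A⟩, fun r _ _ => by
        have e : (1 : G) * r * 1⁻¹ * r⁻¹ = 1 := by group
        rw [e]; exact one_mem Y⟩
      mul_mem' := by
        rintro u v ⟨⟨hu, huA⟩, hu1⟩ ⟨⟨hv, hvA⟩, hv1⟩
        refine ⟨⟨mul_mem hu hv, mul_mem huA hvA⟩, fun r hr hrA => ?_⟩
        rw [hmull u hu v hv r hr]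
        exact mul_mem (hu1 r hr hrA) (hv1 r hr hrA)
      inv_mem' := by
        rintro u ⟨⟨hu, huA⟩, hu1⟩
        refine ⟨⟨inv_mem hu, inv_mem huA⟩, fun r hr hrA => ?_⟩
        have h1 := hmull u hu u⁻¹ (inv_mem hu) r hr
        have h2 : u⁻¹ * r * u⁻¹⁻¹ * r⁻¹ = (u * r * u⁻¹ * r⁻¹)⁻¹ := by
          apply eq_inv_of_mul_eq_one_right
          rw [← h1]; group
        rw [h2]
        exact inv_mem (hu1 r hr hrA) }
  have hU : ∀ u, u ∈ U ↔ (u ∈ C ∧ u ∈ A) ∧ ∀ r, r ∈ C → r ∈ A → u * r * u⁻¹ * r⁻¹ ∈ Y :=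
    fun u => Iff.rfl
  have hxU : x ∈ U := ⟨⟨hx, hxA⟩, fun r hr hrA => ⟨r, hr, hrA, rfl⟩⟩
  have hYN : Y ≤ ⁅C ⊓ A, C ⊓ A⁆ := by
    rintro _ ⟨r, hr, hrA, rfl⟩
    exact commutator_mem_commutator (mem_inf.2 ⟨hx, hxA⟩) (mem_inf.2 ⟨hr, hrA⟩)
  have hUle : U ≤ M := fun u hu => c.le hu.1.2
  -- the image of `U`
  have hUR : (U.subgroupOf M).map h.ph ≤ R := by
    rintro _ ⟨u, hu, rfl⟩
    have hu' : (u : G) ∈ U := hu
    exact h.phiR m c hd hu'.1.1 hu'.1.2
  have hUP : ∀ p ∈ P, ∀ v ∈ (U.subgroupOf M).map h.ph, p * v * p⁻¹ ∈ (U.subgroupOf M).map h.ph := by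
    rintro p hp _ ⟨u, hu, rfl⟩
    have hu' : (u : G) ∈ U := hu
    obtain ⟨a, ha, rfl⟩ := c.PA p hp
    have hau : a * (u : G) * a⁻¹ ∈ U := by
      refine ⟨⟨h.AC m c ha hu'.1.1, mul_mem (mul_mem ha hu'.1.2) (inv_mem ha)⟩, fun r hr hrA => ?_⟩
      have hr' : a⁻¹ * r * a ∈ C := by
        have := h.AC m c (inv_mem ha) hr
        rwa [inv_inv] at this
      have hrA' : a⁻¹ * r * a ∈ A := mul_mem (mul_mem (inv_mem ha) hrA) ha
      have h1 := hu'.2 _ hr' hrA'
      have h2 := h.N_comm_A m c hd (hYN h1) a ha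
      have e : a * u * a⁻¹ * r * (a * u * a⁻¹)⁻¹ * r⁻¹
          = u * (a⁻¹ * r * a) * (u : G)⁻¹ * (a⁻¹ * r * a)⁻¹ := by
        calc a * u * a⁻¹ * r * (a * u * a⁻¹)⁻¹ * r⁻¹
            = a * (u * (a⁻¹ * r * a) * (u : G)⁻¹ * (a⁻¹ * r * a)⁻¹) * a⁻¹ := by group
          _ = (u * (a⁻¹ * r * a) * (u : G)⁻¹ * (a⁻¹ * r * a)⁻¹) * a * a⁻¹ := by rw [h2]
          _ = _ := by group
      rw [e]; exact h1
    refine ⟨⟨a * u * a⁻¹, hUle hau⟩, hau, ?_⟩
    exact h.phi_conj (c.le ha) u.2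
  rcases h.irr _ hUR hUP with h1 | h1
  · -- `U = R₁`
    have hall : ∀ r, r ∈ C → r ∈ A → r ∈ U := by
      intro r hr hrA
      have h2 : phi t r ∈ (U.subgroupOf M).map h.ph := by
        rw [h1]; exact h.phiR m c hd hr hrA
      obtain ⟨u, hu, hur⟩ := h2
      have hu' : (u : G) ∈ U := hu
      have hur' : phi t u = phi t r := hur
      have hk : phi t ((u : G)⁻¹ * r) = 1 := by
        rw [h.phi_mul (inv_mem u.2) (c.le hrA), h.phi_inv u.2, hur', inv_mul_cancel]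
      have hkM : (u : G)⁻¹ * r ∈ M := mul_mem (inv_mem u.2) (c.le hrA)
      have hkU : (u : G)⁻¹ * r ∈ U := by
        refine ⟨⟨mul_mem (inv_mem hu'.1.1) hr, mul_mem (inv_mem hu'.1.2) hrA⟩, fun s _ hsA => ?_⟩
        have h3 := h.ker_central hkM hk (c.le hsA)
        have e : (u : G)⁻¹ * r * s * ((u : G)⁻¹ * r)⁻¹ * s⁻¹ = 1 := by
          rw [h3]; group
        rw [e]; exact one_mem Y
      have h4 := mul_mem hu' hkU
      rwa [mul_inv_cancel_left] at h4
    have hNY : ⁅C ⊓ A, C ⊓ A⁆ ≤ Y := by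
      rw [commutator_le]
      intro u hu r hr
      obtain ⟨hu1, hu2⟩ := mem_inf.1 hu
      obtain ⟨hr1, hr2⟩ := mem_inf.1 hr
      exact (hall u hu1 hu2).2 r hr1 hr2
    exact hNY hn
  · exfalso
    apply hxc
    exact h1 _ ⟨⟨x, c.le hxA⟩, hxU, rfl⟩

/-- commutators in `R₁ R₁^t` -/
theorem comm_C0 {a b a' b' : G} (ha : a ∈ A) (hb : b ∈ A) (ha' : a' ∈ A) (hb' : b' ∈ A) :
    a * (t * b * t) * (a' * (t * b' * t)) * (a * (t * b * t))⁻¹ * (a' * (t * b' * t))⁻¹
      = a * a' * a⁻¹ * a'⁻¹ * (t * (b * b' * b⁻¹ * b'⁻¹) * t) := by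
  have key : ∀ x ∈ A, ∀ y ∈ A, Commute x (t * y * t) := fun x hx y hy =>
    h.comm x (c.le hx) y (c.le hy)
  have e : t * (b * b' * b⁻¹ * b'⁻¹) * t
      = (t * b * t) * (t * b' * t) * (t * b * t)⁻¹ * (t * b' * t)⁻¹ := by
    rw [h.sg_mul, h.sg_mul, h.sg_mul, h.sg_inv, h.sg_inv]
  rw [e]
  set B := t * b * t with hB
  set B' := t * b' * t with hB'
  have k1 : Commute a' B := key a' ha' b hb
  have k2 : Commute a B := key a ha b hb
  have k3 : Commute a B' := key a ha b' hb'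
  have k4 : Commute a' B' := key a' ha' b' hb'
  calc a * B * (a' * B') * (a * B)⁻¹ * (a' * B')⁻¹
      = a * (B * a') * B' * B⁻¹ * a⁻¹ * B'⁻¹ * a'⁻¹ := by group
    _ = a * (a' * B) * B' * B⁻¹ * a⁻¹ * B'⁻¹ * a'⁻¹ := by rw [k1.eq]
    _ = a * a' * ((B * B' * B⁻¹) * (a⁻¹ * (B'⁻¹ * a'⁻¹))) := by group
    _ = a * a' * ((B * B' * B⁻¹) * (a⁻¹ * (a'⁻¹ * B'⁻¹))) := by
        rw [((k4.inv_left).inv_right).eq]
    _ = a * a' * (((B * B' * B⁻¹) * (a⁻¹ * a'⁻¹)) * B'⁻¹) := by group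
    _ = a * a' * (((a⁻¹ * a'⁻¹) * (B * B' * B⁻¹)) * B'⁻¹) := by
        have k5 : Commute (a⁻¹ * a'⁻¹) (B * B' * B⁻¹) := by
          apply Commute.mul_left
          · exact ((k2.inv_left).mul_right k3.inv_left).mul_right (k2.inv_left.inv_right)
          · exact ((k1.inv_left).mul_right k4.inv_left).mul_right (k1.inv_left.inv_right)
        rw [k5.eq]
    _ = _ := by group

theorem lam_of_central [Finite G] (hd : ∀ x ∈ C, x * d = d * x) :
    ∃ lam : centralizer ({z} : Set G) →* ℤˣ,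
      lam ⟨t, mem_centralizer_singleton_iff.2 h.tz⟩ = -1 := by
  set N : Subgroup G := ⁅C ⊓ A, C ⊓ A⁆ with hN
  have hNM : N ≤ M := fun n hn => c.le (mem_inf.1 (commutator_le_self (C ⊓ A) hn)).2
  obtain ⟨n₀, hn₀, hn₀z⟩ := h.exists_nu m c
  have hn₀1 : n₀ ≠ 1 := by
    rintro rfl
    apply h.ne_z
    rw [← hn₀z]
    unfold phi
    rw [mul_one, one_mul, h.tt]
  -- an element `x` of `R₁` with `φ x` not central in `R`
  obtain ⟨x, hx, hxA, hxc⟩ : ∃ x, x ∈ C ∧ x ∈ A ∧ ¬ ∀ r ∈ R, phi t x * r = r * phi t x := by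
    by_contra hcon
    push Not at hcon
    have h1 : ∀ s ∈ R, ∀ r ∈ R, s * r = r * s := by
      intro s hs r hr
      obtain ⟨x, hx, hxA, rfl⟩ := h.exists_R m c hs
      exact hcon x hx hxA r hr
    have h2 : ⁅R, R⁆ = ⊥ := by
      rw [eq_bot_iff, commutator_le]
      intro x hx y hy
      rw [mem_bot, commutatorElement_def, h1 x hx y hy]
      group
    have h3 := h.zR
    rw [h2, mem_bot] at h3
    exact h.ne_z h3
  have hC0 := h.le_C0 m c hd
  let act : MulAction (centralizer ({z} : Set G)) (Subgroup G) :=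
    { smul := fun g K => K.map (MulAut.conj (g : G)).toMonoidHom
      one_smul := by
        intro K
        show K.map (MulAut.conj (1 : G)).toMonoidHom = K
        rw [map_one]
        exact Subgroup.map_id K
      mul_smul := by
        intro g k K
        show K.map (MulAut.conj ((g : G) * (k : G))).toMonoidHom
          = (K.map (MulAut.conj (k : G)).toMonoidHom).map (MulAut.conj (g : G)).toMonoidHom
        rw [map_mul, Subgroup.map_map]
        rfl }
  have hsm : ∀ (g : centralizer ({z} : Set G)) (K : Subgroup G),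
      g • K = K.map (MulAut.conj (g : G)).toMonoidHom := fun g K => rfl
  have hcj : ∀ (g y : G) (K : Subgroup G), y ∈ K.map (MulAut.conj g).toMonoidHom ↔
      ∃ k ∈ K, g * k * g⁻¹ = y := fun g y K => Iff.rfl
  have hNt : N ≠ N.map (MulAut.conj t).toMonoidHom := by
    intro he
    have h1 : n₀ ∈ N.map (MulAut.conj t).toMonoidHom := by rw [← he]; exact hn₀
    obtain ⟨k, hk, hkn⟩ := (hcj _ _ _).1 h1
    rw [h.tinv] at hkn
    -- `t n₀ t = k ∈ N`
    have h2 : t * n₀ * t = k := by rw [← hkn, h.sg_sg]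
    apply h.z_notin_M m
    rw [← hn₀z]
    unfold phi
    rw [h2]
    exact mul_mem (hNM hn₀) (hNM hk)
  apply exists_sign (a := N) (b := N.map (MulAut.conj t).toMonoidHom) hNt (hsm _ _)
  intro g
  rw [hsm]
  have hgz : (g : G) * z = z * g := mem_centralizer_singleton_iff.1 g.2
  have hgz' : (g : G)⁻¹ * z = z * (g : G)⁻¹ := (show Commute (g : G) z from hgz).inv_left.eq
  set K : Subgroup G := N.map (MulAut.conj (g : G)).toMonoidHom with hK
  have hcardK : Nat.card K = Nat.card N :=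
    (Nat.card_congr (N.equivMapOfInjective _ (MulAut.conj (g : G)).injective).toEquiv).symm
  have hcardT : Nat.card (N.map (MulAut.conj t).toMonoidHom) = Nat.card N :=
    (Nat.card_congr (N.equivMapOfInjective _ (MulAut.conj t).injective).toEquiv).symm
  set y : G := g * x * (g : G)⁻¹ with hy
  have hyC : y ∈ C := m.nor g hgz x hx
  -- `[y, C] ≤ K`
  have hyK : ∀ e ∈ C, y * e * y⁻¹ * e⁻¹ ∈ K := by
    intro e he
    have he' : (g : G)⁻¹ * e * g ∈ C := by
      have := m.nor _ hgz' e he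
      rwa [inv_inv] at this
    obtain ⟨e₁, he₁, he₁A, e₂, he₂, he₂A, hee⟩ := hC0 he'
    rw [hK, hcj]
    refine ⟨x * e₁ * x⁻¹ * e₁⁻¹, ?_, ?_⟩
    · exact commutator_mem_commutator (mem_inf.2 ⟨hx, hxA⟩) (mem_inf.2 ⟨he₁, he₁A⟩)
    · have h1 := h.comm_C0 m c hxA (one_mem A) he₁A he₂A
      have h2 : t * (1 : G) * t = 1 := by rw [mul_one, h.tt]
      have h3 : (1 : G) * e₂ * 1⁻¹ * e₂⁻¹ = 1 := by group
      rw [h3, h2, mul_one, mul_one, ← hee] at h1
      rw [← h1, hy]; group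
  obtain ⟨y₁, hy₁, hy₁A, y₂, hy₂, hy₂A, hyy⟩ := hC0 hyC
  by_cases hc1 : ∀ r ∈ R, phi t y₁ * r = r * phi t y₁
  · by_cases hc2 : ∀ r ∈ R, phi t y₂ * r = r * phi t y₂
    · -- `y` is central in `C`: impossible
      exfalso
      have h1 := h.comm_A_of_central m c hd hy₁ hy₁A hc1
      have h2 := h.comm_A_of_central m c hd hy₂ hy₂A hc2
      have h3 : ∀ e ∈ C, y * e * y⁻¹ * e⁻¹ = 1 := by
        intro e he
        obtain ⟨e₁, he₁, he₁A, e₂, he₂, he₂A, hee⟩ := hC0 he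
        rw [hyy, hee, h.comm_C0 m c hy₁A hy₂A he₁A he₂A, h1 e₁ he₁A, h2 e₂ he₂A]
        have e3 : e₂ * y₂ * y₂⁻¹ * e₂⁻¹ = 1 := by group
        rw [e3, mul_one, h.tt]
        group
      -- hence `n₀ = 1`
      obtain ⟨r, hr, hrA, hrn⟩ := h.full m c hd hx hxA hxc hn₀
      apply hn₀1
      have h4 := h3 _ (m.nor g hgz r hr)
      have h5 : y * (g * r * (g : G)⁻¹) * y⁻¹ * (g * r * (g : G)⁻¹)⁻¹ = g * n₀ * (g : G)⁻¹ := by
        rw [← hrn, hy]; group
      rw [h5] at h4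
      have h6 : n₀ = (g : G)⁻¹ * (g * n₀ * (g : G)⁻¹) * g := by group
      rw [h6, h4]; group
    · right
      have hle : N.map (MulAut.conj t).toMonoidHom ≤ K := by
        intro v hv
        obtain ⟨n, hn, rfl⟩ := (hcj _ _ _).1 hv
        obtain ⟨r, hr, hrA, hrn⟩ := h.full m c hd hy₂ hy₂A hc2 hn
        have h1 := h.comm_A_of_central m c hd hy₁ hy₁A hc1
        have h2 := hyK _ (h.tC m hr)
        have h3 := h.comm_C0 m c hy₁A hy₂A (one_mem A) hrA
        rw [one_mul, ← hyy, hrn] at h3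
        have e3 : y₁ * 1 * y₁⁻¹ * 1⁻¹ = 1 := by group
        rw [e3, one_mul] at h3
        rw [h3] at h2
        rw [h.tinv]; exact h2
      exact (Subgroup.eq_of_le_of_card_ge hle (by rw [hcardK, hcardT])).symm
  · left
    have hle : N ≤ K := by
      intro n hn
      obtain ⟨r, hr, hrA, hrn⟩ := h.full m c hd hy₁ hy₁A hc1 hn
      have h2 := hyK _ hr
      have h3 := h.comm_C0 m c hy₁A hy₂A hrA (one_mem A)
      have e2 : t * (1 : G) * t = 1 := by rw [mul_one, h.tt]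
      have e3 : y₂ * 1 * y₂⁻¹ * 1⁻¹ = 1 := by group
      rw [e3, e2, mul_one, mul_one, ← hyy, hrn] at h3
      rw [h3] at h2
      exact h2
    exact (Subgroup.eq_of_le_of_card_ge hle (by rw [hcardK])).symm

end Hyp

/-- **Theorem W** (wreath kill). -/
theorem Hyp.exists_lam [Finite G] {t z d : G} {M P R O : Subgroup G} (h : Hyp t z d M P R O) :
    ∃ lam : centralizer ({z} : Set G) →* ℤˣ,
      lam ⟨t, mem_centralizer_singleton_iff.2 h.tz⟩ = -1 := by
  obtain ⟨C, m⟩ := h.exists_C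
  obtain ⟨A, h1, h2, h3, h4⟩ := h.exists_A
  have c : Cov t M P A := ⟨h1, h2, h3, h4⟩
  by_cases hd : ∀ x ∈ C, x * d = d * x
  · exact h.lam_of_central m c hd
  · exact h.lam_of_not_central m c hd

end Cfsg.Agent.OddHalf.D8.WreathLam
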