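import Cfsg.Agent.LargeExtra.Dickson
import Cfsg.Agent.S0093
import Cfsg.Agent.Lib.FrattiniPGroup

/-!
# ODD half, D8: the homomorphism `λ : C_G(z) → {±1}` with `λ(t) = -1` (helper821)

`H = C_G(z)`, `F ≤ H` a normal 2-subgroup with `C_H(F) ≤ F`, `t ∈ H` an involution outside `F`, `N`
a group of elements of `H` mapping `t` to `t` or `t z`.
`exists_lam`: if every abelian subgroup of `C_F(t)` normalised by `N` is contained in `⟨z⟩`, then
`C_G(z)` has a homomorphism to `{±1}` with value `-1` at `t`.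

Proof: a normal subgroup of order four of `H` inside `F` not centralised by `t` gives `λ`; otherwise every abelian
subgroup of `F` normal in `H` is in `⟨z⟩`, `F` equals its critical subgroup and is extraspecial, and `t` induces a
reflection on `F / ⟨z⟩`: Dickson invariant.
-/

set_option autoImplicit false
set_option linter.style.haveILetI false

namespace Cfsg.Agent.OddHalf.D8.Lam

open Subgroup Module
open Cfsg.Agent.Co2Type.Quad Cfsg.Agent.LargeExtra.TwoCentral Cfsg.Agent.LargeExtra.Dickson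

variable {G : Type*} [Group G]

/-- an `H`-stable coset `{u, u z}` on which `t` acts nontrivially -/
theorem lam_of_u {t z u : G} (zz : z * z = 1) (z1 : z ≠ 1) (comm : t * z = z * t) (_uz : u * z = z * u)
    (hu : ∀ g, g * z = z * g → g * u * g⁻¹ = u ∨ g * u * g⁻¹ = u * z)
    (htu : t * u * t⁻¹ = u * z) :
    ∃ lam : centralizer ({z} : Set G) →* ℤˣ, lam ⟨t, mem_centralizer_singleton_iff.2 comm⟩ = -1 := by
  classical
  have hne : u * z ≠ u := fun h => z1 (mul_eq_left.1 h)
  have key : ∀ g h : G, g * z = z * g → h * z = z * h →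
      (if g * h * u * (g * h)⁻¹ = u then (1 : ℤˣ) else -1) =
        (if g * u * g⁻¹ = u then (1 : ℤˣ) else -1) * (if h * u * h⁻¹ = u then (1 : ℤˣ) else -1) := by
    intro g h hg hh
    have e : g * h * u * (g * h)⁻¹ = g * (h * u * h⁻¹) * g⁻¹ := by group
    have e2 : g * (u * z) * g⁻¹ = g * u * g⁻¹ * z := by
      calc g * (u * z) * g⁻¹ = g * u * (z * g⁻¹) := by group
        _ = g * u * (g⁻¹ * z) := by
            congr 1
            rw [eq_inv_mul_iff_mul_eq, ← mul_assoc, hg, mul_assoc, mul_inv_cancel, mul_one]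
        _ = g * u * g⁻¹ * z := by group
    rw [e]
    rcases hu h hh with h1 | h1 <;> rcases hu g hg with h2 | h2
    · rw [h1, h2]; simp
    · rw [h1, h2]; simp [hne]
    · rw [h1, e2, h2]; simp [hne]
    · rw [h1, e2, h2, mul_assoc, zz]; simp [hne]
  refine ⟨{ toFun := fun g => if (g : G) * u * (g : G)⁻¹ = u then 1 else -1, map_one' := ?_, map_mul' := ?_ }, ?_⟩
  · simp
  · intro g h
    exact key g h (mem_centralizer_singleton_iff.1 g.2) (mem_centralizer_singleton_iff.1 h.2)
  · show (if t * u * t⁻¹ = u then (1 : ℤˣ) else -1) = -1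
    rw [htu, if_neg hne]

/-- the standing hypotheses: `F ≤ H = C_G(z)` a normal 2-subgroup of `H` with `C_H(F) ≤ F`, `t ∈ H` an involution -/
structure Base (t z : G) (F : Subgroup G) : Prop where
  tt : t * t = 1
  zz : z * z = 1
  z1 : z ≠ 1
  comm : t * z = z * t
  pF : IsPGroup 2 F
  le : ∀ x ∈ F, x * z = z * x
  nor : ∀ g, g * z = z * g → ∀ x ∈ F, g * x * g⁻¹ ∈ F
  self : ∀ g, g * z = z * g → (∀ x ∈ F, g * x = x * g) → g ∈ F

namespace Base

variable {t z : G} {F : Subgroup G}

/-- the goal -/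
def Goal (h : Base t z F) : Prop :=
  ∃ lam : centralizer ({z} : Set G) →* ℤˣ, lam ⟨t, mem_centralizer_singleton_iff.2 h.comm⟩ = -1

theorem z_mem (h : Base t z F) : z ∈ F := h.self z rfl fun x hx => (h.le x hx).symm

theorem t_inv (h : Base t z F) : t⁻¹ = t := inv_eq_of_mul_eq_one_left h.tt

theorem z_inv (h : Base t z F) : z⁻¹ = z := inv_eq_of_mul_eq_one_left h.zz

/-- elementary abelian normal subgroups -/
theorem elem (h : Base t z F) {W : Subgroup G} (hW : W ≤ F) (hab : ∀ a ∈ W, ∀ b ∈ W, a * b = b * a)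
    (hsq : ∀ a ∈ W, a * a = 1)
    (hn : ∀ g, g * z = z * g → ∀ w ∈ W, g * w * g⁻¹ ∈ W)
    (hfix : ∀ w ∈ W, w * t = t * w → w = 1 ∨ w = z) {w : G} (hw : w ∈ W) :
    (w = 1 ∨ w = z) ∨ h.Goal := by
  by_cases hwz : w = 1 ∨ w = z
  · exact Or.inl hwz
  right
  have key : ∀ b ∈ W, ¬ (b = 1 ∨ b = z) → t * b * t⁻¹ = b * z := by
    intro b hb hbz
    have h1 : t * b * t⁻¹ ∈ W := hn t h.comm b hb
    have h2 : b * (t * b * t⁻¹) ∈ W := W.mul_mem hb h1
    have h3 : b * (t * b * t⁻¹) * t = t * (b * (t * b * t⁻¹)) := by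
      have e0 : t * (t * b * t⁻¹) * t⁻¹ = b := by
        calc t * (t * b * t⁻¹) * t⁻¹ = (t * t) * b * (t * t)⁻¹ := by group
          _ = b := by rw [h.tt]; group
      have e1 : t * (b * (t * b * t⁻¹)) * t⁻¹ = b * (t * b * t⁻¹) := by
        calc t * (b * (t * b * t⁻¹)) * t⁻¹ = (t * b * t⁻¹) * (t * (t * b * t⁻¹) * t⁻¹) := by group
          _ = (t * b * t⁻¹) * b := by rw [e0]
          _ = b * (t * b * t⁻¹) := (hab b hb _ h1).symm
      rw [mul_inv_eq_iff_eq_mul] at e1
      exact e1.symm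
    rcases hfix _ h2 h3 with h4 | h4
    · exfalso
      apply hbz
      have h5 : t * b * t⁻¹ = b := by
        have : t * b * t⁻¹ = b⁻¹ := (inv_eq_of_mul_eq_one_right h4).symm
        rw [this, inv_eq_of_mul_eq_one_left (hsq b hb)]
      refine hfix _ hb ?_
      rw [mul_inv_eq_iff_eq_mul] at h5
      exact h5.symm
    · calc t * b * t⁻¹ = b * (b * (t * b * t⁻¹)) := by rw [← mul_assoc, hsq b hb, one_mul]
        _ = b * z := by rw [h4]
  have hcomm : w * z = z * w := h.le w (hW hw)
  refine lam_of_u h.zz h.z1 h.comm hcomm ?_ (key w hw hwz)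
  intro g hg
  have hg1 : g * w * g⁻¹ ∈ W := hn g hg w hw
  have hg2 : ¬ (g * w * g⁻¹ = 1 ∨ g * w * g⁻¹ = z) := by
    rintro (h1 | h1)
    · exact hwz (Or.inl (conj_eq_one_iff.1 h1))
    · apply hwz; right
      calc w = g⁻¹ * (g * w * g⁻¹) * g := by group
        _ = g⁻¹ * (z * g) := by rw [h1]; group
        _ = z := by rw [← hg]; group
  have hk := key _ hg1 hg2
  have hk2 := key w hw hwz
  -- the product is fixed by t
  have h3 : w * (g * w * g⁻¹) ∈ W := W.mul_mem hw hg1
  have h4 : w * (g * w * g⁻¹) * t = t * (w * (g * w * g⁻¹)) := by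
    have hz : z * (g * w * g⁻¹) = (g * w * g⁻¹) * z := (h.le _ (hW hg1)).symm
    have : t * (w * (g * w * g⁻¹)) * t⁻¹ = w * (g * w * g⁻¹) := by
      calc t * (w * (g * w * g⁻¹)) * t⁻¹ = (t * w * t⁻¹) * (t * (g * w * g⁻¹) * t⁻¹) := by group
        _ = w * z * ((g * w * g⁻¹) * z) := by rw [hk, hk2]
        _ = w * (z * (g * w * g⁻¹)) * z := by group
        _ = w * (g * w * g⁻¹) * (z * z) := by rw [hz]; group
        _ = w * (g * w * g⁻¹) := by rw [h.zz, mul_one]
    rw [mul_inv_eq_iff_eq_mul] at this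
    exact this.symm
  rcases hfix _ h3 h4 with h5 | h5
  · left
    calc g * w * g⁻¹ = w * (w * (g * w * g⁻¹)) := by rw [← mul_assoc, hsq w hw, one_mul]
      _ = w := by rw [h5, mul_one]
  · right
    calc g * w * g⁻¹ = w * (w * (g * w * g⁻¹)) := by rw [← mul_assoc, hsq w hw, one_mul]
      _ = w * z := by rw [h5]

/-- abelian normal subgroups -/
theorem abel (h : Base t z F) (hg : ¬ h.Goal) {W : Subgroup G} (hW : W ≤ F)
    (hab : ∀ a ∈ W, ∀ b ∈ W, a * b = b * a)
    (hn : ∀ g, g * z = z * g → ∀ w ∈ W, g * w * g⁻¹ ∈ W)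
    (hfix : ∀ w ∈ W, w * t = t * w → w = 1 ∨ w = z) {w : G} (hw : w ∈ W) : w = 1 ∨ w = z := by
  -- involutions of `W`
  have hinv : ∀ a ∈ W, a * a = 1 → a = 1 ∨ a = z := by
    intro a ha haa
    set W1 : Subgroup G :=
      { carrier := {x | x ∈ W ∧ x * x = 1}
        one_mem' := ⟨W.one_mem, one_mul 1⟩
        mul_mem' := by
          rintro x y ⟨hx, hx2⟩ ⟨hy, hy2⟩
          refine ⟨W.mul_mem hx hy, ?_⟩
          calc x * y * (x * y) = x * (y * x) * y := by group
            _ = x * x * (y * y) := by rw [hab y hy x hx]; group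
            _ = 1 := by rw [hx2, hy2, one_mul]
        inv_mem' := by
          rintro x ⟨hx, hx2⟩
          refine ⟨W.inv_mem hx, ?_⟩
          rw [← mul_inv_rev, hx2, inv_one] } with hW1
    have h1 : ∀ x, x ∈ W1 ↔ x ∈ W ∧ x * x = 1 := fun x => Iff.rfl
    refine ((h.elem (W := W1) (fun x hx => hW ((h1 x).1 hx).1)
      (fun x hx y hy => hab x ((h1 x).1 hx).1 y ((h1 y).1 hy).1) (fun x hx => ((h1 x).1 hx).2) ?_
      (fun w hw hwt => hfix w ((h1 w).1 hw).1 hwt) ((h1 a).2 ⟨ha, haa⟩)).resolve_right hg)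
    intro g hgz x hx
    rw [h1] at hx ⊢
    refine ⟨hn g hgz x hx.1, ?_⟩
    calc g * x * g⁻¹ * (g * x * g⁻¹) = g * (x * x) * g⁻¹ := by group
      _ = 1 := by rw [hx.2]; group
  by_contra hwz
  -- an element with square `z`
  obtain ⟨v, hv, hvz⟩ : ∃ v ∈ W, v * v = z := by
    classical
    have hex : ∃ n : ℕ, w ^ 2 ^ n = 1 ∨ w ^ 2 ^ n = z := by
      obtain ⟨k, hk⟩ := h.pF ⟨w, hW hw⟩
      exact ⟨k, Or.inl (congrArg Subtype.val hk)⟩
    have h0 : Nat.find hex ≠ 0 := by
      intro h0
      have := Nat.find_spec hex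
      rw [h0, pow_zero, pow_one] at this
      exact hwz this
    obtain ⟨m, hm⟩ := Nat.exists_eq_succ_of_ne_zero h0
    have h1 := Nat.find_spec hex
    rw [hm, Nat.succ_eq_add_one, pow_succ, pow_mul, pow_two] at h1
    have h2 := Nat.find_min hex (m := m) (by omega)
    have h3 : w ^ 2 ^ m ∈ W := W.pow_mem hw _
    refine ⟨w ^ 2 ^ m, h3, ?_⟩
    rcases h1 with h1 | h1
    · exact absurd (hinv _ h3 h1) h2
    · exact h1
  have hcz : v * z = z * v := h.le v (hW hv)
  have huniq : ∀ u ∈ W, u * u = z → u = v ∨ u = v * z := by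
    intro u hu huz
    have h1 : v * u * (v * u) = 1 := by
      calc v * u * (v * u) = v * (u * v) * u := by group
        _ = v * v * (u * u) := by rw [hab u hu v hv]; group
        _ = 1 := by rw [hvz, huz, h.zz]
    have h2 : v⁻¹ = v * z := by
      rw [inv_eq_iff_mul_eq_one, ← mul_assoc, hvz, h.zz]
    rcases hinv _ (W.mul_mem hv hu) h1 with h3 | h3
    · right
      rw [← h2]
      exact (inv_eq_of_mul_eq_one_right h3).symm
    · left
      calc u = v⁻¹ * (v * u) := by group
        _ = v := by rw [h3, h2, mul_assoc, h.zz, mul_one]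
  have hsq : ∀ g, g * z = z * g → g * v * g⁻¹ * (g * v * g⁻¹) = z := by
    intro g hgz
    calc g * v * g⁻¹ * (g * v * g⁻¹) = g * (v * v) * g⁻¹ := by group
      _ = z := by rw [hvz, hgz]; group
  refine hg (lam_of_u h.zz h.z1 h.comm hcz
    (fun g hgz => huniq _ (hn g hgz v hv) (hsq g hgz)) ?_)
  rcases huniq _ (hn t h.comm v hv) (hsq t h.comm) with h1 | h1
  · exfalso
    rw [mul_inv_eq_iff_eq_mul] at h1
    rcases hfix _ hv h1.symm with h2 | h2
    · rw [h2, one_mul] at hvz
      exact h.z1 hvz.symm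
    · rw [h2, h.zz] at hvz
      exact h.z1 hvz.symm
  · exact h1

/-- conjugation by an element of `C(z)` on `F` -/
def conjEquiv (h : Base t z F) (g : G) (hg : g * z = z * g) : F ≃* F where
  toFun x := ⟨g * x * g⁻¹, h.nor g hg x x.2⟩
  invFun x := ⟨g⁻¹ * x * g, by
    have hg' : g⁻¹ * z = z * g⁻¹ := (Commute.inv_left (show Commute g z from hg)).eq
    have := h.nor g⁻¹ hg' x x.2
    rwa [inv_inv] at this⟩
  left_inv x := by
    apply Subtype.ext
    show g⁻¹ * (g * x * g⁻¹) * g = x
    group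
  right_inv x := by
    apply Subtype.ext
    show g * (g⁻¹ * x * g) * g⁻¹ = x
    group
  map_mul' x y := by
    apply Subtype.ext
    show g * (x * y) * g⁻¹ = g * x * g⁻¹ * (g * y * g⁻¹)
    group

/-- If the abelian subgroups of `F` normal in `H` are contained in `⟨z⟩`, then `F` is extraspecial with centre
`⟨z⟩`. -/
theorem large [Finite G] (h : Base t z F)
    (hab : ∀ W : Subgroup G, W ≤ F → (∀ a ∈ W, ∀ b ∈ W, a * b = b * a) →
      (∀ g, g * z = z * g → ∀ w ∈ W, g * w * g⁻¹ ∈ W) → ∀ w ∈ W, w = 1 ∨ w = z) : Large F z := by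
  obtain ⟨C, hC, hfr, hcm, hcc⟩ := Cfsg.Agent.S0093.result h.pF
  set z' : F := ⟨z, h.z_mem⟩ with hz'
  have hZ : ∀ x : F, x ∈ C → (∀ c ∈ C, x * c = c * x) → x = 1 ∨ x = z' := by
    have hW : ∀ w ∈ (C ⊓ centralizer (C : Set F)).map F.subtype, w = 1 ∨ w = z := by
      intro w hw
      refine hab _ ?_ ?_ ?_ w hw
      · rintro _ ⟨x, -, rfl⟩
        exact x.2
      · rintro _ ⟨x, hx, rfl⟩ _ ⟨y, hy, rfl⟩
        exact congrArg Subtype.val ((mem_centralizer_iff.1 hy.2 x hx.1))
      · rintro g hgz _ ⟨x, hx, rfl⟩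
        refine ⟨h.conjEquiv g hgz x, ⟨?_, ?_⟩, rfl⟩
        · have := hC.fixed (h.conjEquiv g hgz)
          have h2 : x ∈ C.comap (h.conjEquiv g hgz).toMonoidHom := by rw [this]; exact hx.1
          exact h2
        · refine mem_centralizer_iff.2 ?_
          intro c hc
          have := hC.fixed (h.conjEquiv g hgz).symm
          have h2 : c ∈ C.comap (h.conjEquiv g hgz).symm.toMonoidHom := by rw [this]; exact hc
          have h3 : (h.conjEquiv g hgz).symm c ∈ C := h2
          have h4 := mem_centralizer_iff.1 hx.2 _ h3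
          have h5 := congrArg (h.conjEquiv g hgz) h4
          rw [map_mul, map_mul, MulEquiv.apply_symm_apply] at h5
          exact h5
    intro x hx hxc
    rcases hW x ⟨x, ⟨hx, mem_centralizer_iff.2 fun c hc => (hxc c hc).symm⟩, rfl⟩ with h1 | h1
    · exact Or.inl (Subtype.ext h1)
    · exact Or.inr (Subtype.ext h1)
  have hZ' : ∀ x ∈ C ⊓ centralizer (C : Set F), x = 1 ∨ x = z' := fun x hx =>
    hZ x hx.1 fun c hc => (mem_centralizer_iff.1 hx.2 c hc).symm
  have hcomm : ∀ x : F, ∀ y ∈ C, x * y = y * x ∨ x * y = y * x * z' := by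
    intro x y hy
    have h1 : y⁻¹ * x⁻¹ * y * x ∈ ⁅C, (⊤ : Subgroup F)⁆ := by
      have := commutator_mem_commutator (C.inv_mem hy) (mem_top (x⁻¹ : F))
      rw [commutatorElement_def, inv_inv, inv_inv] at this
      exact this
    have h2 : x⁻¹ * y⁻¹ * x * y ∈ C ⊓ centralizer (C : Set F) := by
      have := hcm (inv_mem h1)
      simpa [mul_assoc] using this
    rcases hZ' _ h2 with h3 | h3
    · left
      calc x * y = y * x * (x⁻¹ * y⁻¹ * x * y) := by group
        _ = y * x := by rw [h3, mul_one]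
    · right
      calc x * y = y * x * (x⁻¹ * y⁻¹ * x * y) := by group
        _ = y * x * z' := by rw [h3]
  have hsq : ∀ x ∈ C, x * x = 1 ∨ x * x = z' := by
    intro x hx
    have h1 := Cfsg.Agent.Lib.FrattiniPGroup.pow_mem_frattini (h.pF.to_subgroup C) (⟨x, hx⟩ : C)
    have h2 : x * x ∈ centralizer (C : Set F) := by
      apply hfr
      refine ⟨_, h1, ?_⟩
      show x ^ 2 = x * x
      exact pow_two x
    exact hZ' _ ⟨C.mul_mem hx hx, h2⟩
  have hz'c : ∀ x : F, x * z' = z' * x := fun x => Subtype.ext (h.le x x.2)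
  have hn : C.Normal := by infer_instance
  have hL : Large (G := F) C z' :=
    { z_mem := hcc (mem_centralizer_iff.2 fun c _ => hz'c c)
      z_ne := fun h1 => h.z1 (congrArg Subtype.val h1)
      z_sq := Subtype.ext h.zz
      comm_z := fun x _ => hz'c x
      conj_mem := fun g _ x hx => hn.conj_mem x hx g
      sq := hsq
      comm := fun x _ y hy => hcomm x y hy
      cent := hZ
      self := fun g _ hx => hcc (mem_centralizer_iff.2 fun c hc => (hx c hc).symm) }
  have hall : ∀ x : F, x ∈ C := by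
    intro x
    refine hL.mem_of_act ⟨x, mem_centralizer_singleton_iff.2 (hz'c x)⟩ ?_
    ext v
    obtain ⟨c, rfl⟩ := hL.pr_surjective v
    rw [hL.act_pr]
    show _ = hL.pr c
    rw [hL.pr_eq_pr, hL.conjQ_coe]
    show x * c * x⁻¹ = c ∨ x * c * x⁻¹ = c * z'
    rcases hcomm x c c.2 with h1 | h1
    · left; rw [h1]; group
    · right
      rw [h1]
      calc (c : F) * x * z' * x⁻¹ = c * (x * z') * x⁻¹ := by group
        _ = c * z' := by rw [hz'c]; group
  exact
    { z_mem := h.z_mem
      z_ne := h.z1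
      z_sq := h.zz
      comm_z := h.le
      conj_mem := h.nor
      sq := fun x hx => by
        rcases hsq ⟨x, hx⟩ (hall _) with h1 | h1
        · exact Or.inl (congrArg Subtype.val h1)
        · exact Or.inr (congrArg Subtype.val h1)
      comm := fun x hx y hy => by
        rcases hcomm ⟨x, hx⟩ ⟨y, hy⟩ (hall _) with h1 | h1
        · exact Or.inl (congrArg Subtype.val h1)
        · exact Or.inr (congrArg Subtype.val h1)
      cent := fun x hx hc => by
        rcases hZ ⟨x, hx⟩ (hall _) (fun c _ => Subtype.ext (hc c c.2)) with h1 | h1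
        · exact Or.inl (congrArg Subtype.val h1)
        · exact Or.inr (congrArg Subtype.val h1)
      self := h.self }

end Base

/-- The hypotheses of `exists_lam`; `N` is a group of elements of `C_G(z)` mapping `t` to `t` or `t z`, e.g.
`C_G(⟨t, z⟩)` or the stabiliser of `{t, t z}`. -/
structure Hyp (t z : G) (N F : Subgroup G) : Prop extends Base t z F where
  hN : ∀ n ∈ N, n * z = z * n ∧ (n * t * n⁻¹ = t ∨ n * t * n⁻¹ = t * z)
  tF : t ∉ F
  /-- abelian subgroups of `C_F(t)` normalised by `N` are contained in `⟨z⟩` -/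
  ab : ∀ B : Subgroup G, B ≤ F → (∀ b ∈ B, b * t = t * b) → (∀ a ∈ B, ∀ b ∈ B, a * b = b * a) →
    (∀ n ∈ N, ∀ b ∈ B, n * b * n⁻¹ ∈ B) → ∀ b ∈ B, b = 1 ∨ b = z

namespace Hyp

variable {t z : G} {N F : Subgroup G}

/-- `N` normalises `C_F(t)` -/
theorem fix_conj (h : Hyp t z N F) {n b : G} (hn : n ∈ N) (hb : b ∈ F) (hbt : b * t = t * b) :
    n * b * n⁻¹ * t = t * (n * b * n⁻¹) := by
  obtain ⟨hnz, hnt⟩ := h.hN n hn
  have hc : Commute b t := hbt
  have hcz : Commute (n * b * n⁻¹) z := h.le _ (h.nor n hnz b hb)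
  have h1 : n * b * n⁻¹ * (n * t * n⁻¹) = n * t * n⁻¹ * (n * b * n⁻¹) := by
    calc n * b * n⁻¹ * (n * t * n⁻¹) = n * (b * t) * n⁻¹ := by group
      _ = n * (t * b) * n⁻¹ := by rw [hc.eq]
      _ = n * t * n⁻¹ * (n * b * n⁻¹) := by group
  rcases hnt with h2 | h2
  · rw [h2] at h1; exact h1
  · rw [h2] at h1
    have h3 : Commute (n * b * n⁻¹) (t * z) := h1
    have h4 : Commute (n * b * n⁻¹) (t * z * z) := h3.mul_right hcz
    have h5 : t * z * z = t := by rw [mul_assoc, h.zz, mul_one]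
    rw [h5] at h4
    exact h4

/-- the `t`-fixed elements of an abelian normal subgroup -/
theorem fixed (h : Hyp t z N F) {W : Subgroup G} (hW : W ≤ F) (hab : ∀ a ∈ W, ∀ b ∈ W, a * b = b * a)
    (hn : ∀ g, g * z = z * g → ∀ w ∈ W, g * w * g⁻¹ ∈ W) {w : G} (hw : w ∈ W) (hwt : w * t = t * w) :
    w = 1 ∨ w = z := by
  refine h.ab (W ⊓ centralizer ({t} : Set G)) (fun x hx => hW hx.1)
    (fun b hb => mem_centralizer_singleton_iff.1 hb.2) (fun a ha b hb => hab a ha.1 b hb.1) ?_ w
    ⟨hw, mem_centralizer_singleton_iff.2 hwt⟩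
  rintro n hnN b ⟨hb1, hb2⟩
  exact ⟨hn n (h.hN n hnN).1 b hb1, mem_centralizer_singleton_iff.2
    (h.fix_conj hnN (hW hb1) (mem_centralizer_singleton_iff.1 hb2))⟩

end Hyp

/-- An involution outside `Q` with nondegenerate centraliser in `Q` is a reflection. -/
theorem dick_of_nondeg {Q : Subgroup G} {z : G} [Finite Q] (h : Large Q z) (t : centralizer ({z} : Set G))
    (tt : (t : G) * t = 1) (ht : (t : G) ∉ Q)
    (hX : ∀ x ∈ Q, x * (t : G) = t * x → (∀ y ∈ Q, y * (t : G) = t * y → x * y = y * x) → x = 1 ∨ x = z) :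
    dick h t = -1 := by
  have hff : ∀ v, h.act t (h.act t v) = v := by
    intro v
    have h1 : h.act (t * t) v = v := by
      have : t * t = 1 := Subtype.ext tt
      rw [this, map_one]; rfl
    rw [map_mul] at h1
    exact h1
  -- fixed elements
  have hfix : ∀ x : Q, (x : G) * t = t * x → h.act t (h.pr x) = h.pr x := by
    intro x hx
    rw [h.act_pr, h.pr_eq_pr, h.conjQ_coe]
    left
    rw [← hx]; group
  have hcases : ∀ x : Q, h.act t (h.pr x) = h.pr x → (x : G) * t = t * x ∨ (t : G) * x = x * z * t := by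
    intro x hx
    rw [h.act_pr, h.pr_eq_pr, h.conjQ_coe] at hx
    rcases hx with h1 | h1
    · left
      rw [mul_inv_eq_iff_eq_mul] at h1
      exact h1.symm
    · right
      rw [mul_inv_eq_iff_eq_mul] at h1
      exact h1
  have hDfix : ∀ v, h.act t (h.act t v + v) = h.act t v + v := by
    intro v; rw [map_add, hff, add_comm]
  have hDperp : ∀ v, ∀ x : Q, (x : G) * t = t * x → h.b (h.act t v + v) (h.pr x) = 0 := by
    intro v x hx
    rw [map_add, LinearMap.add_apply]
    have h1 := h.b_act t v (h.pr x)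
    rw [hfix x hx] at h1
    rw [h1]
    rcases zmod_two (h.b v (h.pr x)) with h2 | h2 <;> rw [h2] <;> decide
  have hzero : ∀ x : Q, (x : G) * t = t * x → (∀ y : Q, (y : G) * t = t * y → h.b (h.pr x) (h.pr y) = 0) →
      h.pr x = 0 := by
    intro x hx hy
    rw [h.pr_eq_zero]
    exact hX x x.2 hx fun y hyQ hyt => (h.b_pr x ⟨y, hyQ⟩).1 (hy ⟨y, hyQ⟩ hyt)
  have hDeq : ∀ v w, h.act t v + v ≠ 0 → h.act t w + w ≠ 0 → h.act t v + v = h.act t w + w := by
    intro v w hv hw
    obtain ⟨x, hx⟩ := h.pr_surjective (h.act t v + v)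
    obtain ⟨y, hy⟩ := h.pr_surjective (h.act t w + w)
    have hx1 : h.act t (h.pr x) = h.pr x := by rw [hx]; exact hDfix v
    have hy1 : h.act t (h.pr y) = h.pr y := by rw [hy]; exact hDfix w
    have hx2 : (t : G) * x = x * z * t := by
      rcases hcases x hx1 with h1 | h1
      · exfalso; apply hv; rw [← hx]
        exact hzero x h1 fun y hy => by rw [hx]; exact hDperp v y hy
      · exact h1
    have hy2 : (t : G) * y = y * z * t := by
      rcases hcases y hy1 with h1 | h1
      · exfalso; apply hw; rw [← hy]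
        exact hzero y h1 fun x hx => by rw [hy]; exact hDperp w x hx
      · exact h1
    have hxy : ((x * y : Q) : G) * t = t * ((x * y : Q) : G) := by
      have hyz : (y : G) * z = z * y := h.comm_z y y.2
      have e : (t : G) * (x * y) = x * y * t := by
        calc (t : G) * (x * y) = t * x * y := by group
          _ = x * z * (t * y) := by rw [hx2]; group
          _ = x * (z * y) * z * t := by rw [hy2]; group
          _ = x * y * (z * z) * t := by rw [← hyz]; group
          _ = x * y * t := by rw [h.z_sq]; group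
      exact e.symm
    have h0 : h.pr (x * y) = 0 := by
      refine hzero (x * y) hxy fun u hu => ?_
      rw [h.pr_mul, map_add, LinearMap.add_apply, hx, hy, hDperp v u hu, hDperp w u hu, add_zero]
    rw [h.pr_mul, hx, hy] at h0
    calc h.act t v + v = h.act t v + v + ((h.act t w + w) + (h.act t w + w)) := by
          rw [h.add_self (h.act t w + w), add_zero]
      _ = h.act t w + w := by rw [← add_assoc, h0, zero_add]
  obtain ⟨v0, hv0⟩ : ∃ v, h.act t v + v ≠ 0 := by
    by_contra hcon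
    push Not at hcon
    apply ht
    apply h.mem_of_act t
    ext v
    show h.act t v = v
    calc h.act t v = h.act t v + (v + v) := by rw [h.add_self, add_zero]
      _ = v := by rw [← add_assoc, hcon, zero_add]
  set a := h.act t v0 + v0 with ha
  have hcases2 : ∀ w, h.act t w + w = 0 ∨ h.act t w + w = a := by
    intro w
    by_cases hw : h.act t w + w = 0
    · exact Or.inl hw
    · exact Or.inr (hDeq w v0 hw hv0)
  have hperp : ∀ v, h.b a v = 0 → h.act t v = v := by
    intro v hv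
    have h1 : h.act t v + v = 0 := by
      apply h.b_nondeg
      intro w
      have h2 : h.b (h.act t v + v) w = h.b v (h.act t w + w) := by
        rw [map_add, LinearMap.add_apply, map_add]
        congr 1
        have := h.b_act t v (h.act t w)
        rw [hff] at this
        exact this
      rw [h2]
      rcases hcases2 w with h3 | h3
      · rw [h3, map_zero]
      · rw [h3, h.b_comm]; exact hv
    calc h.act t v = h.act t v + (v + v) := by rw [h.add_self, add_zero]
      _ = v := by rw [← add_assoc, h1, zero_add]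
  rcases eq_or_refl_of_fix_perp h (h.act t) (h.b_act t) hperp with h1 | h1
  · exact absurd (h.mem_of_act t h1) ht
  · exact dick_refl h hv0 h1

/-- **The homomorphism**: see the header. -/
theorem exists_lam [Finite G] {t z : G} {N F : Subgroup G} (h : Hyp t z N F) :
    ∃ lam : centralizer ({z} : Set G) →* ℤˣ, lam ⟨t, mem_centralizer_singleton_iff.2 h.comm⟩ = -1 := by
  by_contra hg
  have hL : Large F z := h.toBase.large fun W hW hab hn w hw =>
    h.toBase.abel hg hW hab hn (fun w hw hwt => h.fixed hW hab hn hw hwt) hw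
  apply hg
  refine ⟨dick hL, dick_of_nondeg hL _ h.tt h.tF ?_⟩
  intro x hx hxt hxc
  set X : Subgroup G := F ⊓ centralizer ({t} : Set G) with hX
  have hmX : ∀ c, c ∈ X ↔ c ∈ F ∧ c * t = t * c := fun c => by
    rw [hX, mem_inf, mem_centralizer_singleton_iff]
  refine h.ab (X ⊓ centralizer (X : Set G)) (fun y hy => ((hmX y).1 hy.1).1)
    (fun b hb => ((hmX b).1 hb.1).2) ?_ ?_ x ?_
  · intro a ha b hb
    exact mem_centralizer_iff.1 hb.2 a ha.1
  · intro n hn b hb
    have key : ∀ m ∈ N, ∀ c ∈ X, m * c * m⁻¹ ∈ X := by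
      intro m hm c hc
      obtain ⟨hc1, hc2⟩ := (hmX c).1 hc
      exact (hmX _).2 ⟨h.nor m (h.hN m hm).1 c hc1, h.fix_conj hm hc1 hc2⟩
    refine ⟨key n hn b hb.1, mem_centralizer_iff.2 ?_⟩
    intro c hc
    have h3 := key n⁻¹ (N.inv_mem hn) c hc
    rw [inv_inv] at h3
    have h4 := mem_centralizer_iff.1 hb.2 _ h3
    calc c * (n * b * n⁻¹) = n * ((n⁻¹ * c * n) * b) * n⁻¹ := by group
      _ = n * (b * (n⁻¹ * c * n)) * n⁻¹ := by rw [h4]
      _ = n * b * n⁻¹ * c := by group
  · refine ⟨(hmX x).2 ⟨hx, hxt⟩, mem_centralizer_iff.2 fun y hy => ?_⟩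
    obtain ⟨hy1, hy2⟩ := (hmX y).1 hy
    exact (hxc y hy1 hy2).symm

end Cfsg.Agent.OddHalf.D8.Lam
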