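import Mathlib
import Cfsg.Prelude.Def_Transfer
import Cfsg.Agent.S0093
import Cfsg.Agent.ClassificationK.Extraspecial
import Cfsg.Agent.Lib.FrattiniPGroup

/-!
# A 2-group whose characteristic abelian subgroups have order at most 2 (helper826)

`extraspecial`: such a group is extraspecial or of order at most 2.
-/

set_option autoImplicit false

namespace Cfsg.Agent.OddHalf.D8.CharAb

open Subgroup
open scoped commutatorElement

/-- a characteristic subgroup of a characteristic subgroup is characteristic -/
theorem char_map {X : Type*} [Group X] {H : Subgroup X} (hH : H.Characteristic) {A : Subgroup H}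
    (hA : A.Characteristic) : (A.map H.subtype).Characteristic := by
  rw [characteristic_iff_map_le]
  rintro φ _ ⟨_, ⟨a, ha, rfl⟩, rfl⟩
  have hφ : H.map φ.toMonoidHom = H := characteristic_iff_map_eq.1 hH φ
  have hmem : ∀ y : X, y ∈ H ↔ φ y ∈ H := by
    intro y
    conv_rhs => rw [← hφ]
    exact ⟨fun h => ⟨y, h, rfl⟩, fun ⟨w, hw, h⟩ => by
      have : w = y := φ.injective h
      rwa [← this]⟩
  let ψ : H ≃* H :=
    { toFun := fun y => ⟨φ y, (hmem y).1 y.2⟩
      invFun := fun y => ⟨φ.symm y, (hmem _).2 (by rw [MulEquiv.apply_symm_apply]; exact y.2)⟩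
      left_inv := fun y => Subtype.ext (by simp)
      right_inv := fun y => Subtype.ext (by simp)
      map_mul' := fun y w => Subtype.ext (by simp) }
  have h1 : ψ a ∈ A := by
    have h2 := characteristic_iff_map_le.1 hA ψ
    exact h2 ⟨a, ha, rfl⟩
  exact ⟨ψ a, h1, rfl⟩

variable {X : Type*} [Group X]

/-- **A non-abelian 2-group whose characteristic abelian subgroups lie in `{1, z}` is extraspecial.** -/
theorem extraspecial [Finite X] (hp : IsPGroup 2 X) {z : X}
    (h : ∀ A : Subgroup X, A.Characteristic → (∀ a ∈ A, ∀ b ∈ A, a * b = b * a) → ∀ a ∈ A, a = 1 ∨ a = z)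
    (hna : ∃ a b : X, a * b ≠ b * a) : Cfsg.IsExtraspecial 2 X := by
  have hfact : Fact (Nat.Prime 2) := ⟨Nat.prime_two⟩
  obtain ⟨H, hHc, hfr, hcm, hCH⟩ := Cfsg.Agent.S0093.aux (p := 2) hp
  have hHn : H.Normal := inferInstance
  -- the centre of `H`
  have hZc : (centralizer (H : Set X)).Characteristic := inferInstance
  have hZ : ∀ a ∈ centralizer (H : Set X), a = 1 ∨ a = z := by
    apply h _ hZc
    intro a ha b hb
    exact (mem_centralizer_iff.1 hb a (hCH ha))
  -- the centre of `X`
  have hcen : ∀ a ∈ center X, a = 1 ∨ a = z := fun a ha => hZ a (fun y _ => (mem_center_iff.1 ha y))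
  have hnt : Nontrivial X := by
    obtain ⟨a, b, hab⟩ := hna
    refine ⟨⟨a, 1, ?_⟩⟩
    rintro rfl
    exact hab (by rw [one_mul, mul_one])
  have hzcen : z ∈ center X ∧ z ≠ 1 := by
    have h1 : Nontrivial (center X) := hp.center_nontrivial
    obtain ⟨⟨c, hc⟩, hc1⟩ := exists_ne (1 : center X)
    have hc1' : c ≠ 1 := fun h => hc1 (Subtype.ext h)
    rcases hcen c hc with h2 | h2
    · exact absurd h2 hc1'
    · rw [← h2]; exact ⟨hc, hc1'⟩
  have hzH : z ∈ H := hCH (fun y _ => (mem_center_iff.1 hzcen.1 y))
  have hz2 : z * z = 1 := by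
    rcases hcen (z * z) (mul_mem hzcen.1 hzcen.1) with h1 | h1
    · exact h1
    · exact absurd (mul_eq_left.1 h1) hzcen.2
  have hcomm : ∀ x : X, ∀ y ∈ H, ⁅y, x⁆ = 1 ∨ ⁅y, x⁆ = z := by
    intro x y hy
    apply hZ
    exact (hcm (commutator_mem_commutator hy (mem_top x))).2
  have hcenH : ∀ a : H, a ∈ center H ↔ (a : X) = 1 ∨ (a : X) = z := by
    intro a
    constructor
    · intro ha
      apply hZ
      intro y hy
      exact congrArg Subtype.val (mem_center_iff.1 ha ⟨y, hy⟩)
    · intro ha
      rw [mem_center_iff]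
      intro y
      apply Subtype.ext
      rw [coe_mul, coe_mul]
      rcases ha with ha | ha
      · rw [ha, mul_one, one_mul]
      · rw [ha]; exact mem_center_iff.1 hzcen.1 y
  have hHna : ∃ a b : H, a * b ≠ b * a := by
    by_contra hcon
    push Not at hcon
    have h1 : ∀ a ∈ H, a = 1 ∨ a = z := by
      intro a ha
      apply hZ
      intro y hy
      exact congrArg Subtype.val (hcon ⟨y, hy⟩ ⟨a, ha⟩)
    have h2 : centralizer (H : Set X) = ⊤ := by
      rw [eq_top_iff]
      intro x _ y hy
      rcases h1 y hy with h3 | h3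
      · rw [h3, one_mul, mul_one]
      · rw [h3]; exact (mem_center_iff.1 hzcen.1 x).symm
    obtain ⟨a, b, hab⟩ := hna
    have h3 : ∀ x : X, x = 1 ∨ x = z := fun x => h1 x (hCH (by rw [h2]; exact mem_top x))
    apply hab
    rcases h3 a with h4 | h4
    · rw [h4, one_mul, mul_one]
    · rw [h4]; exact (mem_center_iff.1 hzcen.1 b).symm
  have hccard : Nat.card (center H) = 2 := by
    have h1 : ((center H : Subgroup H) : Set H) = {1, ⟨z, hzH⟩} := by
      ext c
      rw [SetLike.mem_coe, hcenH, Set.mem_insert_iff, Set.mem_singleton_iff]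
      exact or_congr ⟨fun h => Subtype.ext h, fun h => congrArg Subtype.val h⟩
        ⟨fun h => Subtype.ext h, fun h => congrArg Subtype.val h⟩
    have h2 : Nat.card (center H) = ((center H : Subgroup H) : Set H).ncard := rfl
    rw [h2, h1, Set.ncard_pair (fun h => hzcen.2 (congrArg Subtype.val h).symm)]
  have hcmH : commutator H = center H := by
    apply le_antisymm
    · rw [_root_.commutator_def, commutator_le]
      intro x _ y _
      rw [hcenH]
      have h1 := hcomm (y : X) x x.2
      exact h1
    · have h1 : (⟨z, hzH⟩ : H) ∈ commutator H := by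
        obtain ⟨a, b, hab⟩ := hHna
        have h1 : ⁅a, b⁆ = ⟨z, hzH⟩ := by
          apply Subtype.ext
          rcases hcomm (b : X) a a.2 with h2 | h2
          · exfalso
            apply hab
            rw [← commutatorElement_eq_one_iff_mul_comm]
            exact Subtype.ext h2
          · exact h2
        rw [← h1, _root_.commutator_def]
        exact commutator_mem_commutator (mem_top _) (mem_top _)
      intro c hc
      rcases (hcenH c).1 hc with h2 | h2
      · have : c = 1 := Subtype.ext h2
        rw [this]; exact one_mem _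
      · have : c = ⟨z, hzH⟩ := Subtype.ext h2
        rw [this]; exact h1
  -- `X = H`
  have htop : ∀ x : X, x ∈ H := by
    intro x
    let σ : H →* H := (MulAut.conjNormal x : H ≃* H).toMonoidHom
    have hσ : ∀ q : H, ((σ q : H) : X) = x * q * x⁻¹ := fun q => MulAut.conjNormal_apply x q
    obtain ⟨y, hy⟩ := Cfsg.Agent.ClassificationK.Extraspecial.exists_inner hcmH Nat.prime_two hccard σ (by
      intro q
      rw [hcenH, coe_mul, hσ, coe_inv]
      have h1 := hcomm x (q : X) q.2
      have h2 : x * (q : X) * x⁻¹ * (q : X)⁻¹ = ⁅(q : X), x⁆⁻¹ := by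
        rw [commutatorElement_def]; group
      rw [h2]
      rcases h1 with h3 | h3
      · left; rw [h3, inv_one]
      · right; rw [h3]; exact inv_eq_of_mul_eq_one_left hz2)
    have h1 : (y : X)⁻¹ * x ∈ centralizer (H : Set X) := by
      rw [mem_centralizer_iff]
      intro q hq
      have h2 := congrArg Subtype.val (hy ⟨q, hq⟩)
      rw [hσ] at h2
      have h3 : x * q * x⁻¹ = y * q * (y : X)⁻¹ := h2
      calc q * ((y : X)⁻¹ * x) = (y : X)⁻¹ * (y * q * (y : X)⁻¹) * x := by group
        _ = (y : X)⁻¹ * (x * q * x⁻¹) * x := by rw [h3]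
        _ = (y : X)⁻¹ * x * q := by group
    have h2 := mul_mem y.2 (hCH h1)
    rwa [mul_inv_cancel_left] at h2
  -- transport
  have hcenX : ∀ a : X, a ∈ center X ↔ a = 1 ∨ a = z :=
    fun a => ⟨hcen a, fun ha => by
      rcases ha with h1 | h1
      · rw [h1]; exact one_mem _
      · rw [h1]; exact hzcen.1⟩
  have hcmX : ∀ x y : X, ⁅x, y⁆ ∈ center X := fun x y => (hcenX _).2 (hcomm y x (htop x))
  -- squares
  have hsq : ∀ x : X, x ^ 2 ∈ center X := by
    intro x
    rw [mem_center_iff]
    intro y
    have h1 : Commute ⁅x, y⁆ x := (mem_center_iff.1 (hcmX x y) x).symm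
    have h2 : ⁅x ^ 2, y⁆ = ⁅x, y⁆ * ⁅x, y⁆ := by
      have e : ⁅x ^ 2, y⁆ = x * ⁅x, y⁆ * x⁻¹ * ⁅x, y⁆ := by
        rw [commutatorElement_def, commutatorElement_def, pow_two]; group
      rw [e, h1.symm.eq, mul_inv_cancel_right]
    have h3 : ⁅x ^ 2, y⁆ = 1 := by
      rw [h2]
      rcases hcomm y x (htop x) with h4 | h4
      · rw [h4, one_mul]
      · rw [h4, hz2]
    exact (commutatorElement_eq_one_iff_mul_comm.1 h3).symm
  have hcle : center X ≤ commutator X := by
    intro c hc
    obtain ⟨a, b, hab⟩ := hna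
    have h1 : ⁅a, b⁆ = z := by
      rcases hcomm b a (htop a) with h2 | h2
      · exact absurd (commutatorElement_eq_one_iff_mul_comm.1 h2) hab
      · exact h2
    rcases (hcenX c).1 hc with h2 | h2
    · rw [h2]; exact one_mem _
    · rw [h2, ← h1, _root_.commutator_def]
      exact commutator_mem_commutator (mem_top _) (mem_top _)
  have hcm2 : commutator X = center X := by
    apply le_antisymm _ hcle
    rw [_root_.commutator_def, commutator_le]
    intro x _ y _
    exact hcmX x y
  refine ⟨⟨hp, ?_, hcm2⟩, ?_⟩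
  · apply le_antisymm
    · exact Cfsg.Agent.Lib.FrattiniPGroup.frattini_le (p := 2) (center X) hcmX hsq
    · rw [← hcm2]
      exact Cfsg.Agent.Lib.FrattiniPGroup.commutator_le_frattini hp
  · have h1 : ((center X : Subgroup X) : Set X) = {1, z} := by
      ext c
      exact hcenX c
    have h2 : Nat.card (center X) = ((center X : Subgroup X) : Set X).ncard := rfl
    rw [h2, h1, Set.ncard_pair hzcen.2.symm]

end Cfsg.Agent.OddHalf.D8.CharAb
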