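import Mathlib
import Cfsg.Agent.StdSpSix.TR

/-!
# ODD half, D8: the wreath lemma (helper957)

`t` an involution, `K ≤ C_G(t)`, `E` a subgroup with `[E, Eᵗ] = 1` and `K = {u uᵗ : u ∈ E}`.
If `C_G(t) = ⟨t⟩ K`, then `t` lies outside a subgroup of index 2 of `G`.
-/

set_option autoImplicit false

namespace Cfsg.Agent.OddHalf.D8.Wreath

open Subgroup

variable {G : Type*} [Group G]

/-- the configuration: `E` commutes with its `t`-conjugate, `K` is the diagonal -/
structure Wr (t : G) (K E : Subgroup G) : Prop where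
  tt : t * t = 1
  comm : ∀ u ∈ E, ∀ v ∈ E, u * (t * v * t) = t * v * t * u
  diag : ∀ u ∈ E, u * (t * u * t) ∈ K
  surj : ∀ k ∈ K, ∃ u ∈ E, u * (t * u * t) = k
  /-- `C_{C(t)}(K) = ⟨t⟩` -/
  cen : ∀ g : G, g * t = t * g → (∀ k ∈ K, g * k = k * g) → g = 1 ∨ g = t
  nab : ∃ a ∈ K, ∃ b ∈ K, a * b ≠ b * a

namespace Wr

variable {t : G} {K E : Subgroup G}

theorem conj_mul (h : Wr t K E) (u v : G) : t * (u * v) * t = t * u * t * (t * v * t) := by
  calc t * (u * v) * t = t * u * 1 * v * t := by group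
    _ = t * u * (t * t) * v * t := by rw [h.tt]
    _ = t * u * t * (t * v * t) := by group

theorem conj_conj (h : Wr t K E) (u : G) : t * (t * u * t) * t = u := by
  calc t * (t * u * t) * t = t * t * u * (t * t) := by group
    _ = u := by rw [h.tt, one_mul, mul_one]

theorem conj_inv (h : Wr t K E) (u : G) : (t * u * t)⁻¹ = t * u⁻¹ * t := by
  have ht : t⁻¹ = t := inv_eq_of_mul_eq_one_right h.tt
  rw [mul_inv_rev, mul_inv_rev, ht, mul_assoc]

/-- the elements of `E Eᵗ` -/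
def E2 (h : Wr t K E) : Subgroup G where
  carrier := {g | ∃ u ∈ E, ∃ v ∈ E, g = u * (t * v * t)}
  one_mem' := ⟨1, one_mem _, 1, one_mem _, by rw [mul_one, h.tt, mul_one]⟩
  mul_mem' := by
    rintro _ _ ⟨u, hu, v, hv, rfl⟩ ⟨u', hu', v', hv', rfl⟩
    refine ⟨u * u', mul_mem hu hu', v * v', mul_mem hv hv', ?_⟩
    rw [h.conj_mul]
    calc u * (t * v * t) * (u' * (t * v' * t)) = u * (t * v * t * u') * (t * v' * t) := by group
      _ = u * (u' * (t * v * t)) * (t * v' * t) := by rw [h.comm u' hu' v hv]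
      _ = u * u' * (t * v * t * (t * v' * t)) := by group
  inv_mem' := by
    rintro _ ⟨u, hu, v, hv, rfl⟩
    refine ⟨u⁻¹, inv_mem hu, v⁻¹, inv_mem hv, ?_⟩
    rw [mul_inv_rev, h.conj_inv, h.comm _ (inv_mem hu) _ (inv_mem hv)]

theorem mem_E2 (h : Wr t K E) {g : G} : g ∈ h.E2 ↔ ∃ u ∈ E, ∃ v ∈ E, g = u * (t * v * t) := Iff.rfl

theorem le_E2 (h : Wr t K E) : E ≤ h.E2 := fun u hu =>
  ⟨u, hu, 1, one_mem _, by rw [mul_one, h.tt, mul_one]⟩

theorem conj_mem_E2 (h : Wr t K E) {v : G} (hv : v ∈ E) : t * v * t ∈ h.E2 :=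
  ⟨1, one_mem _, v, hv, by rw [one_mul]⟩

theorem K_le (h : Wr t K E) : K ≤ h.E2 := by
  intro k hk
  obtain ⟨u, hu, rfl⟩ := h.surj k hk
  exact ⟨u, hu, u, hu, rfl⟩

theorem conj_E2 (h : Wr t K E) {g : G} (hg : g ∈ h.E2) : t * g * t ∈ h.E2 := by
  obtain ⟨u, hu, v, hv, rfl⟩ := hg
  refine ⟨v, hv, u, hu, ?_⟩
  rw [h.conj_mul, h.conj_conj, h.comm v hv u hu]

/-- `K` centralises `t` -/
theorem K_comm (h : Wr t K E) {k : G} (hk : k ∈ K) : k * t = t * k := by
  obtain ⟨u, hu, rfl⟩ := h.surj k hk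
  have h1 := h.comm u hu u hu
  calc u * (t * u * t) * t = t * u * t * u * t := by rw [h1]
    _ = t * (u * (t * u * t)) := by group

/-- an element of `E ∩ Eᵗ` commutes with `E Eᵗ` -/
theorem comm_of_mem (h : Wr t K E) {v : G} (hv : v ∈ E) (hv' : t * v * t ∈ E) {g : G}
    (hg : g ∈ h.E2) : v * g = g * v := by
  obtain ⟨a, ha, b, hb, rfl⟩ := hg
  have h1 : a * v = v * a := by
    have := h.comm a ha _ hv'
    rwa [h.conj_conj] at this
  have h2 := h.comm v hv b hb
  calc v * (a * (t * b * t)) = v * a * (t * b * t) := by group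
    _ = a * v * (t * b * t) := by rw [h1]
    _ = a * (v * (t * b * t)) := by group
    _ = a * (t * b * t * v) := by rw [h2]
    _ = a * (t * b * t) * v := by group

theorem t_nmem_E (h : Wr t K E) (hEt : ∀ u ∈ E, t * u * t ∈ E) : False := by
  obtain ⟨a, ha, b, hb, hab⟩ := h.nab
  apply hab
  obtain ⟨u, hu, rfl⟩ := h.surj a ha
  exact h.comm_of_mem (mul_mem hu (hEt u hu)) (by
    rw [h.conj_mul, h.conj_conj]
    exact mul_mem (hEt u hu) hu) (h.K_le hb)

/-- `t ∉ E Eᵗ` -/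
theorem t_nmem (h : Wr t K E) : t ∉ h.E2 := by
  rintro ⟨a, ha, b, hb, hab⟩
  apply h.t_nmem_E
  intro u hu
  have hti : t⁻¹ = t := inv_eq_of_mul_eq_one_right h.tt
  have h1 : t * u * t = a * u * a⁻¹ := by
    calc t * u * t = t * u * t⁻¹ := by rw [hti]
      _ = a * (t * b * t) * u * (a * (t * b * t))⁻¹ := by rw [← hab]
      _ = a * (t * b * t * u) * (t * b * t)⁻¹ * a⁻¹ := by group
      _ = a * (u * (t * b * t)) * (t * b * t)⁻¹ * a⁻¹ := by rw [h.comm u hu b hb]
      _ = a * u * a⁻¹ := by group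
  rw [h1]
  exact mul_mem (mul_mem ha hu) (inv_mem ha)

/-- an element of `E ∩ Eᵗ` fixed by `t` is trivial -/
theorem eq_one_of_fixed (h : Wr t K E) {v : G} (hv : v ∈ E) (hvt : t * v * t = v) : v = 1 := by
  have h1 : v * t = t * v := by
    calc v * t = t * v * t * t := by rw [hvt]
      _ = t * v * (t * t) := by group
      _ = t * v := by rw [h.tt, mul_one]
  rcases h.cen v h1 (fun k hk => h.comm_of_mem hv (by rw [hvt]; exact hv) (h.K_le hk)) with h2 | h2
  · exact h2
  · exact absurd (h2 ▸ h.le_E2 hv) h.t_nmem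

/-- an element of `E ∩ Eᵗ` is inverted by `t` -/
theorem inv_of_mem (h : Wr t K E) {v : G} (hv : v ∈ E) (hv' : t * v * t ∈ E) :
    t * v * t = v⁻¹ := by
  have hc : v * (t * v * t) = t * v * t * v := h.comm v hv v hv
  have h1 : v * (t * v * t) = 1 := by
    apply h.eq_one_of_fixed (mul_mem hv hv')
    rw [h.conj_mul, h.conj_conj, hc]
  exact (inv_eq_of_mul_eq_one_right h1).symm

/-- elements of `E ∩ Eᵗ` have odd order -/
theorem odd_of_mem [Finite G] (h : Wr t K E) {v : G} (hv : v ∈ E) (hv' : t * v * t ∈ E) :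
    Odd (orderOf v) := by
  rw [← Nat.not_even_iff_odd]
  rintro ⟨m, hm⟩
  have h0 : 0 < orderOf v := orderOf_pos v
  have hpow : ∀ n : ℕ, t * v ^ n * t = (v ^ n)⁻¹ := by
    intro n
    have h2 : t * v ^ n * t = (t * v * t) ^ n := by
      induction n with
      | zero => rw [pow_zero, pow_zero, mul_one, h.tt]
      | succ n ih => rw [pow_succ, h.conj_mul, ih, pow_succ]
    rw [h2, h.inv_of_mem hv hv', inv_pow]
  have h1 : v ^ m * v ^ m = 1 := by rw [← pow_add, ← hm, pow_orderOf_eq_one]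
  have h2 : (v ^ m)⁻¹ = v ^ m := inv_eq_of_mul_eq_one_right h1
  have h3 : v ^ m = 1 := h.eq_one_of_fixed (pow_mem hv m) (by rw [hpow, h2])
  have h4 := orderOf_dvd_of_pow_eq_one h3
  have h5 := Nat.le_of_dvd (by omega) h4
  omega

/-- **the involutions of `t E Eᵗ` are conjugate to `t` under `E Eᵗ`** -/
theorem exists_conj [Finite G] (h : Wr t K E) {g : G} (hg : t * g ∈ h.E2) (hgg : g * g = 1) :
    ∃ c ∈ h.E2, g = c * t * c⁻¹ := by
  have hti : t⁻¹ = t := inv_eq_of_mul_eq_one_right h.tt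
  obtain ⟨a, ha, b, hb, hab⟩ := hg
  have hg' : g = t * (a * (t * b * t)) := by
    rw [← hab, ← mul_assoc, h.tt, one_mul]
  -- `(t a bᵗ)² = 1` gives `(b a) (a b)ᵗ = 1`
  have h1 : b * a * (t * (a * b) * t) = 1 := by
    have h2 : g * g = t * (a * (t * b * t)) * (t * (a * (t * b * t))) := by rw [← hg']
    rw [hgg] at h2
    have h3 : t * (a * (t * b * t)) * (t * (a * (t * b * t))) =
        t * a * t * (b * a) * (t * b * t) := by
      calc t * (a * (t * b * t)) * (t * (a * (t * b * t)))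
          = t * a * t * b * (t * t) * a * (t * b * t) := by group
        _ = t * a * t * (b * a) * (t * b * t) := by rw [h.tt]; group
    rw [h3] at h2
    have h4 : t * a * t * (b * a) = b * a * (t * a * t) := by
      rw [h.comm _ (mul_mem hb ha) a ha]
    rw [h4] at h2
    rw [h.conj_mul, h2]
    group
  set v := b * a with hv
  have hvE : v ∈ E := mul_mem hb ha
  have h5 : t * v⁻¹ * t = a * b := by
    have : t * (a * b) * t = v⁻¹ := (inv_eq_of_mul_eq_one_right h1).symm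
    rw [← this, h.conj_conj]
  have hvt : t * v * t ∈ E := by
    have h6 : t * v * t = (a * b)⁻¹ := by
      rw [← h5, ← h.conj_inv, inv_inv]
    rw [h6]
    exact inv_mem (mul_mem ha hb)
  have h7 := h.inv_of_mem hvE hvt
  have h8 : a * b = v := by
    rw [← h5, ← h.conj_inv, h7, inv_inv]
  -- `b = v a⁻¹` and `v = w²`
  obtain ⟨j, hj⟩ := h.odd_of_mem hvE hvt
  set w := v ^ (j + 1) with hw
  have hww : w * w = v := by
    rw [hw, ← pow_add, show j + 1 + (j + 1) = (2 * j + 1) + 1 by ring, ← hj, pow_succ,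
      pow_orderOf_eq_one, one_mul]
  have hwE : w ∈ E := pow_mem hvE _
  have hpow : ∀ n : ℕ, t * v ^ n * t = (v ^ n)⁻¹ := by
    intro n
    have h2 : t * v ^ n * t = (t * v * t) ^ n := by
      induction n with
      | zero => rw [pow_zero, pow_zero, mul_one, h.tt]
      | succ n ih => rw [pow_succ, h.conj_mul, ih, pow_succ]
    rw [h2, h7, inv_pow]
  have hwt : t * w * t = w⁻¹ := hpow _
  have hwc : ∀ g ∈ h.E2, w * g = g * w := fun g hg =>
    h.comm_of_mem hwE (by rw [hwt]; exact inv_mem hwE) hg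
  have hb' : b = v * a⁻¹ := by rw [hv]; group
  -- take `c = a⁻¹ w`
  refine ⟨a⁻¹ * w, mul_mem (inv_mem (h.le_E2 ha)) (h.le_E2 hwE), ?_⟩
  have h9 : t * b * t = t * a⁻¹ * t * (w⁻¹ * w⁻¹) := by
    have : b = a⁻¹ * (w * w) := by
      rw [hb', hww]
      have := h.comm_of_mem hvE hvt (h.le_E2 (inv_mem ha))
      exact this
    rw [this, h.conj_mul, h.conj_mul, hwt]
  rw [hg', h9]
  have h10 := hwc _ (h.conj_mem_E2 (inv_mem ha))
  have h11 := hwc _ (h.le_E2 ha)
  have h12 : (a⁻¹ * w)⁻¹ = w⁻¹ * a := by group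
  have h13 : w * t = t * w⁻¹ := by
    rw [← hwt]
    calc w * t = t * t * w * t := by rw [h.tt, one_mul]
      _ = t * (t * w * t) := by group
  have h14 : a * (t * a⁻¹ * t) = t * a⁻¹ * t * a := h.comm a ha _ (inv_mem ha)
  have h15 : a⁻¹ * t = t * (t * a⁻¹ * t) := by
    calc a⁻¹ * t = t * t * a⁻¹ * t := by rw [h.tt, one_mul]
      _ = t * (t * a⁻¹ * t) := by group
  have h16 : w⁻¹ * w⁻¹ * a = a * (w⁻¹ * w⁻¹) := by
    have h17 : w⁻¹ * a = a * w⁻¹ := by
      calc w⁻¹ * a = w⁻¹ * (a * w) * w⁻¹ := by group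
        _ = w⁻¹ * (w * a) * w⁻¹ := by rw [h11]
        _ = a * w⁻¹ := by group
    calc w⁻¹ * w⁻¹ * a = w⁻¹ * (w⁻¹ * a) := by group
      _ = w⁻¹ * (a * w⁻¹) := by rw [h17]
      _ = w⁻¹ * a * w⁻¹ := by group
      _ = a * w⁻¹ * w⁻¹ := by rw [h17]
      _ = a * (w⁻¹ * w⁻¹) := by group
  calc t * (a * (t * a⁻¹ * t * (w⁻¹ * w⁻¹))) = t * (a * (t * a⁻¹ * t)) * (w⁻¹ * w⁻¹) := by group
    _ = t * (t * a⁻¹ * t * a) * (w⁻¹ * w⁻¹) := by rw [h14]
    _ = t * (t * a⁻¹ * t) * (a * (w⁻¹ * w⁻¹)) := by group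
    _ = a⁻¹ * t * (w⁻¹ * w⁻¹ * a) := by rw [← h15, h16]
    _ = a⁻¹ * (t * w⁻¹) * w⁻¹ * a := by group
    _ = a⁻¹ * (w * t) * w⁻¹ * a := by rw [h13]
    _ = a⁻¹ * w * t * (a⁻¹ * w)⁻¹ := by rw [h12]; group

/-- the elements of `E Eᵗ` commuting with `t` form `K` -/
theorem mem_K_of_comm (h : Wr t K E) {g : G} (hg : g ∈ h.E2) (hgt : g * t = t * g) : g ∈ K := by
  obtain ⟨a, ha, b, hb, rfl⟩ := hg
  have h1 : t * (a * (t * b * t)) * t = a * (t * b * t) := by
    rw [← hgt, mul_assoc, h.tt, mul_one]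
  rw [h.conj_mul, h.conj_conj] at h1
  -- `aᵗ b = a bᵗ`
  have h2 : b * (t * a * t) = a * (t * b * t) := by rw [h.comm b hb a ha, h1]
  -- `v = a⁻¹ b = (b a⁻¹)ᵗ`
  have h3 : a⁻¹ * b = t * (b * a⁻¹) * t := by
    rw [h.conj_mul, ← h.conj_inv]
    calc a⁻¹ * b = a⁻¹ * (b * (t * a * t)) * (t * a * t)⁻¹ := by group
      _ = a⁻¹ * (a * (t * b * t)) * (t * a * t)⁻¹ := by rw [h2]
      _ = t * b * t * (t * a * t)⁻¹ := by group
  have h4 : a⁻¹ * b ∈ E := mul_mem (inv_mem ha) hb
  have h5 : t * (a⁻¹ * b) * t ∈ E := by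
    rw [h3, h.conj_conj]
    exact mul_mem hb (inv_mem ha)
  have h6 := h.comm_of_mem h4 h5 (h.le_E2 ha)
  have h7 : b * a⁻¹ = a⁻¹ * b := by
    have : b = a⁻¹ * b * a := by rw [h6]; group
    calc b * a⁻¹ = a⁻¹ * b * a * a⁻¹ := by rw [← this]
      _ = a⁻¹ * b := by group
  have h8 : a⁻¹ * b = 1 := by
    apply h.eq_one_of_fixed h4
    calc t * (a⁻¹ * b) * t = t * (b * a⁻¹) * t := by rw [h7]
      _ = a⁻¹ * b := h3.symm
  have h9 : b = a := by
    rw [inv_mul_eq_one] at h8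
    exact h8.symm
  rw [h9]
  exact h.diag a ha

/-- the group `E Eᵗ ⟨t⟩` -/
def H (h : Wr t K E) : Subgroup G where
  carrier := {g | g ∈ h.E2 ∨ t * g ∈ h.E2}
  one_mem' := Or.inl (one_mem _)
  mul_mem' := by
    rintro a b (ha | ha) (hb | hb)
    · exact Or.inl (mul_mem ha hb)
    · right
      have h1 := mul_mem (h.conj_E2 ha) hb
      have h2 : t * a * t * (t * b) = t * (a * b) := by
        calc t * a * t * (t * b) = t * a * (t * t) * b := by group
          _ = t * (a * b) := by rw [h.tt]; group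
      rwa [h2] at h1
    · right
      have h1 := mul_mem ha hb
      rwa [mul_assoc] at h1
    · left
      have h1 := mul_mem (h.conj_E2 ha) hb
      have h2 : t * (t * a) * t * (t * b) = a * b := by
        calc t * (t * a) * t * (t * b) = t * t * a * (t * t) * b := by group
          _ = a * b := by rw [h.tt]; group
      rwa [h2] at h1
  inv_mem' := by
    rintro a (ha | ha)
    · exact Or.inl (inv_mem ha)
    · right
      have h1 := h.conj_E2 (inv_mem ha)
      have hti : t⁻¹ = t := inv_eq_of_mul_eq_one_right h.tt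
      have h2 : t * (t * a)⁻¹ * t = t * a⁻¹ := by
        rw [mul_inv_rev, hti]
        calc t * (a⁻¹ * t) * t = t * a⁻¹ * (t * t) := by group
          _ = t * a⁻¹ := by rw [h.tt, mul_one]
      rwa [h2] at h1

theorem mem_H (h : Wr t K E) {g : G} : g ∈ h.H ↔ g ∈ h.E2 ∨ t * g ∈ h.E2 := Iff.rfl

theorem t_mem_H (h : Wr t K E) : t ∈ h.H := Or.inr (by rw [h.tt]; exact one_mem _)

open Classical in
/-- the sign with kernel `E Eᵗ` -/
noncomputable def sign (h : Wr t K E) : h.H →* ℤˣ where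
  toFun g := if (g : G) ∈ h.E2 then 1 else -1
  map_one' := if_pos (one_mem _)
  map_mul' := by
    rintro ⟨a, ha⟩ ⟨b, hb⟩
    have key : ∀ g ∈ h.H, g ∉ h.E2 → t * g ∈ h.E2 := fun g hg hn => hg.resolve_left hn
    have htg : ∀ g, g ∈ h.E2 → t * g ∉ h.E2 := by
      intro g hg hn
      apply h.t_nmem
      have := mul_mem hn (inv_mem hg)
      rwa [mul_inv_cancel_right] at this
    simp only [MulMemClass.mk_mul_mk]
    by_cases h1 : a ∈ h.E2 <;> by_cases h2 : b ∈ h.E2
    · rw [if_pos h1, if_pos h2, if_pos (mul_mem h1 h2), one_mul]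
    · have h3 : a * b ∉ h.E2 := fun hn => h2 (by
        have := mul_mem (inv_mem h1) hn
        rwa [inv_mul_cancel_left] at this)
      rw [if_pos h1, if_neg h2, if_neg h3, one_mul]
    · have h3 : a * b ∉ h.E2 := fun hn => h1 (by
        have := mul_mem hn (inv_mem h2)
        rwa [mul_inv_cancel_right] at this)
      rw [if_neg h1, if_pos h2, if_neg h3, mul_one]
    · have h4 := key a ha h1
      have h5 := key b hb h2
      have h6 := mul_mem (h.conj_E2 h4) h5
      have h7 : t * (t * a) * t * (t * b) = a * b := by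
        calc t * (t * a) * t * (t * b) = t * t * a * (t * t) * b := by group
          _ = a * b := by rw [h.tt]; group
      rw [h7] at h6
      rw [if_neg h1, if_neg h2, if_pos h6]
      rfl

theorem sign_apply (h : Wr t K E) (g : h.H) : h.sign g = -1 ↔ (g : G) ∉ h.E2 := by
  classical
  show (if (g : G) ∈ h.E2 then (1 : ℤˣ) else -1) = -1 ↔ _
  by_cases h1 : (g : G) ∈ h.E2
  · rw [if_pos h1]
    exact ⟨fun h => absurd h (by decide), fun h => absurd h1 h⟩
  · rw [if_neg h1]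
    exact ⟨fun _ => h1, fun _ => rfl⟩

/-- **The wreath lemma**, no outer part: if `C_G(t) = ⟨t⟩ K` then `t` lies outside a subgroup of
index 2. -/
theorem exists_hom [Finite G] (h : Wr t K E)
    (hC : ∀ g : G, g * t = t * g → g ∈ K ∨ t * g ∈ K) : ∃ m : G →* ℤˣ, m t = -1 := by
  refine Cfsg.Agent.StdSpSix.TR.exists_hom_of_class h.sign h.tt h.t_mem_H
    ((h.sign_apply _).2 h.t_nmem) ?_ ?_
  · intro g hg hs
    rw [h.sign_apply] at hs
    have h1 : t * (g⁻¹ * t * g) ∈ h.E2 := hg.resolve_left hs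
    have h3 : (g⁻¹ * t * g) * (g⁻¹ * t * g) = 1 := by
      calc (g⁻¹ * t * g) * (g⁻¹ * t * g) = g⁻¹ * (t * t) * g := by group
        _ = 1 := by rw [h.tt]; group
    obtain ⟨c, hc, hcc⟩ := h.exists_conj h1 h3
    exact ⟨c, Or.inl hc, hcc⟩
  · have h1 : centralizer ({t} : Set G) ≤ h.H := by
      intro g hg
      rw [mem_centralizer_singleton_iff] at hg
      rcases hC g hg with h2 | h2
      · exact Or.inl (h.K_le h2)
      · exact Or.inr (h.K_le h2)
    rw [relIndex_eq_one.2 h1]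
    exact odd_one

end Wr

/-- `Wr` from a `K`-class `𝒟` generating `K` and elements `x_b` with `x_b x_bᵗ = b` and
`[x_b, x_cᵗ] = 1`. -/
theorem wr_of {t : G} {K : Subgroup G} {𝒟 : Set G} {x : G → G} (tt : t * t = 1)
    (hK : closure 𝒟 = K) (hx : ∀ b ∈ 𝒟, x b * (t * x b * t) = b)
    (hc : ∀ b ∈ 𝒟, ∀ c ∈ 𝒟, x b * (t * x c * t) = t * x c * t * x b)
    (cen : ∀ g : G, g * t = t * g → (∀ k ∈ K, g * k = k * g) → g = 1 ∨ g = t)
    (nab : ∃ a ∈ K, ∃ b ∈ K, a * b ≠ b * a) : Wr t K (closure (x '' 𝒟)) := by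
  have ht : t⁻¹ = t := inv_eq_of_mul_eq_one_right tt
  have cj : ∀ u v : G, t * (u * v) * t = t * u * t * (t * v * t) := by
    intro u v
    calc t * (u * v) * t = t * u * 1 * v * t := by group
      _ = t * u * (t * t) * v * t := by rw [tt]
      _ = t * u * t * (t * v * t) := by group
  have ci : ∀ u : G, t * u⁻¹ * t = (t * u * t)⁻¹ := by
    intro u
    rw [mul_inv_rev, mul_inv_rev, ht, mul_assoc]
  have comm : ∀ u ∈ closure (x '' 𝒟), ∀ v ∈ closure (x '' 𝒟),
      u * (t * v * t) = t * v * t * u := by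
    intro u hu v hv
    have h1 : ∀ b ∈ 𝒟, ∀ v ∈ closure (x '' 𝒟), x b * (t * v * t) = t * v * t * x b := by
      intro b hb v hv
      induction hv using closure_induction with
      | mem v hv =>
        obtain ⟨c, hc', rfl⟩ := hv
        exact hc b hb c hc'
      | one => rw [mul_one, tt, mul_one, one_mul]
      | mul v w _ _ h1 h2 =>
        rw [cj]
        calc x b * (t * v * t * (t * w * t)) = x b * (t * v * t) * (t * w * t) := by group
          _ = t * v * t * (x b * (t * w * t)) := by rw [h1]; group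
          _ = t * v * t * (t * w * t) * x b := by rw [h2]; group
      | inv v _ h1 =>
        rw [ci]
        have := (show Commute (x b) (t * v * t) from h1).inv_right
        exact this
    induction hu using closure_induction with
    | mem u hu =>
      obtain ⟨b, hb, rfl⟩ := hu
      exact h1 b hb v hv
    | one => rw [one_mul, mul_one]
    | mul a b _ _ h1 h2 => rw [mul_assoc, h2, ← mul_assoc, h1, mul_assoc]
    | inv a _ h1 => exact (show Commute a (t * v * t) from h1).inv_left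
  have dmul : ∀ u ∈ closure (x '' 𝒟), ∀ v ∈ closure (x '' 𝒟),
      u * v * (t * (u * v) * t) = u * (t * u * t) * (v * (t * v * t)) := by
    intro u hu v hv
    rw [cj]
    calc u * v * (t * u * t * (t * v * t)) = u * (v * (t * u * t)) * (t * v * t) := by group
      _ = u * (t * u * t * v) * (t * v * t) := by rw [comm v hv u hu]
      _ = u * (t * u * t) * (v * (t * v * t)) := by group
  have dinv : ∀ u ∈ closure (x '' 𝒟), u⁻¹ * (t * u⁻¹ * t) = (u * (t * u * t))⁻¹ := by
    intro u hu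
    rw [mul_inv_rev, ci]
    have := (show Commute u (t * u * t) from comm u hu u hu).inv_inv
    exact this
  have diag : ∀ u ∈ closure (x '' 𝒟), u * (t * u * t) ∈ K := by
    intro u hu
    induction hu using closure_induction with
    | mem u hu =>
      obtain ⟨b, hb, rfl⟩ := hu
      rw [hx b hb, ← hK]
      exact subset_closure hb
    | one => rw [mul_one, tt, mul_one]; exact one_mem _
    | mul a b ha hb h1 h2 => rw [dmul a ha b hb]; exact mul_mem h1 h2
    | inv a ha h1 => rw [dinv a ha]; exact inv_mem h1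
  refine ⟨tt, comm, diag, ?_, cen, nab⟩
  intro k hk
  rw [← hK] at hk
  induction hk using closure_induction with
  | mem b hb => exact ⟨x b, subset_closure ⟨b, hb, rfl⟩, hx b hb⟩
  | one => exact ⟨1, one_mem _, by rw [mul_one, tt, mul_one]⟩
  | mul a b _ _ h1 h2 =>
    obtain ⟨u, hu, hu'⟩ := h1
    obtain ⟨v, hv, hv'⟩ := h2
    exact ⟨u * v, mul_mem hu hv, by rw [dmul u hu v hv, hu', hv']⟩
  | inv a _ h1 =>
    obtain ⟨u, hu, hu'⟩ := h1
    exact ⟨u⁻¹, inv_mem hu, by rw [dinv u hu, hu']⟩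

end Cfsg.Agent.OddHalf.D8.Wreath
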