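import Cfsg.Agent.OddHalf.D8.Wreath
import Cfsg.Agent.GTwoFour.TransferTL
import Cfsg.Agent.StdEven.Syl
import Cfsg.Agent.OddHalf.D4.Basic

/-!
# ODD half, D8: the wreath lemma with an outer part in `C_G(t)` (helper957)
-/

set_option autoImplicit false

namespace Cfsg.Agent.OddHalf.D8.WreathOut

open Subgroup Cfsg.Agent.OddHalf.D8.Wreath Cfsg.Agent.StdEven.Syl

variable {G : Type*} [Group G]

/-- extension of a homomorphism of `C` trivial on `N ∩ C` to `N C` -/
theorem exists_ext {A : Type*} [Group A] (N C : Subgroup G)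
    (hn : ∀ c ∈ C, ∀ e ∈ N, c * e * c⁻¹ ∈ N) (ψ : C →* A)
    (h1 : ∀ c, ∀ hc : c ∈ C, c ∈ N → ψ ⟨c, hc⟩ = 1) :
    ∃ (S : Subgroup G) (lam : S →* A), (∀ g, g ∈ S ↔ ∃ e ∈ N, ∃ c ∈ C, g = e * c) ∧
      ∀ e ∈ N, ∀ c, ∀ hc : c ∈ C, ∀ hg : e * c ∈ S, lam ⟨e * c, hg⟩ = ψ ⟨c, hc⟩ := by
  classical
  let S : Subgroup G :=
    { carrier := {g | ∃ e ∈ N, ∃ c ∈ C, g = e * c}
      one_mem' := ⟨1, one_mem _, 1, one_mem _, by rw [one_mul]⟩
      mul_mem' := by
        rintro _ _ ⟨e, he, c, hc, rfl⟩ ⟨e', he', c', hc', rfl⟩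
        exact ⟨e * (c * e' * c⁻¹), mul_mem he (hn c hc e' he'), c * c', mul_mem hc hc', by group⟩
      inv_mem' := by
        rintro _ ⟨e, he, c, hc, rfl⟩
        refine ⟨c⁻¹ * e⁻¹ * c, ?_, c⁻¹, inv_mem hc, by group⟩
        have := hn c⁻¹ (inv_mem hc) e⁻¹ (inv_mem he)
        rwa [inv_inv] at this }
  have key : ∀ e ∈ N, ∀ e' ∈ N, ∀ c, ∀ hc : c ∈ C, ∀ c', ∀ hc' : c' ∈ C, e * c = e' * c' →
      ψ ⟨c, hc⟩ = ψ ⟨c', hc'⟩ := by
    intro e he e' he' c hc c' hc' h
    have h2 : c * c'⁻¹ = e⁻¹ * e' := by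
      calc c * c'⁻¹ = e⁻¹ * (e * c) * c'⁻¹ := by group
        _ = e⁻¹ * e' := by rw [h]; group
    have h3 := h1 (c * c'⁻¹) (mul_mem hc (inv_mem hc')) (by
      rw [h2]; exact mul_mem (inv_mem he) he')
    have h4 : ψ ⟨c, hc⟩ * (ψ ⟨c', hc'⟩)⁻¹ = 1 := by
      rw [← map_inv, ← map_mul, ← h3]
      rfl
    rwa [mul_inv_eq_one] at h4
  choose e he c hc hec using fun g : S => g.2
  let lam : S →* A := MonoidHom.mk' (fun g => ψ ⟨c g, hc g⟩) (by
    intro a b
    rw [← map_mul]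
    show ψ ⟨c (a * b), _⟩ = ψ ⟨c a * c b, _⟩
    apply key (e (a * b)) (he _) (e a * (c a * e b * (c a)⁻¹))
      (mul_mem (he a) (hn _ (hc a) _ (he b)))
    rw [← hec (a * b)]
    calc ((a * b : S) : G) = a * b := rfl
      _ = e a * c a * (e b * c b) := by rw [← hec a, ← hec b]
      _ = e a * (c a * e b * (c a)⁻¹) * (c a * c b) := by group)
  refine ⟨S, lam, fun g => Iff.rfl, ?_⟩
  intro e' he' c' hc' hg
  exact key _ (he _) _ he' _ _ _ _ (hec ⟨e' * c', hg⟩).symm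

/-- a subgroup such that the product of two elements outside lies inside gives a sign -/
theorem exists_sign {A : Type*} [Group A] (I : Subgroup A) (h : ∀ a b, a ∉ I → b ∉ I → a * b ∈ I) :
    ∃ l : A →* ℤˣ, ∀ a, l a = 1 ↔ a ∈ I := by
  classical
  refine ⟨MonoidHom.mk' (fun a => if a ∈ I then (1 : ℤˣ) else -1) ?_, ?_⟩
  · intro a b
    by_cases ha : a ∈ I <;> by_cases hb : b ∈ I
    · simp only [if_pos ha, if_pos hb, if_pos (mul_mem ha hb), mul_one]
    · have : a * b ∉ I := fun hn => hb (by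
        have := mul_mem (inv_mem ha) hn
        rwa [inv_mul_cancel_left] at this)
      simp only [if_pos ha, if_neg hb, if_neg this, one_mul]
    · have : a * b ∉ I := fun hn => ha (by
        have := mul_mem hn (inv_mem hb)
        rwa [mul_inv_cancel_right] at this)
      simp only [if_neg ha, if_pos hb, if_neg this, mul_one]
    · simp only [if_neg ha, if_neg hb, if_pos (h a b ha hb)]
      rfl
  · intro a
    show (if a ∈ I then (1 : ℤˣ) else -1) = 1 ↔ _
    by_cases ha : a ∈ I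
    · rw [if_pos ha]
      exact ⟨fun _ => ha, fun _ => rfl⟩
    · rw [if_neg ha]
      exact ⟨fun h => absurd h (by decide), fun h => absurd h ha⟩

theorem isSyl_of_odd [Finite G] {P M N : Subgroup G} (h : IsSyl P M) (hMN : M ≤ N)
    (hodd : Odd (M.relIndex N)) : IsSyl P N := by
  refine ⟨h.le.trans hMN, h.two, fun X hX hXN hPX => ?_⟩
  have h1 : Odd (P.relIndex N) := by
    rw [← relIndex_mul_relIndex P M N h.le hMN]
    exact h.odd_relIndex.mul hodd
  rw [← relIndex_mul_relIndex P X N hPX hXN] at h1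
  have h2 := (Nat.odd_mul.1 h1).1
  obtain ⟨n, hn⟩ := (IsPGroup.iff_card.1 hX)
  have h3 : P.relIndex X ∣ 2 ^ n := by
    rw [← hn]
    exact Dvd.intro_left _ (Subgroup.card_mul_index (P.subgroupOf X))
  obtain ⟨k, -, hk⟩ := (Nat.dvd_prime_pow Nat.prime_two).1 h3
  rw [hk] at h2
  rcases Nat.eq_zero_or_pos k with rfl | hk0
  · rw [pow_zero] at hk
    exact le_antisymm (relIndex_eq_one.1 hk) hPX
  · exact absurd h2 (by
      rw [Nat.not_odd_iff_even]
      exact (Nat.even_pow.2 ⟨even_two, hk0.ne'⟩))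

/-- a `2`-group normalising a finite group `E` of even order centralises an involution of `E` -/
theorem exists_fixed [Finite G] {P E : Subgroup G} (hP : IsPGroup 2 P)
    (hn : P ≤ normalizer (E : Set G)) (hE : Even (Nat.card E)) :
    ∃ e ∈ E, e ≠ 1 ∧ e * e = 1 ∧ ∀ p ∈ P, p * e = e * p := by
  obtain ⟨R, hR, hPR⟩ := Cfsg.Agent.StdEven.Syl.exists_isSyl hP (le_sup_left : P ≤ P ⊔ E)
  have h1 := hR.inf_normal (N' := E) le_sup_right (sup_le hn le_normalizer)
  have h2 : R ⊓ E ≠ ⊥ := by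
    intro h
    have h3 := h1.odd_relIndex
    rw [h, relIndex_bot_left] at h3
    exact (Nat.not_odd_iff_even.2 hE) h3
  obtain ⟨e, he, he2, hc⟩ := Cfsg.Agent.OddHalf.D4.Basic.exists_central_invol hR.two
    inf_le_left h2 (by
      intro r hr n hn'
      refine mem_inf.2 ⟨mul_mem (mul_mem hr (mem_inf.1 hn').1) (inv_mem hr), ?_⟩
      exact Cfsg.Agent.StdEven.Syl.conj_mem_of_mem_normalizer
        (sup_le hn le_normalizer (hR.le hr)) (mem_inf.1 hn').2)
  refine ⟨e, (mem_inf.1 he).2, ?_, ?_, fun p hp => hc p (hPR hp)⟩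
  · rintro rfl
    rw [orderOf_one] at he2
    exact absurd he2 (by decide)
  · rw [← pow_two, ← he2, pow_orderOf_eq_one]

/-- the wreath configuration with an outer part in `C_G(t)` -/
structure Outer (t : G) (K E : Subgroup G) : Prop where
  wr : Wr t K E
  nor : ∀ c, c * t = t * c → c ∈ normalizer (E : Set G) ∨ t * c ∈ normalizer (E : Set G)
  two : ∀ a b, a * t = t * a → b * t = t * b → a ∈ normalizer (E : Set G) →
    b ∈ normalizer (E : Set G) → a ∉ K → b ∉ K → a * b ∈ K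
  inv : ∃ k ∈ K, k ≠ 1 ∧ k * k = 1
  /-- `Ω₁ Z(T)` has order at most `4` -/
  om : ∀ T, IsSyl T (centralizer {t}) → ∀ e ∈ T, ∀ f ∈ T, e * e = 1 → f * f = 1 →
    (∀ x ∈ T, x * e = e * x) → (∀ x ∈ T, x * f = f * x) → e ≠ 1 → e ≠ t → f ≠ 1 → f ≠ t →
    e = f ∨ e = t * f
  /-- the `2`-part of `|C_G(t)|` is not a square -/
  par : ∀ T, IsSyl T (centralizer {t}) → ∀ b, Nat.card T ≠ b * b

namespace Outer

variable {t : G} {K E : Subgroup G}

theorem tinv (h : Outer t K E) : t⁻¹ = t := inv_eq_of_mul_eq_one_right h.wr.tt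

theorem E2_le (h : Outer t K E) : h.wr.E2 ≤ normalizer (E : Set G) := by
  rintro _ ⟨u, hu, v, hv, rfl⟩
  refine mul_mem (le_normalizer hu) ?_
  rw [mem_normalizer_iff]
  intro w
  have key : ∀ w ∈ E, ∀ v ∈ E, t * v * t * w * (t * v * t)⁻¹ = w := by
    intro w hw v hv
    rw [← h.wr.comm w hw v hv, mul_inv_cancel_right]
  constructor
  · intro hw
    rw [key w hw v hv]
    exact hw
  · intro hw
    have h1 := key _ hw v⁻¹ (inv_mem hv)
    rw [← h.wr.conj_inv, inv_inv] at h1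
    have h2 : (t * v * t)⁻¹ * (t * v * t * w * (t * v * t)⁻¹) * (t * v * t) = w := by group
    rw [h2] at h1
    rw [h1]
    exact hw

theorem t_nmem (h : Outer t K E) : t ∉ normalizer (E : Set G) := by
  intro hn
  apply h.wr.t_nmem_E
  intro u hu
  have h1 := conj_mem_of_mem_normalizer hn hu
  rwa [h.tinv] at h1

theorem conj_E2 (h : Outer t K E) {c : G} (hc : c * t = t * c) {e : G} (he : e ∈ h.wr.E2) :
    c * e * c⁻¹ ∈ h.wr.E2 := by
  have key : ∀ c, c * t = t * c → c ∈ normalizer (E : Set G) → ∀ e ∈ h.wr.E2,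
      c * e * c⁻¹ ∈ h.wr.E2 := by
    rintro c hc hn _ ⟨u, hu, v, hv, rfl⟩
    refine ⟨_, conj_mem_of_mem_normalizer hn hu, _, conj_mem_of_mem_normalizer hn hv, ?_⟩
    have h1 : c⁻¹ * t = t * c⁻¹ := (show Commute c t from hc).inv_left
    calc c * (u * (t * v * t)) * c⁻¹ = c * u * c⁻¹ * (c * t * v * (t * c⁻¹)) := by group
      _ = c * u * c⁻¹ * (t * c * v * (c⁻¹ * t)) := by rw [hc, h1]
      _ = c * u * c⁻¹ * (t * (c * v * c⁻¹) * t) := by group
  rcases h.nor c hc with hn | hn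
  · exact key c hc hn e he
  · have h1 : t * c * t = t * (t * c) := by rw [mul_assoc, hc]
    have h2 := h.wr.conj_E2 (key _ h1 hn e he)
    have h3 : t * (t * c * e * (t * c)⁻¹) * t = c * e * c⁻¹ := by
      rw [mul_inv_rev, h.tinv]
      calc t * (t * c * e * (c⁻¹ * t)) * t = t * t * c * e * c⁻¹ * (t * t) := by group
        _ = c * e * c⁻¹ := by rw [h.wr.tt]; group
    rwa [h3] at h2

/-- the elements of `E2 C(t)` normalising `E` also normalise `Eᵗ` -/
theorem conj_t_nor (h : Outer t K E) {e c : G} (he : e ∈ h.wr.E2) (hc : c * t = t * c)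
    (hn : e * c ∈ normalizer (E : Set G)) : t * (e * c) * t ∈ normalizer (E : Set G) := by
  have h1 : c ∈ normalizer (E : Set G) := by
    have := mul_mem (inv_mem (h.E2_le he)) hn
    rwa [inv_mul_cancel_left] at this
  have h2 : t * (e * c) * t = t * e * t * c := by
    calc t * (e * c) * t = t * e * (c * t) := by group
      _ = t * e * t * c := by rw [hc]; group
  rw [h2]
  exact mul_mem (h.E2_le (h.wr.conj_E2 he)) h1

theorem even_E [Finite G] (h : Outer t K E) : Even (Nat.card E) := by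
  rw [← Nat.not_odd_iff_even]
  intro hodd
  obtain ⟨k, hk, hk1, hkk⟩ := h.inv
  obtain ⟨u, hu, rfl⟩ := h.wr.surj k hk
  obtain ⟨m, hm⟩ := hodd
  have h1 : u ^ (2 * m + 1) = 1 := by
    rw [← hm]
    have := pow_card_eq_one' (x := (⟨u, hu⟩ : E))
    exact congrArg Subtype.val this
  have hcm : Commute u (t * u * t) := h.wr.comm u hu u hu
  have h2 : (t * u * t) ^ (2 * m + 1) = 1 := by
    have h3 : t * u ^ (2 * m + 1) * t = (t * u * t) ^ (2 * m + 1) := by
      generalize 2 * m + 1 = n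
      induction n with
      | zero => rw [pow_zero, pow_zero, mul_one, h.wr.tt]
      | succ n ih => rw [pow_succ, h.wr.conj_mul, ih, pow_succ]
    rw [← h3, h1, mul_one, h.wr.tt]
  have h4 : (u * (t * u * t)) ^ (2 * m + 1) = 1 := by
    rw [hcm.mul_pow, h1, h2, one_mul]
  apply hk1
  rw [pow_succ, pow_mul, pow_two, hkk, one_pow, one_mul] at h4
  exact h4

/-- the extremal conjugate: an involution `u ∉ E2 ∪ t E2` normalising `E`, together with a Sylow
subgroup `P` of `C_G(u)` inside `E2 C(t)` -/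
theorem exists_P [Finite G] (h : Outer t K E) (hG : ∀ f : G →* ℤˣ, f t = 1) :
    ∃ (g u : G) (P : Subgroup G), g * u * g⁻¹ = t ∧ IsSyl P (centralizer {u}) ∧
      (∀ x ∈ P, ∃ e ∈ h.wr.E2, ∃ c, c * t = t * c ∧ x = e * c) ∧
      u ∈ normalizer (E : Set G) ∧ u ∉ h.wr.E2 ∧ t * u ∉ h.wr.E2 ∧
      ∃ e ∈ h.wr.E2, ∃ c, c * t = t * c ∧ u = e * c := by
  classical
  have hti := h.tinv
  set C : Subgroup G := centralizer {t} with hC
  have mC : ∀ {c : G}, c ∈ C ↔ c * t = t * c := fun {c} => mem_centralizer_singleton_iff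
  -- the two signs
  obtain ⟨rho, hrho⟩ := exists_sign ((normalizer (E : Set G)).subgroupOf C) (by
    intro a b ha hb
    rw [mem_subgroupOf] at ha hb ⊢
    have h1 := (h.nor _ (mC.1 a.2)).resolve_left ha
    have h2 := (h.nor _ (mC.1 b.2)).resolve_left hb
    have h3 := mul_mem h1 h2
    have h4 : t * (a : G) * (t * (b : G)) = ((a * b : C) : G) := by
      calc t * (a : G) * (t * (b : G)) = t * ((a : G) * t) * (b : G) := by group
        _ = t * t * a * b := by rw [mC.1 a.2]; group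
        _ = ((a * b : C) : G) := by rw [h.wr.tt, one_mul, coe_mul]
    rwa [h4] at h3)
  obtain ⟨sig, hsig⟩ := exists_sign (h.wr.H.subgroupOf C) (by
    intro a b ha hb
    rw [mem_subgroupOf] at ha hb ⊢
    -- replace `a`, `b` by the elements normalising `E`
    have key : ∀ c ∈ C, c ∉ h.wr.H → ∃ c' ∈ C, c' ∈ normalizer (E : Set G) ∧ c' ∉ K ∧
        (c' = c ∨ c' = t * c) := by
      intro c hc hH
      rcases h.nor c (mC.1 hc) with h1 | h1
      · exact ⟨c, hc, h1, fun hk => hH (Or.inl (h.wr.K_le hk)), Or.inl rfl⟩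
      · refine ⟨t * c, ?_, h1, fun hk => hH (Or.inr (h.wr.K_le hk)), Or.inr rfl⟩
        rw [mC, mul_assoc, mC.1 hc]
    obtain ⟨a', ha', han, hak, ha2⟩ := key a a.2 ha
    obtain ⟨b', hb', hbn, hbk, hb2⟩ := key b b.2 hb
    have h1 := h.two a' b' (mC.1 ha') (mC.1 hb') han hbn hak hbk
    have h2 : a' * b' ∈ h.wr.H := Or.inl (h.wr.K_le h1)
    have h3 : ∀ x : G, t * x ∈ h.wr.H → x ∈ h.wr.H := by
      intro x hx
      have := mul_mem h.wr.t_mem_H hx
      rwa [← mul_assoc, h.wr.tt, one_mul] at this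
    rw [coe_mul]
    rcases ha2 with rfl | rfl <;> rcases hb2 with rfl | rfl
    · exact h2
    · apply h3
      have : (a : G) * (t * (b : G)) = t * ((a : G) * b) := by
        rw [← mul_assoc, mC.1 a.2, mul_assoc]
      rwa [this] at h2
    · apply h3
      rwa [mul_assoc] at h2
    · have : t * (a : G) * (t * (b : G)) = (a : G) * b := by
        calc t * (a : G) * (t * (b : G)) = t * ((a : G) * t) * (b : G) := by group
          _ = t * t * a * b := by rw [mC.1 a.2]; group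
          _ = (a : G) * b := by rw [h.wr.tt, one_mul]
      rwa [this] at h2)
  have hE2H : h.wr.E2 ≤ h.wr.H := fun x hx => Or.inl hx
  obtain ⟨S, lam, mS, hlam⟩ := exists_ext h.wr.E2 C (fun c hc e he => h.conj_E2 (mC.1 hc) he)
    (rho * sig) (by
      intro c hc hcE
      have h1 : rho ⟨c, hc⟩ = 1 := (hrho _).2 (mem_subgroupOf.2 (h.E2_le hcE))
      have h2 : sig ⟨c, hc⟩ = 1 := (hsig _).2 (mem_subgroupOf.2 (hE2H hcE))
      rw [MonoidHom.mul_apply, h1, h2, one_mul])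
  have tC : t ∈ C := mC.2 rfl
  have tS : t ∈ S := (mS t).2 ⟨1, one_mem _, t, tC, (one_mul t).symm⟩
  have lt : lam ⟨t, tS⟩ ≠ 1 := by
    have h1 := hlam 1 (one_mem _) t tC (by rw [one_mul]; exact tS)
    simp only [one_mul] at h1
    rw [h1, MonoidHom.mul_apply]
    have h2 : rho ⟨t, tC⟩ ≠ 1 := fun hn => h.t_nmem (mem_subgroupOf.1 ((hrho _).1 hn))
    have h3 : sig ⟨t, tC⟩ = 1 := (hsig _).2 (mem_subgroupOf.2 h.wr.t_mem_H)
    rwa [h3, mul_one]
  have CS : C ≤ S := fun c hc => (mS c).2 ⟨1, one_mem _, c, hc, (one_mul c).symm⟩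
  obtain ⟨g, hgS, hg1, hg2, hg3⟩ := Cfsg.Agent.GTwoFour.TransferTL.exists_extremal S lam t hG
    h.wr.tt tS lt (by rw [relIndex_eq_one.2 CS]; exact odd_one)
  set u := g⁻¹ * t * g with hu
  have huu : u * u = 1 := by
    calc u * u = g⁻¹ * (t * t) * g := by rw [hu]; group
      _ = 1 := by rw [h.wr.tt]; group
  obtain ⟨e, he, c, hc, huec⟩ := (mS u).1 hgS
  have hE2S : h.wr.E2 ≤ S := fun x hx => (mS x).2 ⟨x, hx, 1, one_mem _, (mul_one x).symm⟩
  have tu : t * u ∉ h.wr.E2 := by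
    intro htu
    obtain ⟨x, hx, hxx⟩ := h.wr.exists_conj htu huu
    apply hg3 x⁻¹ (inv_mem (hE2S hx))
    rw [hxx, inv_inv]
  have hval : (rho ⟨c, hc⟩) * (sig ⟨c, hc⟩) ≠ 1 := by
    have h1 := hlam e he c hc (by rw [← huec]; exact hgS)
    rw [MonoidHom.mul_apply] at h1
    rw [← h1]
    have h2 : (⟨e * c, by rw [← huec]; exact hgS⟩ : S) = ⟨u, hgS⟩ := Subtype.ext huec.symm
    rw [h2]
    exact hg1
  have un : u ∉ h.wr.E2 := by
    intro hun
    apply hval
    have hcE : c ∈ h.wr.E2 := by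
      have := mul_mem (inv_mem he) hun
      rwa [huec, inv_mul_cancel_left] at this
    have h1 : rho ⟨c, hc⟩ = 1 := (hrho _).2 (mem_subgroupOf.2 (h.E2_le hcE))
    have h2 : sig ⟨c, hc⟩ = 1 := (hsig _).2 (mem_subgroupOf.2 (hE2H hcE))
    rw [h1, h2, one_mul]
  have cn : c ∈ normalizer (E : Set G) := by
    by_contra hcn
    have h1 : rho ⟨c, hc⟩ ≠ 1 := fun hn => hcn (mem_subgroupOf.1 ((hrho _).1 hn))
    have h2 : sig ⟨c, hc⟩ ≠ 1 := by
      intro hn
      rcases mem_subgroupOf.1 ((hsig _).1 hn) with h3 | h3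
      · exact hcn (h.E2_le h3)
      · apply tu
        have h4 : t * u = t * e * t * (t * c) := by
          calc t * u = t * e * c := by rw [huec]; group
            _ = t * e * t * (t * c) := by
              have : t * e * t * (t * c) = t * e * (t * t) * c := by group
              rw [this, h.wr.tt, mul_one]
        rw [h4]
        exact mul_mem (h.wr.conj_E2 he) h3
    rcases Int.units_eq_one_or (rho ⟨c, hc⟩) with h5 | h5
    · exact h1 h5
    rcases Int.units_eq_one_or (sig ⟨c, hc⟩) with h6 | h6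
    · exact h2 h6
    exact hval (by rw [h5, h6]; decide)
  obtain ⟨P, hP, -⟩ := exists_isSyl (IsPGroup.of_bot (p := 2) (G := G))
    (bot_le : ⊥ ≤ S ⊓ centralizer {u})
  refine ⟨g, u, P, by rw [hu]; group, isSyl_of_odd hP inf_le_right ?_, ?_, ?_, un, tu, e, he, c,
    mC.1 hc, huec⟩
  · rw [inf_relIndex_right]
    exact hg2
  · intro x hx
    obtain ⟨e', he', c', hc', hx'⟩ := (mS x).1 (mem_inf.1 (hP.le hx)).1
    exact ⟨e', he', c', mC.1 hc', hx'⟩
  · rw [huec]
    exact mul_mem (h.E2_le he) cn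

theorem isSyl_conj [Finite G] {g u : G} {P : Subgroup G} (hg : g * u * g⁻¹ = t)
    (hP : IsSyl P (centralizer {u})) :
    IsSyl (P.map (MulAut.conj g).toMonoidHom) (centralizer {t}) := by
  have hu : u = g⁻¹ * t * g := by rw [← hg]; group
  refine ⟨?_, isPGroup_map hP.two g, ?_⟩
  · rintro _ ⟨x, hx, rfl⟩
    have h1 := mem_centralizer_singleton_iff.1 (hP.le hx)
    rw [mem_centralizer_singleton_iff, ← hg]
    show g * x * g⁻¹ * (g * u * g⁻¹) = g * u * g⁻¹ * (g * x * g⁻¹)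
    calc g * x * g⁻¹ * (g * u * g⁻¹) = g * (x * u) * g⁻¹ := by group
      _ = g * (u * x) * g⁻¹ := by rw [h1]
      _ = g * u * g⁻¹ * (g * x * g⁻¹) := by group
  · intro X hX hXC hle
    have h1 : X.map (MulAut.conj g⁻¹).toMonoidHom = P := by
      apply hP.max _ (isPGroup_map hX g⁻¹)
      · rintro _ ⟨x, hx, rfl⟩
        have h1 := mem_centralizer_singleton_iff.1 (hXC hx)
        rw [mem_centralizer_singleton_iff, hu]
        show g⁻¹ * x * g⁻¹⁻¹ * (g⁻¹ * t * g) = g⁻¹ * t * g * (g⁻¹ * x * g⁻¹⁻¹)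
        calc g⁻¹ * x * g⁻¹⁻¹ * (g⁻¹ * t * g) = g⁻¹ * (x * t) * g := by group
          _ = g⁻¹ * (t * x) * g := by rw [h1]
          _ = g⁻¹ * t * g * (g⁻¹ * x * g⁻¹⁻¹) := by group
      · intro x hx
        rw [mem_map_conj, inv_inv]
        exact hle (conj_mem_map g hx)
    apply le_antisymm _ hle
    intro x hx
    rw [mem_map_conj]
    rw [← h1]
    have := conj_mem_map g⁻¹ hx
    rwa [inv_inv] at this

/-- the case in which `P` normalises `E` -/
theorem false_of_le [Finite G] (h : Outer t K E) {g u : G} {P : Subgroup G}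
    (hg : g * u * g⁻¹ = t) (hP : IsSyl P (centralizer {u}))
    (hPS : ∀ x ∈ P, ∃ e ∈ h.wr.E2, ∃ c, c * t = t * c ∧ x = e * c)
    (un : u ∉ h.wr.E2) (hle : P ≤ normalizer (E : Set G)) : False := by
  have hti := h.tinv
  have huu : u * u = 1 := by
    have h1 : g * (u * u) * g⁻¹ = 1 := by
      calc g * (u * u) * g⁻¹ = g * u * g⁻¹ * (g * u * g⁻¹) := by group
        _ = 1 := by rw [hg, h.wr.tt]
    calc u * u = g⁻¹ * (g * (u * u) * g⁻¹) * g := by group
      _ = 1 := by rw [h1]; group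
  -- `2`-elements centralising `P`
  have key : ∀ e : G, e * e = 1 → (∀ p ∈ P, p * e = e * p) → e ∈ P := by
    intro e hee hc
    by_cases he1 : e ∈ P
    · exact he1
    have h2 : IsPGroup 2 (zpowers e) := by
      rintro ⟨a, ha⟩
      obtain ⟨i, rfl⟩ := mem_zpowers_iff.1 ha
      refine ⟨1, Subtype.ext ?_⟩
      show (e ^ i) ^ (2 ^ 1) = 1
      rw [pow_one, pow_two, ← (Commute.refl e).mul_zpow, hee, one_zpow]
    have hcomm : ∀ x ∈ zpowers e, ∀ p ∈ P, p * x = x * p := by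
      intro x hx p hp
      obtain ⟨i, rfl⟩ := mem_zpowers_iff.1 hx
      exact ((show Commute p e from hc p hp).zpow_right i).eq
    have hn : zpowers e ≤ normalizer (P : Set G) := by
      intro x hx
      apply mem_normalizer_of_conj_le
      intro p hp
      rw [← hcomm x hx p hp, mul_inv_cancel_right]
      exact hp
    have h3 : IsPGroup 2 (P ⊔ zpowers e : Subgroup G) := hP.two.to_sup_of_normal_left' h2 hn
    -- `u ∈ P`
    have h4 : u ∈ P := by
      by_contra hu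
      have h5 : IsPGroup 2 (zpowers u) := by
        rintro ⟨a, ha⟩
        obtain ⟨i, rfl⟩ := mem_zpowers_iff.1 ha
        refine ⟨1, Subtype.ext ?_⟩
        show (u ^ i) ^ (2 ^ 1) = 1
        rw [pow_one, pow_two, ← (Commute.refl u).mul_zpow, huu, one_zpow]
      have h6 : zpowers u ≤ normalizer (P : Set G) := by
        intro x hx
        obtain ⟨i, rfl⟩ := mem_zpowers_iff.1 hx
        apply mem_normalizer_of_conj_le
        intro p hp
        have h7 : Commute p u := mem_centralizer_singleton_iff.1 (hP.le hp)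
        rw [← (h7.zpow_right i).eq, mul_inv_cancel_right]
        exact hp
      have h8 := hP.max _ (hP.two.to_sup_of_normal_left' h5 h6) (sup_le hP.le (by
        rw [zpowers_le]; exact mem_centralizer_singleton_iff.2 rfl)) le_sup_left
      apply hu
      rw [← h8]
      exact mem_sup_right (mem_zpowers u)
    have h9 := hP.max _ h3 (sup_le hP.le (by
      rw [zpowers_le]
      exact mem_centralizer_singleton_iff.2 (hc u h4).symm)) le_sup_left
    rw [← h9]
    exact mem_sup_right (mem_zpowers e)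
  -- the involution of `E`
  obtain ⟨e, he, he1, hee, hec⟩ := exists_fixed hP.two hle h.even_E
  -- the involution of `Eᵗ`
  have hle' : P.map (MulAut.conj t).toMonoidHom ≤ normalizer (E : Set G) := by
    rintro _ ⟨x, hx, rfl⟩
    obtain ⟨a, ha, c, hc, rfl⟩ := hPS x hx
    have h1 := h.conj_t_nor ha hc (hle hx)
    show t * (a * c) * t⁻¹ ∈ _
    rwa [hti]
  obtain ⟨f, hf, hf1, hff, hfc⟩ := exists_fixed (isPGroup_map hP.two t) hle' h.even_E
  set f' := t * f * t with hf'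
  have hf'1 : f' ≠ 1 := by
    intro h1
    apply hf1
    rw [← h.wr.conj_conj f, ← hf', h1, mul_one, h.wr.tt]
  have hf'2 : f' * f' = 1 := by rw [hf', ← h.wr.conj_mul, hff, mul_one, h.wr.tt]
  have hf'c : ∀ p ∈ P, p * f' = f' * p := by
    intro p hp
    have h1 := hfc _ (conj_mem_map t hp)
    rw [hti] at h1
    have h2 : t * (t * p * t * f) * t = p * f' := by rw [h.wr.conj_mul, h.wr.conj_conj]
    have h3 : t * (f * (t * p * t)) * t = f' * p := by rw [h.wr.conj_mul, h.wr.conj_conj]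
    rw [← h2, ← h3, h1]
  have heE2 : e ∈ h.wr.E2 := h.wr.le_E2 he
  have hfE2 : f' ∈ h.wr.E2 := h.wr.conj_mem_E2 hf
  have hT := isSyl_conj hg hP
  have cj : ∀ x : G, g * x * g⁻¹ = 1 → x = 1 := by
    intro x hx
    calc x = g⁻¹ * (g * x * g⁻¹) * g := by group
      _ = 1 := by rw [hx]; group
  have cm : ∀ x y : G, g * x * g⁻¹ * (g * y * g⁻¹) = g * (x * y) * g⁻¹ := by
    intro x y; group
  have cinj : ∀ x y : G, g * x * g⁻¹ = g * y * g⁻¹ → x = y := by
    intro x y hxy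
    calc x = g⁻¹ * (g * x * g⁻¹) * g := by group
      _ = y := by rw [hxy]; group
  have ccm : ∀ x : G, (∀ p ∈ P, p * x = x * p) →
      ∀ y ∈ P.map (MulAut.conj g).toMonoidHom, y * (g * x * g⁻¹) = g * x * g⁻¹ * y := by
    rintro x hx _ ⟨p, hp, rfl⟩
    show g * p * g⁻¹ * (g * x * g⁻¹) = g * x * g⁻¹ * (g * p * g⁻¹)
    rw [cm, cm, hx p hp]
  rcases h.om _ hT (g * e * g⁻¹) (conj_mem_map g (key e hee hec)) (g * f' * g⁻¹)
    (conj_mem_map g (key f' hf'2 hf'c)) (by rw [cm, hee]; group) (by rw [cm, hf'2]; group)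
    (ccm e hec) (ccm f' hf'c) (fun h1 => he1 (cj _ h1)) (by
      rw [← hg]
      intro h1
      exact un (cinj _ _ h1 ▸ heE2)) (fun h1 => hf'1 (cj _ h1)) (by
      rw [← hg]
      intro h1
      exact un (cinj _ _ h1 ▸ hfE2)) with h1 | h1
  · have h2 := cinj _ _ h1
    -- `e ∈ E ∩ Eᵗ` has odd order
    have h3 : t * e * t ∈ E := by rw [h2, hf', h.wr.conj_conj]; exact hf
    have h4 := h.wr.odd_of_mem he h3
    have h5 : orderOf e = 2 := orderOf_eq_prime (by rw [pow_two, hee]) he1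
    rw [h5] at h4
    exact absurd h4 (by decide)
  · rw [← hg, cm] at h1
    have h2 := cinj _ _ h1
    apply un
    have h3 : u = e * f' := by
      rw [h2, mul_assoc, hf'2, mul_one]
    rw [h3]
    exact mul_mem heE2 hfE2

theorem isPGroup_zpowers_pow {x : G} {k : ℕ} (hx : x ^ 2 ^ k = 1) : IsPGroup 2 (zpowers x) := by
  rintro ⟨a, ha⟩
  obtain ⟨i, rfl⟩ := mem_zpowers_iff.1 ha
  refine ⟨k, Subtype.ext ?_⟩
  show (x ^ i) ^ (2 ^ k) = 1
  rw [← zpow_natCast, ← zpow_mul, mul_comm, zpow_mul, zpow_natCast, hx, one_zpow]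

/-- a Sylow subgroup of `N` contains the `2`-elements of `N` normalising it -/
theorem mem_of_isSyl [Finite G] {P N : Subgroup G} (hP : IsSyl P N) {x : G} {k : ℕ}
    (hx : x ^ 2 ^ k = 1) (hxN : x ∈ N) (hn : ∀ p ∈ P, x * p * x⁻¹ ∈ P) : x ∈ P := by
  have h1 : zpowers x ≤ normalizer (P : Set G) := by
    rw [zpowers_le]
    exact mem_normalizer_of_conj_le hn
  have h2 := hP.max _ (hP.two.to_sup_of_normal_left' (isPGroup_zpowers_pow hx) h1)
    (sup_le hP.le (by rw [zpowers_le]; exact hxN)) le_sup_left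
  rw [← h2]
  exact mem_sup_right (mem_zpowers x)

theorem P_nor_E2 (h : Outer t K E) {x : G} (hx : ∃ e ∈ h.wr.E2, ∃ c, c * t = t * c ∧ x = e * c)
    {y : G} (hy : y ∈ h.wr.E2) : x * y * x⁻¹ ∈ h.wr.E2 := by
  obtain ⟨e, he, c, hc, rfl⟩ := hx
  have h1 : e * c * y * (e * c)⁻¹ = e * (c * y * c⁻¹) * e⁻¹ := by group
  rw [h1]
  exact mul_mem (mul_mem he (h.conj_E2 hc hy)) (inv_mem he)

theorem isSyl_inf [Finite G] (h : Outer t K E) {u : G} {P : Subgroup G}
    (hP : IsSyl P (centralizer {u}))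
    (hPS : ∀ x ∈ P, ∃ e ∈ h.wr.E2, ∃ c, c * t = t * c ∧ x = e * c) {F : Subgroup G}
    (hF : F ≤ h.wr.E2) (hn : h.wr.E2 ≤ normalizer (F : Set G)) :
    IsSyl (P ⊓ F) (F ⊓ centralizer {u}) := by
  have hPn : P ≤ normalizer ((h.wr.E2 ⊓ centralizer {u} : Subgroup G) : Set G) := by
    intro x hx
    apply mem_normalizer_of_conj_le
    intro y hy
    refine mem_inf.2 ⟨h.P_nor_E2 (hPS x hx) (mem_inf.1 hy).1, ?_⟩
    exact mul_mem (mul_mem (hP.le hx) (mem_inf.1 hy).2) (inv_mem (hP.le hx))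
  have h1 : IsSyl P (P ⊔ (h.wr.E2 ⊓ centralizer {u})) :=
    hP.mono le_sup_left (sup_le hP.le inf_le_right)
  have h2 := h1.inf_normal (N' := h.wr.E2 ⊓ centralizer {u}) le_sup_right
    (sup_le hPn le_normalizer)
  have h3 := h2.inf_normal (N' := F ⊓ centralizer {u})
    (inf_le_inf_right _ hF) (by
      intro x hx
      apply mem_normalizer_of_conj_le
      intro y hy
      refine mem_inf.2 ⟨conj_mem_of_mem_normalizer (hn (mem_inf.1 hx).1) (mem_inf.1 hy).1, ?_⟩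
      exact mul_mem (mul_mem (mem_inf.1 hx).2 (mem_inf.1 hy).2) (inv_mem (mem_inf.1 hx).2))
  have h4 : P ⊓ (h.wr.E2 ⊓ centralizer {u}) ⊓ (F ⊓ centralizer {u}) = P ⊓ F := by
    ext x
    constructor
    · intro hx
      obtain ⟨h5, h6⟩ := mem_inf.1 hx
      exact mem_inf.2 ⟨(mem_inf.1 h5).1, (mem_inf.1 h6).1⟩
    · intro hx
      obtain ⟨h5, h6⟩ := mem_inf.1 hx
      exact mem_inf.2 ⟨mem_inf.2 ⟨h5, mem_inf.2 ⟨hF h6, hP.le h5⟩⟩, mem_inf.2 ⟨h6, hP.le h5⟩⟩
  rwa [h4] at h3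

/-- the second factor -/
def Et (h : Outer t K E) : Subgroup G where
  carrier := {x | t * x * t ∈ E}
  one_mem' := by
    show t * 1 * t ∈ E
    rw [mul_one, h.wr.tt]; exact one_mem _
  mul_mem' := by
    intro a b ha hb
    show t * (a * b) * t ∈ E
    rw [h.wr.conj_mul]
    exact mul_mem ha hb
  inv_mem' := by
    intro a ha
    show t * a⁻¹ * t ∈ E
    rw [← h.wr.conj_inv]
    exact inv_mem ha

theorem mem_Et (h : Outer t K E) {x : G} : x ∈ h.Et ↔ t * x * t ∈ E := Iff.rfl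

theorem Et_le (h : Outer t K E) : h.Et ≤ h.wr.E2 := by
  intro x hx
  rw [mem_Et] at hx
  have := h.wr.conj_mem_E2 hx
  rwa [h.wr.conj_conj] at this

theorem comm_Et (h : Outer t K E) {x y : G} (hx : x ∈ E) (hy : y ∈ h.Et) : x * y = y * x := by
  have := h.wr.comm x hx _ hy
  rwa [h.wr.conj_conj] at this

theorem E2_le_nor_Et [Finite G] (h : Outer t K E) : h.wr.E2 ≤ normalizer (h.Et : Set G) := by
  intro x hx
  apply mem_normalizer_of_conj_le
  intro y hy
  rw [mem_Et] at hy ⊢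
  have h1 := conj_mem_of_mem_normalizer (h.E2_le (h.wr.conj_E2 hx)) hy
  rw [h.wr.conj_inv] at h1
  rwa [← h.wr.conj_mul, ← h.wr.conj_mul] at h1

/-- a `2`-element `x y` of `P`, `x ∈ F`, `y` centralising `F`: then `x ∈ P` -/
theorem mem_P [Finite G] (h : Outer t K E) {u : G} {P : Subgroup G}
    (hP : IsSyl P (centralizer {u}))
    (hPS : ∀ x ∈ P, ∃ e ∈ h.wr.E2, ∃ c, c * t = t * c ∧ x = e * c) {F : Subgroup G}
    (hF : F ≤ h.wr.E2) (hn : h.wr.E2 ≤ normalizer (F : Set G)) {x y : G} (hx : x ∈ F)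
    (hxu : x * u = u * x) (hy : ∀ f ∈ F, y * f = f * y) (hxy : x * y ∈ P)
    (hxy' : x * y ∈ h.wr.E2) {k : ℕ} (hk : x ^ 2 ^ k = 1) : x ∈ P := by
  have h1 := h.isSyl_inf hP hPS hF hn
  refine (mem_inf.1 (mem_of_isSyl h1 hk (mem_inf.2 ⟨hx, mem_centralizer_singleton_iff.2 hxu⟩)
    ?_)).1
  intro p hp
  obtain ⟨hp1, hp2⟩ := mem_inf.1 hp
  have h2 : x * p * x⁻¹ = x * y * p * (x * y)⁻¹ := by
    have h3 := hy p hp2
    calc x * p * x⁻¹ = x * (p * y) * y⁻¹ * x⁻¹ := by group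
      _ = x * (y * p) * y⁻¹ * x⁻¹ := by rw [h3]
      _ = x * y * p * (x * y)⁻¹ := by group
  rw [h2]
  refine mem_inf.2 ⟨mul_mem (mul_mem hxy hp1) (inv_mem hxy), ?_⟩
  exact conj_mem_of_mem_normalizer (hn hxy') hp2

theorem Et_conj [Finite G] (h : Outer t K E) {e c : G} (he : e ∈ h.wr.E2) (hc : c * t = t * c)
    (hn : e * c ∈ normalizer (E : Set G)) {y : G} (hy : y ∈ h.Et) :
    e * c * y * (e * c)⁻¹ ∈ h.Et := by
  rw [mem_Et] at hy ⊢
  have h1 := conj_mem_of_mem_normalizer (h.conj_t_nor he hc hn) hy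
  have h2 : t * (e * c) * t * (t * y * t) * (t * (e * c) * t)⁻¹ = t * (e * c * y * (e * c)⁻¹) * t := by
    rw [h.wr.conj_inv, ← h.wr.conj_mul, ← h.wr.conj_mul]
  rwa [h2] at h1

/-- the elements of `C_{E2}(u)` are products of elements of `C_E(u)` and `C_{Eᵗ}(u)` -/
theorem split_comm [Finite G] (h : Outer t K E) {u : G} (huu : u * u = 1)
    (hu : u ∈ normalizer (E : Set G)) (hue : ∃ e ∈ h.wr.E2, ∃ c, c * t = t * c ∧ u = e * c)
    {n : G} (hn : n ∈ h.wr.E2) (hnu : n * u = u * n) :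
    ∃ a ∈ E, ∃ b ∈ h.Et, n = a * b ∧ a * u = u * a ∧ b * u = u * b := by
  obtain ⟨a, ha, v, hv, hnav⟩ := hn
  set b := t * v * t with hb
  have hbE : b ∈ h.Et := by rw [mem_Et, hb, h.wr.conj_conj]; exact hv
  have ui : u⁻¹ = u := inv_eq_of_mul_eq_one_right huu
  have hua : u * a * u⁻¹ ∈ E := conj_mem_of_mem_normalizer hu ha
  have hub : u * b * u⁻¹ ∈ h.Et := by
    obtain ⟨e, he, c, hc, huec⟩ := hue
    rw [huec] at hu ⊢
    exact h.Et_conj he hc hu hbE
  set ze := a⁻¹ * (u * a * u⁻¹) with hze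
  have hzE : ze ∈ E := mul_mem (inv_mem ha) hua
  have hze2 : ze = b * (u * b * u⁻¹)⁻¹ := by
    have h1 : u * a * u⁻¹ * (u * b * u⁻¹) = a * b := by
      calc u * a * u⁻¹ * (u * b * u⁻¹) = u * (a * b) * u⁻¹ := by group
        _ = n * u * u⁻¹ := by rw [← hnav, hnu]
        _ = a * b := by rw [hnav]; group
    have h2 : u * a * u⁻¹ = a * b * (u * b * u⁻¹)⁻¹ := by rw [← h1]; group
    rw [hze, h2]; group
  have hzEt : ze ∈ h.Et := by
    rw [hze2]
    exact mul_mem hbE (inv_mem hub)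
  have hzt : t * ze * t ∈ E := hzEt
  -- `u` inverts `ze`
  have h3 : u * a * u⁻¹ = a * ze := by rw [hze]; group
  have hinv : u * ze * u⁻¹ = ze⁻¹ := by
    have h4 : a = a * ze * (u * ze * u⁻¹) := by
      calc a = u * u * a * (u * u)⁻¹ := by rw [huu]; group
        _ = u * (u * a * u⁻¹) * u⁻¹ := by group
        _ = u * (a * ze) * u⁻¹ := by rw [h3]
        _ = u * a * u⁻¹ * (u * ze * u⁻¹) := by group
        _ = a * ze * (u * ze * u⁻¹) := by rw [h3]
    have h5 : ze * (u * ze * u⁻¹) = 1 := by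
      calc ze * (u * ze * u⁻¹) = a⁻¹ * (a * ze * (u * ze * u⁻¹)) := by group
        _ = 1 := by rw [← h4]; group
    exact (inv_eq_of_mul_eq_one_right h5).symm
  obtain ⟨j, hj⟩ := h.wr.odd_of_mem hzE hzt
  set w := ze ^ (j + 1) with hw
  have hww : w * w = ze := by
    rw [hw, ← pow_add, show j + 1 + (j + 1) = (2 * j + 1) + 1 by ring, ← hj, pow_succ,
      pow_orderOf_eq_one, one_mul]
  have hwE : w ∈ E := pow_mem hzE _
  have hwEt : w ∈ h.Et := pow_mem hzEt _
  have hwu : u * w * u⁻¹ = w⁻¹ := by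
    rw [hw, ← inv_pow, ← hinv, conj_pow]
  have ha1 : u * (a * w) * u⁻¹ = a * w := by
    calc u * (a * w) * u⁻¹ = u * a * u⁻¹ * (u * w * u⁻¹) := by group
      _ = a * (w * w) * w⁻¹ := by rw [h3, hwu, hww]
      _ = a * w := by group
  have ha2 : a * w * u = u * (a * w) := by
    calc a * w * u = u * (a * w) * u⁻¹ * u := by rw [ha1]
      _ = u * (a * w) := by group
  refine ⟨a * w, mul_mem ha hwE, w⁻¹ * b, mul_mem (inv_mem hwEt) hbE, ?_, ha2, ?_⟩
  · rw [hnav]; group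
  · have h6 : w⁻¹ * b = (a * w)⁻¹ * n := by rw [hnav]; group
    have h7 : Commute (a * w) u := ha2
    rw [h6]
    exact (h7.inv_left.mul_left hnu).eq

/-- a common multiple `m` of odd numbers with `n ^ m = n` -/
theorem exists_pow [Finite G] {a b n : G} {k : ℕ} (hn : n ^ 2 ^ k = 1) :
    ∃ m i : ℕ, n ^ m = n ∧ (a ^ m) ^ 2 ^ i = 1 ∧ (b ^ m) ^ 2 ^ i = 1 := by
  obtain ⟨i, r, hr, hi⟩ := Nat.exists_eq_two_pow_mul_odd (orderOf_pos a).ne'
  obtain ⟨j, s, hs, hj⟩ := Nat.exists_eq_two_pow_mul_odd (orderOf_pos b).ne'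
  have hcop : Nat.Coprime (r * s) (2 ^ k) :=
    Nat.Coprime.pow_right k ((hr.mul hs).coprime_two_right)
  obtain ⟨l, hl⟩ : ∃ l : ℕ, r * s * l ≡ 1 [MOD 2 ^ k] := by
    rcases Nat.eq_zero_or_pos k with rfl | hk
    · exact ⟨0, by rw [pow_zero]; exact Nat.modEq_one⟩
    · obtain ⟨l, hl⟩ := Nat.exists_mul_mod_eq_one_of_coprime hcop (Nat.one_lt_two_pow hk.ne')
      refine ⟨l, ?_⟩
      rw [Nat.ModEq, hl.2, Nat.mod_eq_of_lt (Nat.one_lt_two_pow hk.ne')]
  refine ⟨r * s * l, i + j, ?_, ?_, ?_⟩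
  · have h1 : n ^ (r * s * l) = n ^ 1 := by
      rw [pow_eq_pow_iff_modEq]
      exact hl.of_dvd (orderOf_dvd_of_pow_eq_one hn)
    rw [h1, pow_one]
  · rw [← pow_mul]
    apply orderOf_dvd_iff_pow_eq_one.1
    rw [hi, pow_add]
    exact ⟨s * l * 2 ^ j, by ring⟩
  · rw [← pow_mul]
    apply orderOf_dvd_iff_pow_eq_one.1
    rw [hj, pow_add]
    exact ⟨r * l * 2 ^ i, by ring⟩

/-- `P ∩ E2 = (P ∩ E)(P ∩ Eᵗ)` -/
theorem split_P [Finite G] (h : Outer t K E) {u : G} {P : Subgroup G} (huu : u * u = 1)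
    (hu : u ∈ normalizer (E : Set G)) (hue : ∃ e ∈ h.wr.E2, ∃ c, c * t = t * c ∧ u = e * c)
    (hP : IsSyl P (centralizer {u}))
    (hPS : ∀ x ∈ P, ∃ e ∈ h.wr.E2, ∃ c, c * t = t * c ∧ x = e * c) {n : G} (hnP : n ∈ P)
    (hn : n ∈ h.wr.E2) : ∃ a ∈ P ⊓ E, ∃ b ∈ P ⊓ h.Et, n = a * b := by
  obtain ⟨a, ha, b, hb, hnab, hau, hbu⟩ := h.split_comm huu hu hue hn
    (mem_centralizer_singleton_iff.1 (hP.le hnP))
  obtain ⟨k, hk⟩ := hP.two ⟨n, hnP⟩
  have hk' : n ^ 2 ^ k = 1 := congrArg Subtype.val hk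
  obtain ⟨m, i, hm, hai, hbi⟩ := exists_pow (a := a) (b := b) hk'
  have hab : Commute a b := h.comm_Et ha hb
  have hnm : n = a ^ m * b ^ m := by
    rw [← hab.mul_pow, ← hnab, hm]
  have haE : a ^ m ∈ E := pow_mem ha m
  have hbE : b ^ m ∈ h.Et := pow_mem hb m
  have habm : a ^ m * b ^ m = b ^ m * a ^ m := h.comm_Et haE hbE
  have h1 : a ^ m ∈ P := h.mem_P hP hPS h.wr.le_E2 h.E2_le haE
    ((show Commute a u from hau).pow_left m).eq (fun f hf => (h.comm_Et hf hbE).symm)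
    (hnm ▸ hnP) (hnm ▸ hn) hai
  have h2 : b ^ m ∈ P := h.mem_P hP hPS h.Et_le h.E2_le_nor_Et hbE
    ((show Commute b u from hbu).pow_left m).eq (fun f hf => h.comm_Et haE hf)
    (by rw [← habm]; exact hnm ▸ hnP) (by rw [← habm]; exact hnm ▸ hn) hbi
  exact ⟨a ^ m, mem_inf.2 ⟨h1, haE⟩, b ^ m, mem_inf.2 ⟨h2, hbE⟩, hnm⟩

theorem card_inf [Finite G] (h : Outer t K E) {u : G} {P : Subgroup G} (huu : u * u = 1)
    (hu : u ∈ normalizer (E : Set G)) (hue : ∃ e ∈ h.wr.E2, ∃ c, c * t = t * c ∧ u = e * c)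
    (hP : IsSyl P (centralizer {u}))
    (hPS : ∀ x ∈ P, ∃ e ∈ h.wr.E2, ∃ c, c * t = t * c ∧ x = e * c) :
    Nat.card (P ⊓ h.wr.E2 : Subgroup G) =
      Nat.card (P ⊓ E : Subgroup G) * Nat.card (P ⊓ h.Et : Subgroup G) := by
  rw [← Nat.card_prod]
  symm
  apply Nat.card_congr
  refine Equiv.ofBijective (fun x : (P ⊓ E : Subgroup G) × (P ⊓ h.Et : Subgroup G) =>
    (⟨(x.1 : G) * (x.2 : G), mem_inf.2 ⟨mul_mem (mem_inf.1 x.1.2).1 (mem_inf.1 x.2.2).1,
      mul_mem (h.wr.le_E2 (mem_inf.1 x.1.2).2) (h.Et_le (mem_inf.1 x.2.2).2)⟩⟩ :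
      (P ⊓ h.wr.E2 : Subgroup G))) ⟨?_, ?_⟩
  · rintro ⟨⟨a, ha⟩, ⟨b, hb⟩⟩ ⟨⟨a', ha'⟩, ⟨b', hb'⟩⟩ hxy
    have h1 : a * b = a' * b' := congrArg Subtype.val hxy
    obtain ⟨haP, haE⟩ := mem_inf.1 ha
    obtain ⟨haP', haE'⟩ := mem_inf.1 ha'
    obtain ⟨hbP, hbE⟩ := mem_inf.1 hb
    obtain ⟨hbP', hbE'⟩ := mem_inf.1 hb'
    set c := a'⁻¹ * a with hc
    have h2 : c = b' * b⁻¹ := by
      calc c = a'⁻¹ * (a * b) * b⁻¹ := by rw [hc]; group
        _ = b' * b⁻¹ := by rw [h1]; group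
    have hcE : c ∈ E := mul_mem (inv_mem haE') haE
    have hcEt : c ∈ h.Et := by rw [h2]; exact mul_mem hbE' (inv_mem hbE)
    have hodd := h.wr.odd_of_mem hcE hcEt
    obtain ⟨k, hk⟩ := hP.two ⟨c, mul_mem (inv_mem haP') haP⟩
    have hk' : c ^ 2 ^ k = 1 := congrArg Subtype.val hk
    have h3 : c = 1 := by
      rw [← orderOf_eq_one_iff]
      have h4 := orderOf_dvd_of_pow_eq_one hk'
      exact Nat.Coprime.eq_one_of_dvd ((Nat.Coprime.pow_right k hodd.coprime_two_right)) h4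
    have h5 : a = a' := by
      have : a'⁻¹ * a = 1 := h3
      exact (inv_mul_eq_one.1 this).symm
    have h6 : b = b' := by
      have : b' * b⁻¹ = 1 := by rw [← h2, h3]
      exact (mul_inv_eq_one.1 this).symm
    subst h5 h6
    rfl
  · rintro ⟨n, hn⟩
    obtain ⟨a, ha, b, hb, hab⟩ := h.split_P huu hu hue hP hPS (mem_inf.1 hn).1 (mem_inf.1 hn).2
    exact ⟨⟨⟨a, ha⟩, ⟨b, hb⟩⟩, Subtype.ext hab.symm⟩

theorem card_le_of_conj [Finite G] {A B : Subgroup G} {q : G} (hq : ∀ a ∈ A, q * a * q⁻¹ ∈ B) :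
    Nat.card A ≤ Nat.card B := by
  refine Nat.card_le_card_of_injective (fun a : A => (⟨q * a * q⁻¹, hq a a.2⟩ : B)) ?_
  rintro ⟨a, ha⟩ ⟨b, hb⟩ hab
  have h1 : q * a * q⁻¹ = q * b * q⁻¹ := congrArg Subtype.val hab
  apply Subtype.ext
  show a = b
  calc a = q⁻¹ * (q * a * q⁻¹) * q := by group
    _ = b := by rw [h1]; group

/-- the elements of `E2 C(t)` not normalising `E` -/
theorem swap_mem (h : Outer t K E) {x : G} (hx : ∃ e ∈ h.wr.E2, ∃ c, c * t = t * c ∧ x = e * c)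
    (hn : x ∉ normalizer (E : Set G)) :
    t * x ∈ normalizer (E : Set G) ∧ x * t ∈ normalizer (E : Set G) := by
  obtain ⟨e, he, c, hc, rfl⟩ := hx
  have h1 : t * c ∈ normalizer (E : Set G) :=
    (h.nor c hc).resolve_left fun h2 => hn (mul_mem (h.E2_le he) h2)
  have h2 : t * (e * c) = t * e * t * (t * c) := by
    have : t * e * t * (t * c) = t * e * (t * t) * c := by group
    rw [this, h.wr.tt]; group
  have h3 : t * (e * c) ∈ normalizer (E : Set G) := by
    rw [h2]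
    exact mul_mem (h.E2_le (h.wr.conj_E2 he)) h1
  refine ⟨h3, ?_⟩
  rw [h2] at h3
  have h4 := h.conj_t_nor (h.wr.conj_E2 he) (show t * c * t = t * (t * c) by
    rw [mul_assoc, hc]) h3
  have h5 : t * (t * e * t * (t * c)) * t = e * c * t := by
    rw [h.wr.conj_mul, h.wr.conj_conj]
    calc e * (t * (t * c) * t) = e * (t * t) * c * t := by group
      _ = e * c * t := by rw [h.wr.tt, mul_one]
  rwa [h5] at h4

/-- the case in which `P` does not normalise `E` -/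
theorem card_of_not_le [Finite G] (h : Outer t K E) {g u : G} {P : Subgroup G}
    (hg : g * u * g⁻¹ = t) (hP : IsSyl P (centralizer {u}))
    (hPS : ∀ x ∈ P, ∃ e ∈ h.wr.E2, ∃ c, c * t = t * c ∧ x = e * c)
    (hu : u ∈ normalizer (E : Set G)) (un : u ∉ h.wr.E2)
    (hue : ∃ e ∈ h.wr.E2, ∃ c, c * t = t * c ∧ u = e * c)
    (hle : ¬ P ≤ normalizer (E : Set G)) : ∃ b, Nat.card P = b * b := by
  have huu : u * u = 1 := by
    have h1 : g * (u * u) * g⁻¹ = 1 := by
      calc g * (u * u) * g⁻¹ = g * u * g⁻¹ * (g * u * g⁻¹) := by group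
        _ = 1 := by rw [hg, h.wr.tt]
    calc u * u = g⁻¹ * (g * (u * u) * g⁻¹) * g := by group
      _ = 1 := by rw [h1]; group
  have huP : u ∈ P := by
    apply mem_of_isSyl hP (k := 1) (by rw [pow_one, pow_two, huu])
      (mem_centralizer_singleton_iff.2 rfl)
    intro p hp
    rw [← mem_centralizer_singleton_iff.1 (hP.le hp), mul_inv_cancel_right]
    exact hp
  obtain ⟨p, hp, hpn⟩ : ∃ p ∈ P, p ∉ normalizer (E : Set G) := by
    by_contra hcon
    push Not at hcon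
    exact hle hcon
  -- `P ∩ N(E)` has index `2` in `P`
  have i1 : (P ⊓ normalizer (E : Set G) : Subgroup G).relIndex P = 2 := by
    rw [relIndex_eq_two_iff]
    refine ⟨p, hp, fun b hb => ?_⟩
    by_cases hbn : b ∈ normalizer (E : Set G)
    · right
      refine ⟨mem_inf.2 ⟨hb, hbn⟩, fun hcon => hpn ?_⟩
      have h1 := mul_mem (inv_mem hbn) (mem_inf.1 hcon).2
      rwa [inv_mul_cancel_left] at h1
    · left
      refine ⟨mem_inf.2 ⟨mul_mem hb hp, ?_⟩, fun hcon => hbn (mem_inf.1 hcon).2⟩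
      have h1 := mul_mem (h.swap_mem (hPS b hb) hbn).2 (h.swap_mem (hPS p hp) hpn).1
      have h2 : b * t * (t * p) = b * p := by
        calc b * t * (t * p) = b * (t * t) * p := by group
          _ = b * p := by rw [h.wr.tt, mul_one]
      rwa [h2] at h1
  -- `P ∩ E2` has index `2` in `P ∩ N(E)`
  have i2 : (P ⊓ h.wr.E2 : Subgroup G).relIndex (P ⊓ normalizer (E : Set G)) = 2 := by
    rw [relIndex_eq_two_iff]
    refine ⟨u, mem_inf.2 ⟨huP, hu⟩, fun b hb => ?_⟩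
    obtain ⟨hbP, hbn⟩ := mem_inf.1 hb
    by_cases hbE : b ∈ h.wr.E2
    · right
      refine ⟨mem_inf.2 ⟨hbP, hbE⟩, fun hcon => un ?_⟩
      have h1 := mul_mem (inv_mem hbE) (mem_inf.1 hcon).2
      rwa [inv_mul_cancel_left] at h1
    · left
      refine ⟨mem_inf.2 ⟨mul_mem hbP huP, ?_⟩, fun hcon => hbE (mem_inf.1 hcon).2⟩
      obtain ⟨e, he, c, hc, hbec⟩ := hPS b hbP
      obtain ⟨e', he', c', hc', huec⟩ := hue
      have hcn : c ∈ normalizer (E : Set G) := by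
        have := mul_mem (inv_mem (h.E2_le he)) hbn
        rwa [hbec, inv_mul_cancel_left] at this
      have hcn' : c' ∈ normalizer (E : Set G) := by
        have := mul_mem (inv_mem (h.E2_le he')) hu
        rwa [huec, inv_mul_cancel_left] at this
      have hcK : c ∉ K := fun hk => hbE (by rw [hbec]; exact mul_mem he (h.wr.K_le hk))
      have hcK' : c' ∉ K := fun hk => un (by rw [huec]; exact mul_mem he' (h.wr.K_le hk))
      have h1 := h.two c c' hc hc' hcn hcn' hcK hcK'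
      have h2 : b * u = e * (c * e' * c⁻¹) * (c * c') := by rw [hbec, huec]; group
      rw [h2]
      exact mul_mem (mul_mem he (h.conj_E2 hc he')) (h.wr.K_le h1)
  -- the two factors have the same order
  have c1 : Nat.card (P ⊓ E : Subgroup G) = Nat.card (P ⊓ h.Et : Subgroup G) := by
    apply le_antisymm
    · apply card_le_of_conj (q := p)
      intro a ha
      obtain ⟨haP, haE⟩ := mem_inf.1 ha
      refine mem_inf.2 ⟨mul_mem (mul_mem hp haP) (inv_mem hp), ?_⟩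
      rw [mem_Et]
      have h1 := conj_mem_of_mem_normalizer (h.swap_mem (hPS p hp) hpn).1 haE
      have h2 : t * p * a * (t * p)⁻¹ = t * (p * a * p⁻¹) * t := by
        rw [mul_inv_rev, h.tinv]; group
      rwa [h2] at h1
    · apply card_le_of_conj (q := p)
      intro a ha
      obtain ⟨haP, haE⟩ := mem_inf.1 ha
      refine mem_inf.2 ⟨mul_mem (mul_mem hp haP) (inv_mem hp), ?_⟩
      rw [mem_Et] at haE
      have h1 := conj_mem_of_mem_normalizer (h.swap_mem (hPS p hp) hpn).2 haE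
      have h2 : p * t * (t * a * t) * (p * t)⁻¹ = p * a * p⁻¹ := by
        rw [mul_inv_rev, h.tinv]
        calc p * t * (t * a * t) * (t * p⁻¹) = p * (t * t) * a * (t * t) * p⁻¹ := by group
          _ = p * a * p⁻¹ := by rw [h.wr.tt]; group
      rwa [h2] at h1
  have c2 := h.card_inf huu hu hue hP hPS
  rw [← c1] at c2
  have hEn : P ⊓ h.wr.E2 ≤ P ⊓ normalizer (E : Set G) := inf_le_inf_left _ h.E2_le
  have c3 : (P ⊓ h.wr.E2 : Subgroup G).relIndex P = 4 := by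
    rw [← relIndex_mul_relIndex _ _ _ hEn inf_le_left, i1, i2]
  have c4 : Nat.card P = Nat.card (P ⊓ h.wr.E2 : Subgroup G) * 4 := by
    rw [← c3]
    have h1 := Subgroup.card_mul_index ((P ⊓ h.wr.E2 : Subgroup G).subgroupOf P)
    rw [← h1, Nat.card_congr (subgroupOfEquivOfLe (inf_le_left : P ⊓ h.wr.E2 ≤ P)).toEquiv]
    rfl
  refine ⟨Nat.card (P ⊓ E : Subgroup G) * 2, ?_⟩
  rw [c4, c2]
  ring

/-- **The wreath lemma with an outer part.** -/
theorem exists_hom [Finite G] (h : Outer t K E) : ∃ f : G →* ℤˣ, f t = -1 := by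
  by_contra hcon
  push Not at hcon
  have hG : ∀ f : G →* ℤˣ, f t = 1 := fun f =>
    (Int.units_eq_one_or (f t)).resolve_right (hcon f)
  obtain ⟨g, u, P, hg, hP, hPS, hu, un, tu, hue⟩ := h.exists_P hG
  by_cases hle : P ≤ normalizer (E : Set G)
  · exact h.false_of_le hg hP hPS un hle
  · obtain ⟨b, hb⟩ := h.card_of_not_le hg hP hPS hu un hue hle
    refine h.par _ (isSyl_conj hg hP) b ?_
    rw [← hb]
    exact (Nat.card_congr (P.equivMapOfInjective _ (MulAut.conj g).injective).toEquiv).symm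

end Outer

end Cfsg.Agent.OddHalf.D8.WreathOut
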