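import Cfsg.Agent.OddHalf.TFormula

/-!
# End of `K = Fi23` in D8 (helper919, bb ODD #8477 (3), (4))

`D` a conjugation invariant set of involutions in which the product of two distinct commuting
members determines the pair (`Pairs D`). Then two members of `D` commute or have a product of odd
order, the members of `D` in a 2-group commute.

`End D t T`: moreover `D` is the class of `t` and `T` is a Sylow subgroup of `C(t)`. Then
`N := N_G(D ∩ T)` is transitive on `D ∩ T`, contains all Sylow subgroups above `T`, `T` lies in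
exactly one conjugate of `N`, and a homomorphism `λ : N → ±1` with `λ t = -1` gives one of `G`.
-/

set_option autoImplicit false

namespace Cfsg.Agent.OddHalf.D8.FiEnd

open MulAction Subgroup

variable {G : Type*} [Group G]

/-- the product of two distinct commuting members determines the pair -/
structure Pairs (D : Set G) : Prop where
  sq : ∀ x ∈ D, x * x = 1
  ne : ∀ x ∈ D, x ≠ 1
  conj : ∀ g : G, ∀ x ∈ D, g * x * g⁻¹ ∈ D
  pair : ∀ x ∈ D, ∀ y ∈ D, ∀ z ∈ D, ∀ w ∈ D, x ≠ y → x * y = y * x → z ≠ w → z * w = w * z →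
    x * y = z * w → z = x ∨ z = y

namespace Pairs

variable {D : Set G}

theorem inv_eq (h : Pairs D) {x : G} (hx : x ∈ D) : x⁻¹ = x :=
  inv_eq_of_mul_eq_one_left (h.sq x hx)

theorem conj_pow (h : Pairs D) {x y : G} (hx : x ∈ D) (hy : y ∈ D) (n : ℕ) :
    x * (x * y) ^ n * x = ((x * y) ^ n)⁻¹ := by
  induction n with
  | zero => rw [pow_zero, mul_one, inv_one, h.sq x hx]
  | succ n ih =>
    have hxx := h.sq x hx
    have hyy := h.sq y hy
    calc x * (x * y) ^ (n + 1) * x = (x * (x * y) ^ n * x) * (x * (x * y) * x) := by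
          rw [pow_succ]
          calc x * ((x * y) ^ n * (x * y)) * x = x * (x * y) ^ n * 1 * ((x * y) * x) := by group
            _ = x * (x * y) ^ n * (x * x) * ((x * y) * x) := by rw [hxx]
            _ = (x * (x * y) ^ n * x) * (x * (x * y) * x) := by group
      _ = ((x * y) ^ n)⁻¹ * (y * x) := by
          rw [ih]
          congr 1
          calc x * (x * y) * x = (x * x) * y * x := by group
            _ = y * x := by rw [hxx, one_mul]
      _ = ((x * y) ^ (n + 1))⁻¹ := by
          rw [pow_succ', mul_inv_rev, mul_inv_rev, h.inv_eq hx, h.inv_eq hy]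

/-- `x (x y)^n` is in `D` -/
theorem mul_pow_mem (h : Pairs D) {x y : G} (hx : x ∈ D) (hy : y ∈ D) (n : ℕ) :
    x * (x * y) ^ n ∈ D := by
  have hxx := h.sq x hx
  obtain ⟨k, hk⟩ | ⟨k, hk⟩ := Nat.even_or_odd n
  · -- `x r^{2k} = r^{-k} x r^k`
    have h1 := h.conj ((x * y) ^ k)⁻¹ x hx
    have h2 : ((x * y) ^ k)⁻¹ * x * ((x * y) ^ k)⁻¹⁻¹ = x * (x * y) ^ n := by
      rw [inv_inv, ← h.conj_pow hx hy k]
      calc x * (x * y) ^ k * x * x * (x * y) ^ k = x * (x * y) ^ k * (x * x) * (x * y) ^ k := by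
            group
        _ = x * ((x * y) ^ k * (x * y) ^ k) := by rw [hxx]; group
        _ = x * (x * y) ^ n := by rw [← pow_add, ← hk]
    rw [← h2]; exact h1
  · -- `x r^{2k+1} = r^{-k} y r^k`
    have h1 := h.conj ((x * y) ^ k)⁻¹ y hy
    have h2 : ((x * y) ^ k)⁻¹ * y * ((x * y) ^ k)⁻¹⁻¹ = x * (x * y) ^ n := by
      rw [inv_inv, ← h.conj_pow hx hy k]
      calc x * (x * y) ^ k * x * y * (x * y) ^ k = x * ((x * y) ^ k * (x * y) * (x * y) ^ k) := by
            group
        _ = x * (x * y) ^ n := by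
            congr 1
            rw [← pow_succ, ← pow_add]
            congr 1
            omega
    rw [← h2]; exact h1

/-- two members of `D` commute or have a product of odd order -/
theorem comm_or_odd [Finite G] (h : Pairs D) {x y : G} (hx : x ∈ D) (hy : y ∈ D) :
    x * y = y * x ∨ Odd (orderOf (x * y)) := by
  by_contra hcon
  rw [not_or, Nat.not_odd_iff_even] at hcon
  obtain ⟨hxy, m, hm⟩ := hcon
  have hpos : 0 < orderOf (x * y) := orderOf_pos _
  set i := (x * y) ^ m with hi
  have hii : i * i = 1 := by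
    rw [hi, ← pow_add, ← hm, pow_orderOf_eq_one]
  have hi1 : i ≠ 1 := by
    intro h1
    have := orderOf_dvd_of_pow_eq_one (hi ▸ h1)
    have := Nat.le_of_dvd (by omega) this
    omega
  have hinv : i⁻¹ = i := inv_eq_of_mul_eq_one_left hii
  have hxi : x * i = i * x := by
    have h1 := h.conj_pow hx hy m
    rw [← hi, hinv] at h1
    calc x * i = (x * i * x) * x⁻¹ := by group
      _ = i * x := by rw [h1, h.inv_eq hx]
  have hyi : y * i = i * y := by
    have h1 : (x * y) * i = i * (x * y) := by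
      rw [hi]; exact ((Commute.refl (x * y)).pow_right m).eq
    calc y * i = x⁻¹ * ((x * y) * i) := by group
      _ = x⁻¹ * (i * (x * y)) := by rw [h1]
      _ = x⁻¹ * (i * x) * y := by group
      _ = x⁻¹ * (x * i) * y := by rw [hxi]
      _ = i * y := by group
  have hxiD : x * i ∈ D := h.mul_pow_mem hx hy m
  have hyiD : y * i ∈ D := by
    have h1 := h.mul_pow_mem hx hy (m + 1)
    have h2 : x * (x * y) ^ (m + 1) = y * i := by
      rw [pow_succ', ← hi]
      calc x * (x * y * i) = (x * x) * y * i := by group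
        _ = y * i := by rw [h.sq x hx, one_mul]
    rw [← h2]; exact h1
  have hne : ∀ z ∈ D, z ≠ z * i := fun z _ hz => hi1 (mul_eq_left.1 hz.symm)
  have hprod : ∀ z ∈ D, z * (z * i) = i := fun z hz => by rw [← mul_assoc, h.sq z hz, one_mul]
  have hcom : ∀ z ∈ D, z * i = i * z → z * (z * i) = z * i * z := fun z hz hzi => by
    rw [mul_assoc, ← hzi]
  have := h.pair x hx (x * i) hxiD y hy (y * i) hyiD (hne x hx) (hcom x hx hxi) (hne y hy)
    (hcom y hy hyi) (by rw [hprod x hx, hprod y hy])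
  rcases this with h1 | h1
  · exact hxy (by rw [h1])
  · apply hxy
    rw [h1]
    calc x * (x * i) = x * (i * x) := by rw [hxi]
      _ = x * i * x := by group

/-- members of `D` in a 2-group commute -/
theorem comm_of_isPGroup [Finite G] (h : Pairs D) {P : Subgroup G} (hP : IsPGroup 2 P) {x y : G}
    (hx : x ∈ D) (hxP : x ∈ P) (hy : y ∈ D) (hyP : y ∈ P) : x * y = y * x := by
  rcases h.comm_or_odd hx hy with h1 | h1
  · exact h1
  · obtain ⟨k, hk⟩ := hP ⟨x * y, P.mul_mem hxP hyP⟩
    have h2 : (x * y) ^ 2 ^ k = 1 := congrArg Subtype.val hk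
    have h3 := orderOf_dvd_of_pow_eq_one h2
    obtain ⟨j, -, hj⟩ := (Nat.dvd_prime_pow Nat.prime_two).1 h3
    have h4 : orderOf (x * y) = 1 := by
      rcases Nat.eq_zero_or_pos j with hj0 | hj0
      · rw [hj, hj0, pow_zero]
      · exfalso
        rw [hj] at h1
        exact (Nat.not_even_iff_odd.2 h1) ((Nat.even_pow.2 ⟨even_two, by omega⟩))
    have h5 : x * y = 1 := orderOf_eq_one_iff.1 h4
    have h6 : y = x := by
      calc y = x⁻¹ * (x * y) := by group
        _ = x := by rw [h5, mul_one, h.inv_eq hx]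
    rw [h6]

end Pairs

/-- `D` is the class of `t`, `T` a Sylow subgroup of `C(t)` -/
structure End (D : Set G) (t : G) (T : Subgroup G) : Prop where
  pairs : Pairs D
  tD : t ∈ D
  cls : ∀ x ∈ D, ∃ g : G, x = g * t * g⁻¹
  pT : IsPGroup 2 T
  tT : t ∈ T
  tc : ∀ x ∈ T, x * t = t * x
  max : ∀ P : Subgroup G, IsPGroup 2 P → T ≤ P → (∀ x ∈ P, x * t = t * x) → P ≤ T

namespace End

variable {D : Set G} {t : G} {T : Subgroup G}

/-- `D ∩ P = D ∩ T` for every 2-group `P ≥ T` -/
theorem mem_T [Finite G] (E : End D t T) {P : Subgroup G} (hP : IsPGroup 2 P) (hTP : T ≤ P)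
    {x : G} (hx : x ∈ D) (hxP : x ∈ P) : x ∈ T := by
  have hxt : x * t = t * x := E.pairs.comm_of_isPGroup hP hx hxP E.tD (hTP E.tT)
  have h1 : P ⊓ centralizer ({t} : Set G) ≤ T := by
    apply E.max
    · exact hP.to_le inf_le_left
    · exact le_inf hTP fun y hy => mem_centralizer_singleton_iff.2 (E.tc y hy)
    · intro y hy
      exact mem_centralizer_singleton_iff.1 hy.2
  exact h1 ⟨hxP, mem_centralizer_singleton_iff.2 hxt⟩

/-- 2-groups above `T` normalise `D ∩ T` -/
theorem le_normalizer [Finite G] (E : End D t T) {P : Subgroup G} (hP : IsPGroup 2 P)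
    (hTP : T ≤ P) : P ≤ normalizer (D ∩ T : Set G) := by
  intro g hg
  rw [mem_set_normalizer_iff]
  intro d
  constructor
  · rintro ⟨hd, hdT⟩
    refine ⟨E.pairs.conj g d hd, ?_⟩
    exact E.mem_T hP hTP (E.pairs.conj g d hd)
      (P.mul_mem (P.mul_mem hg (hTP hdT)) (P.inv_mem hg))
  · rintro ⟨hd, hdT⟩
    have h1 : d = g⁻¹ * (g * d * g⁻¹) * g⁻¹⁻¹ := by group
    have h2 : d ∈ D := by rw [h1]; exact E.pairs.conj _ _ hd
    refine ⟨h2, E.mem_T hP hTP h2 ?_⟩
    rw [h1]
    exact P.mul_mem (P.mul_mem (P.inv_mem hg) (hTP hdT)) (P.inv_mem (P.inv_mem hg))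

theorem t_mem (E : End D t T) : t ∈ (D ∩ T : Set G) := ⟨E.tD, E.tT⟩

theorem t_mem_normalizer [Finite G] (E : End D t T) : t ∈ normalizer (D ∩ T : Set G) :=
  E.le_normalizer E.pT le_rfl E.tT

/-- the subgroup generated by a set of commuting involutions is a 2-group -/
theorem isPGroup_closure {Δ : Set G} (hsq : ∀ x ∈ Δ, x * x = 1)
    (hc : ∀ x ∈ Δ, ∀ y ∈ Δ, x * y = y * x) : IsPGroup 2 (closure Δ) := by
  have hcomm : ∀ x ∈ closure Δ, ∀ y ∈ closure Δ, x * y = y * x := by
    intro x hx y hy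
    have h1 : closure Δ ≤ centralizer (closure Δ : Set G) := by
      rw [closure_le]
      intro a ha
      rw [SetLike.mem_coe, mem_centralizer_iff]
      intro b hb
      have h2 : closure Δ ≤ centralizer ({a} : Set G) := by
        rw [closure_le]
        intro c hc'
        rw [SetLike.mem_coe, mem_centralizer_singleton_iff]
        exact hc c hc' a ha
      exact mem_centralizer_singleton_iff.1 (h2 hb)
    exact (mem_centralizer_iff.1 (h1 hx) y hy).symm
  intro x
  refine ⟨1, ?_⟩
  apply Subtype.ext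
  rw [pow_one]
  show (x : G) ^ 2 = 1
  obtain ⟨x, hx⟩ := x
  show x ^ 2 = 1
  induction hx using closure_induction with
  | mem a ha => rw [pow_two]; exact hsq a ha
  | one => exact one_pow 2
  | mul a b ha hb iha ihb =>
    rw [pow_two] at *
    calc a * b * (a * b) = a * (b * a) * b := by group
      _ = a * (a * b) * b := by rw [hcomm b hb a ha]
      _ = (a * a) * (b * b) := by group
      _ = 1 := by rw [iha, ihb, mul_one]
  | inv a ha iha => rw [inv_pow, iha, inv_one]

/-- `T` lies in only one conjugate of `N = N_G(D ∩ T)` -/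
theorem mem_of_le_conj [Finite G] (E : End D t T) {g : G}
    (hg : ∀ x ∈ T, g⁻¹ * x * g ∈ normalizer (D ∩ T : Set G)) :
    g ∈ normalizer (D ∩ T : Set G) := by
  set Δ : Set G := D ∩ T with hΔ
  -- the conjugate set
  set Δ' : Set G := {x | g⁻¹ * x * g ∈ Δ} with hΔ'
  have hD' : ∀ x ∈ Δ', x ∈ D := by
    intro x hx
    have h1 := E.pairs.conj g _ hx.1
    have h2 : g * (g⁻¹ * x * g) * g⁻¹ = x := by group
    rwa [h2] at h1
  have hcΔ : ∀ x ∈ Δ, ∀ y ∈ Δ, x * y = y * x := fun x hx y hy =>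
    E.pairs.comm_of_isPGroup E.pT hx.1 hx.2 hy.1 hy.2
  have hc' : ∀ x ∈ Δ', ∀ y ∈ Δ', x * y = y * x := by
    intro x hx y hy
    have h1 := hcΔ _ hx _ hy
    calc x * y = g * ((g⁻¹ * x * g) * (g⁻¹ * y * g)) * g⁻¹ := by group
      _ = g * ((g⁻¹ * y * g) * (g⁻¹ * x * g)) * g⁻¹ := by rw [h1]
      _ = y * x := by group
  have hB : IsPGroup 2 (closure Δ') :=
    isPGroup_closure (fun x hx => E.pairs.sq x (hD' x hx)) hc'
  have hTN : T ≤ normalizer ((closure Δ' : Subgroup G) : Set G) := by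
    intro x hx
    have key : ∀ y ∈ T, ∀ z ∈ Δ', y * z * y⁻¹ ∈ Δ' := by
      intro y hy z hz
      show g⁻¹ * (y * z * y⁻¹) * g ∈ Δ
      have h1 := hg y hy
      rw [mem_set_normalizer_iff] at h1
      have h2 := (h1 (g⁻¹ * z * g)).1 hz
      have h3 : g⁻¹ * y * g * (g⁻¹ * z * g) * (g⁻¹ * y * g)⁻¹ = g⁻¹ * (y * z * y⁻¹) * g := by
        group
      rwa [h3] at h2
    have key2 : ∀ y ∈ T, ∀ z ∈ closure Δ', y * z * y⁻¹ ∈ closure Δ' := by
      intro y hy z hz
      induction hz using closure_induction with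
      | mem a ha => exact subset_closure (key y hy a ha)
      | one => simp
      | mul a b _ _ iha ihb =>
        have : y * (a * b) * y⁻¹ = (y * a * y⁻¹) * (y * b * y⁻¹) := by group
        rw [this]; exact mul_mem iha ihb
      | inv a _ iha =>
        have : y * a⁻¹ * y⁻¹ = (y * a * y⁻¹)⁻¹ := by group
        rw [this]; exact inv_mem iha
    rw [mem_normalizer_iff]
    intro z
    constructor
    · intro hz; exact key2 x hx z hz
    · intro hz
      have h1 := key2 x⁻¹ (T.inv_mem hx) _ hz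
      have h2 : x⁻¹ * (x * z * x⁻¹) * x⁻¹⁻¹ = z := by group
      rwa [h2] at h1
  have hP : IsPGroup 2 (T ⊔ closure Δ' : Subgroup G) :=
    IsPGroup.to_sup_of_normal_right' E.pT hB hTN
  have hsub : ∀ x ∈ Δ', x ∈ Δ := by
    intro x hx
    refine ⟨hD' x hx, ?_⟩
    apply E.mem_T hP le_sup_left (hD' x hx)
    exact (le_sup_right : closure Δ' ≤ T ⊔ closure Δ') (subset_closure hx)
  -- finiteness
  have hmap : ∀ d ∈ Δ, g * d * g⁻¹ ∈ Δ := by
    intro d hd
    apply hsub
    show g⁻¹ * (g * d * g⁻¹) * g ∈ Δ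
    have : g⁻¹ * (g * d * g⁻¹) * g = d := by group
    rwa [this]
  rw [mem_set_normalizer_iff]
  intro d
  refine ⟨fun hd => hmap d hd, fun hd => ?_⟩
  -- injectivity on a finite set gives surjectivity
  have hinj : Set.InjOn (fun x => g * x * g⁻¹) Δ := by
    intro a _ b _ hab
    exact mul_left_cancel (mul_right_cancel hab)
  have hsurj : Set.SurjOn (fun x => g * x * g⁻¹) Δ Δ :=
    ((Set.toFinite Δ).injOn_iff_bijOn_of_mapsTo (fun d hd => hmap d hd)).1 hinj |>.surjOn
  obtain ⟨e, he, hee⟩ := hsurj hd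
  have : e = d := mul_left_cancel (mul_right_cancel hee)
  rwa [← this]

/-- **the transfer**: a sign on `N_G(D ∩ T)` which is `-1` at `t` extends (up to a factor) to `G` -/
theorem exists_hom [Finite G] (E : End D t T) (lam : normalizer (D ∩ T : Set G) →* ℤˣ)
    (hlam : lam ⟨t, E.t_mem_normalizer⟩ = -1) : ∃ mu : G →* ℤˣ, mu t = -1 := by
  classical
  have := Fintype.ofFinite (G ⧸ normalizer (D ∩ T : Set G))
  obtain ⟨f, hf, s, hs, hprod⟩ := TFormula.transfer_eq_prod _ lam t (E.pairs.sq t E.tD) T E.pT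
    (fun x hx => E.tc x hx)
  have hsm : ∀ x g : G, x • (g : G ⧸ normalizer (D ∩ T : Set G)) = g ↔
      g⁻¹ * x * g ∈ normalizer (D ∩ T : Set G) := by
    intro x g
    rw [MulAction.Quotient.smul_mk, smul_eq_mul, QuotientGroup.eq]
    have e : (x * g)⁻¹ * g = (g⁻¹ * x * g)⁻¹ := by group
    rw [e, inv_mem_iff]
  have hTN : T ≤ normalizer (D ∩ T : Set G) := E.le_normalizer E.pT le_rfl
  have hs1 : s = {((1 : G) : G ⧸ normalizer (D ∩ T : Set G))} := by
    ext q
    rw [hs, Finset.mem_singleton]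
    obtain ⟨g, rfl⟩ := QuotientGroup.mk_surjective q
    constructor
    · rintro ⟨-, h⟩
      have h1 : g ∈ normalizer (D ∩ T : Set G) :=
        E.mem_of_le_conj fun x hx => (hsm x g).1 (h x hx)
      rw [eq_comm, QuotientGroup.eq]
      simpa using h1
    · intro h
      rw [h]
      constructor
      · rw [hsm]; simpa using E.t_mem_normalizer
      · intro x hx; rw [hsm]; simpa using hTN hx
  refine ⟨MonoidHom.transfer lam, ?_⟩
  rw [hprod, hs1, Finset.prod_singleton]
  have h1 : (1 : G)⁻¹ * t * 1 ∈ normalizer (D ∩ T : Set G) := by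
    simpa using E.t_mem_normalizer
  rw [hf _ 1 rfl h1]
  have e : (⟨(1 : G)⁻¹ * t * 1, h1⟩ : normalizer (D ∩ T : Set G)) = ⟨t, E.t_mem_normalizer⟩ :=
    Subtype.ext (by simp)
  rw [e, hlam]

end End

end Cfsg.Agent.OddHalf.D8.FiEnd
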