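import Cfsg.Agent.OddHalf.D8.TypeE
import Cfsg.Agent.LargeExtra.Dickson
import Cfsg.Prelude.Def_ClassificationK

/-!
# ODD half, D8, the K-free core for `K = HS` (helper702, after helper896's text)

`H = C_G(z)`, `N = C_G(⟨t, z⟩)`, `F = O₂(H) = F*(H)`, `P ≤ N` perfect and normal in `N`, `R = 4 ∘ 2^{1+4} ≤ P`,
`u ∈ Z(R)` of order four, `u² = z`, centralised by `P`.

If every `λ : H → {±1}` has `λ(t) = 1` and `t ∉ F`:
* `Data.symplectic`: `F` is of symplectic type;
* `Data.rank_eq`, `Data.card_eq`: if `F` is extraspecial, then `|F| = 2^9`, `[V, t]` has order four and contains `u`;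
* `Data.not_large` (helper970): if moreover `t^h = t x₀` with `x₀` as in `HS`, then `F` is not extraspecial.

`FS.false_of_L`: if `F*(C(s))` is a 2-group, `t ∈ C(s)` an involution, then `C(⟨t, s⟩)` has no perfect normal subgroup
`L ≠ 1` with `O₂(L) = 1`. `Data.t_notMem`: `t ∉ F` by the `y`-trick.
-/

set_option autoImplicit false
set_option linter.style.haveILetI false

namespace Cfsg.Agent.OddHalf.D8.TypeHS

open Subgroup Module
open Cfsg.Agent.Co2Type.Quad Cfsg.Agent.LargeExtra.TwoCentral Cfsg.Agent.LargeExtra.Dickson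

/-! ### cyclic 2-groups -/

/-- a finite abelian 2-group with at most one involution is cyclic -/
theorem isCyclic_of_sq {A : Type*} [CommGroup A] [Finite A] (hA : IsPGroup 2 A) (c : A)
    (h : ∀ a : A, a * a = 1 → a = 1 ∨ a = c) : IsCyclic A := by
  have key : ∀ k : ℕ, Nat.card (powMonoidHom (α := A) (2 ^ k)).ker ≤ 2 ^ k := by
    intro k
    induction k with
    | zero =>
      have : (powMonoidHom (α := A) (2 ^ 0)).ker = ⊥ := by
        rw [eq_bot_iff]
        intro x hx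
        rw [MonoidHom.mem_ker, powMonoidHom_apply, pow_zero, pow_one] at hx
        exact mem_bot.2 hx
      rw [this, Subgroup.card_bot, pow_zero]
    | succ k ih =>
      set K := (powMonoidHom (α := A) (2 ^ (k + 1))).ker with hK
      let g : K →* A := (powMonoidHom (α := A) (2 ^ k)).comp K.subtype
      have h1 : Nat.card K = Nat.card g.ker * Nat.card g.range := by
        have e := Nat.card_congr (QuotientGroup.quotientKerEquivRange g).toEquiv
        rw [← e, mul_comm]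
        exact Subgroup.card_eq_card_quotient_mul_card_subgroup g.ker
      have h2 : Nat.card g.range ≤ 2 := by
        have hsub : (g.range : Set A) ⊆ {1, c} := by
          rintro _ ⟨x, rfl⟩
          have hx : (x : A) ^ 2 ^ (k + 1) = 1 := x.2
          refine h _ ?_
          show (x : A) ^ 2 ^ k * (x : A) ^ 2 ^ k = 1
          rw [← pow_two, ← pow_mul, ← pow_succ]
          exact hx
        have h3 : Nat.card g.range = Set.ncard (g.range : Set A) := (Nat.card_coe_set_eq _)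
        rw [h3]
        refine (Set.ncard_le_ncard hsub (Set.toFinite _)).trans ((Set.ncard_insert_le _ _).trans ?_)
        rw [Set.ncard_singleton]
      have h3 : Nat.card g.ker ≤ 2 ^ k := by
        refine le_trans ?_ ih
        have hle : (g.ker).map K.subtype ≤ (powMonoidHom (α := A) (2 ^ k)).ker := by
          rintro _ ⟨x, hx, rfl⟩
          exact hx
        have h4 : Nat.card ((g.ker).map K.subtype) = Nat.card g.ker :=
          Nat.card_congr (Subgroup.equivMapOfInjective g.ker K.subtype K.subtype_injective).symm.toEquiv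
        rw [← h4]
        exact Nat.card_le_card_of_injective (Subgroup.inclusion hle) (Subgroup.inclusion_injective hle)
      rw [h1, pow_succ]
      exact Nat.mul_le_mul h3 h2
  obtain ⟨m, hm⟩ := (IsPGroup.iff_card.1 hA)
  have hexp : ∃ k, Monoid.exponent A = 2 ^ k := by
    have h1 : Monoid.exponent A ∣ 2 ^ m := by rw [← hm]; exact Group.exponent_dvd_nat_card
    obtain ⟨k, -, hk⟩ := (Nat.dvd_prime_pow Nat.prime_two).1 h1
    exact ⟨k, hk⟩
  obtain ⟨k, hk⟩ := hexp
  have h5 : Nat.card A ≤ 2 ^ k := by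
    have h6 : (powMonoidHom (α := A) (2 ^ k)).ker = ⊤ := by
      rw [eq_top_iff]
      intro x _
      rw [MonoidHom.mem_ker, powMonoidHom_apply, ← hk]
      exact Monoid.pow_exponent_eq_one x
    have := key k
    rwa [h6, Subgroup.card_top] at this
  refine IsCyclic.of_exponent_eq_card ?_
  refine le_antisymm ?_ (by rw [hk]; exact h5)
  exact Nat.le_of_dvd Nat.card_pos Group.exponent_dvd_nat_card

theorem finrank_span_le_one {V : Type*} [AddCommGroup V] [Module (ZMod 2) V] (v : V) :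
    finrank (ZMod 2) (Submodule.span (ZMod 2) {v}) ≤ 1 :=
  (finrank_span_le_card ({v} : Set V)).trans (by simp)

/-- adding one dimension -/
theorem finrank_le_succ {V : Type*} [AddCommGroup V] [Module (ZMod 2) V] [FiniteDimensional (ZMod 2) V]
    (W Y : Submodule (ZMod 2) V) (hY : ∀ v ∈ Y, ∀ w ∈ Y, v ∉ W → w ∉ W → v + w ∈ W) :
    finrank (ZMod 2) Y ≤ finrank (ZMod 2) W + 1 := by
  by_cases h : Y ≤ W
  · exact (Submodule.finrank_mono h).trans (Nat.le_succ _)
  · obtain ⟨v0, hv0, hv0W⟩ := Set.not_subset.1 h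
    have h1 : Y ≤ W ⊔ Submodule.span (ZMod 2) {v0} := by
      intro w hw
      by_cases hwW : w ∈ W
      · exact Submodule.mem_sup_left hwW
      · have h2 := hY w hw v0 hv0 hwW hv0W
        have h3 : w = (w + v0) + v0 := by
          have h4 : v0 + v0 = 0 := by
            rw [← two_smul (ZMod 2) v0, show (2 : ZMod 2) = 0 from rfl, zero_smul]
          rw [add_assoc, h4, add_zero]
        rw [h3]
        exact Submodule.add_mem_sup h2 (Submodule.mem_span_singleton_self v0)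
    refine (Submodule.finrank_mono h1).trans ?_
    refine (Submodule.finrank_add_le_finrank_add_finrank _ _).trans ?_
    refine Nat.add_le_add_left ?_ _
    exact finrank_span_le_one v0

variable {G : Type*} [Group G]

/-! ### abelian normal subgroups -/

/-- the standing hypotheses -/
structure Hyp (t z : G) (F : Subgroup G) : Prop where
  tt : t * t = 1
  zz : z * z = 1
  z1 : z ≠ 1
  comm : t * z = z * t
  pF : IsPGroup 2 F
  le : ∀ x ∈ F, x * z = z * x
  nor : ∀ g, g * z = z * g → ∀ x ∈ F, g * x * g⁻¹ ∈ F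
  self : ∀ g, g * z = z * g → (∀ x ∈ F, g * x = x * g) → g ∈ F
  tF : t ∉ F
  /-- elementary abelian subgroups of `C_F(t)` normalised by `C_G(⟨t, z⟩)` are contained in `⟨z⟩` -/
  el : ∀ B : Subgroup G, B ≤ F → (∀ b ∈ B, b * t = t * b) → (∀ a ∈ B, ∀ b ∈ B, a * b = b * a) →
    (∀ b ∈ B, b * b = 1) →
    (∀ n, n * t = t * n → n * z = z * n → ∀ b ∈ B, n * b * n⁻¹ ∈ B) → ∀ b ∈ B, b = 1 ∨ b = z

namespace Hyp

variable {t z : G} {F : Subgroup G}

/-- the goal -/
def Goal (h : Hyp t z F) : Prop :=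
  ∃ lam : centralizer ({z} : Set G) →* ℤˣ, lam ⟨t, mem_centralizer_singleton_iff.2 h.comm⟩ = -1

theorem z_mem (h : Hyp t z F) : z ∈ F := h.self z rfl fun x hx => (h.le x hx).symm

/-- the `t`-fixed elements of an elementary abelian normal subgroup -/
theorem fixed (h : Hyp t z F) {W : Subgroup G} (hW : W ≤ F) (hab : ∀ a ∈ W, ∀ b ∈ W, a * b = b * a)
    (hsq : ∀ a ∈ W, a * a = 1)
    (hn : ∀ g, g * z = z * g → ∀ w ∈ W, g * w * g⁻¹ ∈ W) {w : G} (hw : w ∈ W) (hwt : w * t = t * w) :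
    w = 1 ∨ w = z := by
  refine h.el (W ⊓ centralizer ({t} : Set G)) (fun x hx => hW hx.1)
    (fun b hb => mem_centralizer_singleton_iff.1 hb.2) (fun a ha b hb => hab a ha.1 b hb.1)
    (fun b hb => hsq b hb.1) ?_ w ⟨hw, mem_centralizer_singleton_iff.2 hwt⟩
  rintro n hnt hnz b ⟨hb1, hb2⟩
  have h1 : Commute n t := hnt
  have h2 : Commute b t := mem_centralizer_singleton_iff.1 hb2
  exact ⟨hn n hnz b hb1, mem_centralizer_singleton_iff.2 ((h1.mul_left h2).mul_left h1.inv_left)⟩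

/-- elementary abelian normal subgroups -/
theorem elem (h : Hyp t z F) {W : Subgroup G} (hW : W ≤ F) (hab : ∀ a ∈ W, ∀ b ∈ W, a * b = b * a)
    (hsq : ∀ a ∈ W, a * a = 1)
    (hn : ∀ g, g * z = z * g → ∀ w ∈ W, g * w * g⁻¹ ∈ W) {w : G} (hw : w ∈ W) :
    (w = 1 ∨ w = z) ∨ h.Goal := by
  by_cases hwz : w = 1 ∨ w = z
  · exact Or.inl hwz
  right
  have key : ∀ b ∈ W, ¬ (b = 1 ∨ b = z) → t * b * t⁻¹ = b * z := by
    intro b hb hbz
    have h1 : t * b * t⁻¹ ∈ W := hn t h.comm b hb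
    have h2 : b * (t * b * t⁻¹) ∈ W := W.mul_mem hb h1
    have h3 : b * (t * b * t⁻¹) * t = t * (b * (t * b * t⁻¹)) := by
      have e0 : t * (t * b * t⁻¹) * t⁻¹ = b := by
        calc t * (t * b * t⁻¹) * t⁻¹ = (t * t) * b * (t * t)⁻¹ := by group
          _ = b := by rw [h.tt]; group
      have e1 : t * (b * (t * b * t⁻¹)) * t⁻¹ = b * (t * b * t⁻¹) := by
        calc t * (b * (t * b * t⁻¹)) * t⁻¹ = (t * b * t⁻¹) * (t * (t * b * t⁻¹) * t⁻¹) := by group
          _ = (t * b * t⁻¹) * b := by rw [e0]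
          _ = b * (t * b * t⁻¹) := (hab b hb _ h1).symm
      rw [mul_inv_eq_iff_eq_mul] at e1
      exact e1.symm
    rcases h.fixed hW hab hsq hn h2 h3 with h4 | h4
    · exfalso
      apply hbz
      have h5 : t * b * t⁻¹ = b := by
        have : t * b * t⁻¹ = b⁻¹ := (inv_eq_of_mul_eq_one_right h4).symm
        rw [this, inv_eq_of_mul_eq_one_left (hsq b hb)]
      refine h.fixed hW hab hsq hn hb ?_
      rw [mul_inv_eq_iff_eq_mul] at h5
      exact h5.symm
    · calc t * b * t⁻¹ = b * (b * (t * b * t⁻¹)) := by rw [← mul_assoc, hsq b hb, one_mul]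
        _ = b * z := by rw [h4]
  have hcomm : w * z = z * w := h.le w (hW hw)
  refine Lam.lam_of_u h.zz h.z1 h.comm hcomm ?_ (key w hw hwz)
  intro g hg
  have hg1 : g * w * g⁻¹ ∈ W := hn g hg w hw
  have hg2 : ¬ (g * w * g⁻¹ = 1 ∨ g * w * g⁻¹ = z) := by
    rintro (h1 | h1)
    · exact hwz (Or.inl (conj_eq_one_iff.1 h1))
    · apply hwz; right
      calc w = g⁻¹ * (g * w * g⁻¹) * g := by group
        _ = g⁻¹ * (z * g) := by rw [h1]; group
        _ = z := by rw [← hg]; group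
  have hk := key _ hg1 hg2
  have hk2 := key w hw hwz
  have h3 : w * (g * w * g⁻¹) ∈ W := W.mul_mem hw hg1
  have h4 : w * (g * w * g⁻¹) * t = t * (w * (g * w * g⁻¹)) := by
    have hz : z * (g * w * g⁻¹) = (g * w * g⁻¹) * z := (h.le _ (hW hg1)).symm
    have : t * (w * (g * w * g⁻¹)) * t⁻¹ = w * (g * w * g⁻¹) := by
      calc t * (w * (g * w * g⁻¹)) * t⁻¹ = (t * w * t⁻¹) * (t * (g * w * g⁻¹) * t⁻¹) := by group
        _ = w * z * ((g * w * g⁻¹) * z) := by rw [hk, hk2]
        _ = w * (z * (g * w * g⁻¹)) * z := by group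
        _ = w * (g * w * g⁻¹) * (z * z) := by rw [hz]; group
        _ = w * (g * w * g⁻¹) := by rw [h.zz, mul_one]
    rw [mul_inv_eq_iff_eq_mul] at this
    exact this.symm
  rcases h.fixed hW hab hsq hn h3 h4 with h5 | h5
  · left
    calc g * w * g⁻¹ = w * (w * (g * w * g⁻¹)) := by rw [← mul_assoc, hsq w hw, one_mul]
      _ = w := by rw [h5, mul_one]
  · right
    calc g * w * g⁻¹ = w * (w * (g * w * g⁻¹)) := by rw [← mul_assoc, hsq w hw, one_mul]
      _ = w * z := by rw [h5]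

/-- involutions of abelian normal subgroups -/
theorem invol (h : Hyp t z F) (hg : ¬ h.Goal) {W : Subgroup G} (hW : W ≤ F)
    (hab : ∀ a ∈ W, ∀ b ∈ W, a * b = b * a)
    (hn : ∀ g, g * z = z * g → ∀ w ∈ W, g * w * g⁻¹ ∈ W) {a : G} (ha : a ∈ W) (haa : a * a = 1) :
    a = 1 ∨ a = z := by
  set W1 : Subgroup G :=
    { carrier := {x | x ∈ W ∧ x * x = 1}
      one_mem' := ⟨W.one_mem, one_mul 1⟩
      mul_mem' := by
        rintro x y ⟨hx, hx2⟩ ⟨hy, hy2⟩
        refine ⟨W.mul_mem hx hy, ?_⟩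
        calc x * y * (x * y) = x * (y * x) * y := by group
          _ = x * x * (y * y) := by rw [hab y hy x hx]; group
          _ = 1 := by rw [hx2, hy2, one_mul]
      inv_mem' := by
        rintro x ⟨hx, hx2⟩
        refine ⟨W.inv_mem hx, ?_⟩
        rw [← mul_inv_rev, hx2, inv_one] } with hW1
  have h1 : ∀ x, x ∈ W1 ↔ x ∈ W ∧ x * x = 1 := fun x => Iff.rfl
  refine ((h.elem (W := W1) (fun x hx => hW ((h1 x).1 hx).1)
    (fun x hx y hy => hab x ((h1 x).1 hx).1 y ((h1 y).1 hy).1) (fun x hx => ((h1 x).1 hx).2) ?_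
    ((h1 a).2 ⟨ha, haa⟩)).resolve_right hg)
  intro g hgz x hx
  rw [h1] at hx ⊢
  refine ⟨hn g hgz x hx.1, ?_⟩
  calc g * x * g⁻¹ * (g * x * g⁻¹) = g * (x * x) * g⁻¹ := by group
    _ = 1 := by rw [hx.2]; group

/-- conjugation by an element of `C(z)` on `F` -/
def conjEquiv (h : Hyp t z F) (g : G) (hg : g * z = z * g) : F ≃* F where
  toFun x := ⟨g * x * g⁻¹, h.nor g hg x x.2⟩
  invFun x := ⟨g⁻¹ * x * g, by
    have hg' : g⁻¹ * z = z * g⁻¹ := (Commute.inv_left (show Commute g z from hg)).eq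
    have := h.nor g⁻¹ hg' x x.2
    rwa [inv_inv] at this⟩
  left_inv x := by
    apply Subtype.ext
    show g⁻¹ * (g * x * g⁻¹) * g = x
    group
  right_inv x := by
    apply Subtype.ext
    show g * (g⁻¹ * x * g) * g⁻¹ = x
    group
  map_mul' x y := by
    apply Subtype.ext
    show g * (x * y) * g⁻¹ = g * x * g⁻¹ * (g * y * g⁻¹)
    group

/-- `F` is of symplectic type -/
theorem symplectic [Finite G] (h : Hyp t z F) (hg : ¬ h.Goal) : Cfsg.IsOfSymplecticType F := by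
  refine ⟨h.pF, ?_⟩
  intro A hA hcom
  have hab : ∀ a ∈ A.map F.subtype, ∀ b ∈ A.map F.subtype, a * b = b * a := by
    rintro _ ⟨a, ha, rfl⟩ _ ⟨b, hb, rfl⟩
    have := hcom.is_comm.comm (⟨a, ha⟩ : A) ⟨b, hb⟩
    exact congrArg (fun x : A => ((x : F) : G)) this
  have hn : ∀ g, g * z = z * g → ∀ w ∈ A.map F.subtype, g * w * g⁻¹ ∈ A.map F.subtype := by
    rintro g hgz _ ⟨x, hx, rfl⟩
    refine ⟨h.conjEquiv g hgz x, ?_, rfl⟩
    have := hA.fixed (h.conjEquiv g hgz)
    have h2 : x ∈ A.comap (h.conjEquiv g hgz).toMonoidHom := by rw [this]; exact hx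
    exact h2
  let iA : CommGroup A := { (inferInstance : Group A) with mul_comm := hcom.is_comm.comm }
  have hinv : ∀ a : A, a * a = 1 → ((a : F) : G) = 1 ∨ ((a : F) : G) = z := by
    intro a ha
    refine h.invol hg (W := A.map F.subtype) ?_ hab hn ⟨a, a.2, rfl⟩ ?_
    · rintro _ ⟨x, -, rfl⟩
      exact x.2
    · exact congrArg (fun x : A => ((x : F) : G)) ha
  by_cases hex : ∃ c : A, ((c : F) : G) = z
  · obtain ⟨c, hc⟩ := hex
    refine isCyclic_of_sq (h.pF.to_subgroup A) c ?_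
    intro a ha
    rcases hinv a ha with h1 | h1
    · exact Or.inl (Subtype.ext (Subtype.ext h1))
    · exact Or.inr (Subtype.ext (Subtype.ext (h1.trans hc.symm)))
  · refine isCyclic_of_sq (h.pF.to_subgroup A) 1 ?_
    intro a ha
    rcases hinv a ha with h1 | h1
    · exact Or.inl (Subtype.ext (Subtype.ext h1))
    · exact absurd ⟨a, h1⟩ hex

end Hyp

/-- four elements -/
theorem four {V : Type*} [AddCommGroup V] [Module (ZMod 2) V] {M : Submodule (ZMod 2) V}
    (hM : Nat.card M = 4) {a b : V} (ha : a ∈ M)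
    (hb : b ∈ M) (ha0 : a ≠ 0) (hb0 : b ≠ 0) (hab : a + b ≠ 0) :
    ∀ d ∈ M, d = 0 ∨ d = a ∨ d = b ∨ d = a + b := by
  have : Finite M := by
    apply Nat.finite_of_card_ne_zero
    rw [hM]; norm_num
  let f : ZMod 2 × ZMod 2 → M := fun p => p.1 • ⟨a, ha⟩ + p.2 • ⟨b, hb⟩
  have hinj : Function.Injective f := by
    have key : ∀ p : ZMod 2 × ZMod 2, (p.1 • a + p.2 • b = 0) → p = 0 := by
      rintro ⟨i, j⟩ h1
      rcases zmod_two i with rfl | rfl <;> rcases zmod_two j with rfl | rfl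
      · rfl
      · rw [zero_smul, zero_add, one_smul] at h1; exact absurd h1 hb0
      · rw [zero_smul, add_zero, one_smul] at h1; exact absurd h1 ha0
      · rw [one_smul, one_smul] at h1; exact absurd h1 hab
    intro p q hpq
    have h1 : p.1 • a + p.2 • b = q.1 • a + q.2 • b := congrArg Subtype.val hpq
    have h2 : (p - q).1 • a + (p - q).2 • b = 0 := by
      rw [Prod.fst_sub, Prod.snd_sub, sub_smul, sub_smul]
      rw [← sub_eq_zero] at h1
      rw [← h1]; abel
    exact sub_eq_zero.1 (key _ h2)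
  have hcard : Nat.card (ZMod 2 × ZMod 2) = Nat.card M := by
    rw [Nat.card_prod, Nat.card_zmod, hM]
  have hbij : Function.Bijective f := (Nat.bijective_iff_injective_and_card f).2 ⟨hinj, hcard⟩
  intro d hd
  obtain ⟨⟨i, j⟩, hij⟩ := hbij.2 ⟨d, hd⟩
  have h1 : i • a + j • b = d := congrArg Subtype.val hij
  rcases zmod_two i with rfl | rfl <;> rcases zmod_two j with rfl | rfl
  · left; rw [← h1]; simp
  · right; right; left; rw [← h1]; simp
  · right; left; rw [← h1]; simp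
  · right; right; right; rw [← h1]; simp

/-! ### the A × B argument -/

/-- `F = F*(C(s))` is a 2-group -/
structure FS (s : G) (F : Subgroup G) : Prop where
  pF : IsPGroup 2 F
  norF : ∀ g, g * s = s * g → ∀ x ∈ F, g * x * g⁻¹ ∈ F
  selfF : ∀ g, g * s = s * g → (∀ x ∈ F, g * x = x * g) → g ∈ F

namespace FS

variable {t s : G} {F : Subgroup G}

theorem conj (h : FS s F) (g : G) : FS (g * s * g⁻¹) (F.map (MulAut.conj g).toMonoidHom) where
  pF := h.pF.map _
  norF := by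
    rintro c hc _ ⟨x, hx, rfl⟩
    refine ⟨(g⁻¹ * c * g) * x * (g⁻¹ * c * g)⁻¹, h.norF _ ?_ x hx, ?_⟩
    · calc g⁻¹ * c * g * s = g⁻¹ * (c * (g * s * g⁻¹)) * g := by group
        _ = g⁻¹ * (g * s * g⁻¹ * c) * g := by rw [hc]
        _ = s * (g⁻¹ * c * g) := by group
    · show g * ((g⁻¹ * c * g) * x * (g⁻¹ * c * g)⁻¹) * g⁻¹ = c * (g * x * g⁻¹) * c⁻¹
      group
  selfF := by
    intro c hc hx
    refine ⟨g⁻¹ * c * g, h.selfF _ ?_ ?_, ?_⟩
    · calc g⁻¹ * c * g * s = g⁻¹ * (c * (g * s * g⁻¹)) * g := by group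
        _ = g⁻¹ * (g * s * g⁻¹ * c) * g := by rw [hc]
        _ = s * (g⁻¹ * c * g) := by group
    · intro x hxF
      have h1 : c * (g * x * g⁻¹) = g * x * g⁻¹ * c := hx _ ⟨x, hxF, rfl⟩
      calc g⁻¹ * c * g * x = g⁻¹ * (c * (g * x * g⁻¹)) * g := by group
        _ = g⁻¹ * (g * x * g⁻¹ * c) * g := by rw [h1]
        _ = x * (g⁻¹ * c * g) := by group
    · show g * (g⁻¹ * c * g) * g⁻¹ = c
      group

/-- a perfect subgroup of `C(⟨t, s⟩)` centralising `C_F(t)` is trivial -/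
theorem eq_bot [Finite G] (h : FS s F) (tt : t * t = 1) (comm : t * s = s * t) {P : Subgroup G}
    (Pt : ∀ p ∈ P, p * t = t * p) (Pz : ∀ p ∈ P, p * s = s * p) (perf : ⁅P, P⁆ = P)
    (hcen : ∀ x ∈ F, x * t = t * x → ∀ p ∈ P, x * p = p * x) : P = ⊥ := by
  -- odd elements of `P` are trivial
  have hodd : ∀ p ∈ P, (orderOf p).Coprime 2 → p = 1 := by
    intro p hp hpo
    have h2 : zpowers p ≤ centralizer (F : Set G) := by
      refine Cfsg.Agent.S0028.result 2 (zpowers t) (zpowers p) F ?_ ?_ h.pF ?_ ?_ ?_ ?_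
      · rintro ⟨a, ha⟩
        obtain ⟨i, rfl⟩ := mem_zpowers_iff.1 ha
        refine ⟨1, Subtype.ext ?_⟩
        show (t ^ i) ^ (2 ^ 1) = 1
        rw [pow_one, pow_two, ← zpow_add, ← two_mul, zpow_mul]
        have : t ^ (2 : ℤ) = 1 := by
          rw [show (2 : ℤ) = 1 + 1 by norm_num, zpow_add, zpow_one, tt]
        rw [this, one_zpow]
      · rw [Nat.card_zpowers]; exact hpo
      · rw [zpowers_le, mem_centralizer_iff]
        intro q hq
        obtain ⟨i, rfl⟩ := mem_zpowers_iff.1 hq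
        exact ((show Commute p t from Pt p hp).zpow_left i).eq
      · rw [zpowers_le]
        rw [mem_normalizer_iff]
        intro y
        constructor
        · intro hy; exact h.norF t comm y hy
        · intro hy
          have := h.norF t comm _ hy
          have e : t * (t * y * t⁻¹) * t⁻¹ = y := by
            calc t * (t * y * t⁻¹) * t⁻¹ = (t * t) * y * (t * t)⁻¹ := by group
              _ = y := by rw [tt]; group
          rwa [e] at this
      · rw [zpowers_le]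
        have hpz := Pz p hp
        rw [mem_normalizer_iff]
        intro y
        constructor
        · intro hy; exact h.norF p hpz y hy
        · intro hy
          have hpz' : p⁻¹ * s = s * p⁻¹ := (Commute.inv_left (show Commute p s from hpz)).eq
          have := h.norF p⁻¹ hpz' _ hy
          have e : p⁻¹ * (p * y * p⁻¹) * p⁻¹⁻¹ = y := by group
          rwa [e] at this
      · rintro x ⟨hx, hxt⟩
        have hxt' : x * t = t * x := (mem_centralizer_iff.1 hxt t (mem_zpowers t)).symm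
        rw [mem_centralizer_iff]
        intro q hq
        have hqP : q ∈ P := (zpowers_le.2 hp) hq
        exact (hcen x hx hxt' q hqP).symm
    have h3 : p ∈ F := by
      refine h.selfF p (Pz p hp) fun x hx => ?_
      exact (mem_centralizer_iff.1 (h2 (mem_zpowers p)) x hx).symm
    obtain ⟨k, hk⟩ := h.pF ⟨p, h3⟩
    have h4 : p ^ 2 ^ k = 1 := congrArg Subtype.val hk
    have h5 : orderOf p ∣ 2 ^ k := orderOf_dvd_of_pow_eq_one h4
    have h6 : orderOf p = 1 := Nat.Coprime.eq_one_of_dvd (hpo.pow_right k) h5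
    exact orderOf_eq_one_iff.1 h6
  have hP2 : IsPGroup 2 P := by
    rw [IsPGroup.iff_card]
    refine ⟨(Nat.card P).primeFactorsList.length, ?_⟩
    refine Nat.eq_prime_pow_of_unique_prime_dvd Nat.card_pos.ne' ?_
    intro q hq hqd
    by_contra hne
    have : Fact q.Prime := ⟨hq⟩
    obtain ⟨y, hy⟩ := exists_prime_orderOf_dvd_card' q hqd
    have h4 : (orderOf (y : G)).Coprime 2 := by
      rw [Subgroup.orderOf_coe, hy]
      exact (Nat.coprime_primes hq Nat.prime_two).2 hne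
    have h5 : y = 1 := Subtype.ext (hodd y y.2 h4)
    rw [h5, orderOf_one] at hy
    exact hq.one_lt.ne hy
  exact TypeE.not_two_of_perfect perf hP2

/-- no perfect `L` with `O₂(L) = 1` in `C(⟨t, s⟩)` -/
theorem false_of_L [Finite G] (h : FS s F) (tt : t * t = 1) (comm : t * s = s * t) {L : Subgroup G}
    (Lt : ∀ p ∈ L, p * t = t * p) (Ls : ∀ p ∈ L, p * s = s * p) (perf : ⁅L, L⁆ = L) (L1 : L ≠ ⊥)
    (Fs : ∀ x ∈ F, x * s = s * x)
    (norL : ∀ n, n * t = t * n → n * s = s * n → ∀ l ∈ L, n * l * n⁻¹ ∈ L)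
    (core : ∀ Y ≤ L, IsPGroup 2 Y → (∀ l ∈ L, ∀ y ∈ Y, l * y * l⁻¹ ∈ Y) → Y = ⊥) : False := by
  apply L1
  refine h.eq_bot tt comm Lt Ls perf ?_
  intro x hx hxt l hl
  have hxs := Fs x hx
  have hbot : F ⊓ L = ⊥ := by
    refine core (F ⊓ L) inf_le_right (h.pF.to_le inf_le_left) ?_
    intro l hl y hy
    exact ⟨h.norF l (Ls l hl) y hy.1, L.mul_mem (L.mul_mem hl hy.2) (L.inv_mem hl)⟩
  have h1 : x * l * x⁻¹ * l⁻¹ ∈ F ⊓ L := by
    refine ⟨?_, L.mul_mem (norL x hxt hxs l hl) (L.inv_mem hl)⟩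
    have h2 : l * x⁻¹ * l⁻¹ ∈ F := h.norF l (Ls l hl) _ (F.inv_mem hx)
    have : x * l * x⁻¹ * l⁻¹ = x * (l * x⁻¹ * l⁻¹) := by group
    rw [this]
    exact F.mul_mem hx h2
  rw [hbot, mem_bot, mul_inv_eq_one, mul_inv_eq_iff_eq_mul] at h1
  exact h1

end FS

/-! ### the data of `HS` -/

/-- The data for `K = HS`. -/
structure Data (t z u : G) (P R F : Subgroup G) : Prop where
  tt : t * t = 1
  zz : z * z = 1
  z1 : z ≠ 1
  comm : t * z = z * t
  /-- `F = O₂(H) = F*(H)`, `H = C_G(z)` -/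
  pF : IsPGroup 2 F
  leF : ∀ x ∈ F, x * z = z * x
  norF : ∀ g, g * z = z * g → ∀ x ∈ F, g * x * g⁻¹ ∈ F
  selfF : ∀ g, g * z = z * g → (∀ x ∈ F, g * x = x * g) → g ∈ F
  /-- `P ≤ N = C_G(⟨t, z⟩)` is perfect and normal in `N` -/
  Pt : ∀ p ∈ P, p * t = t * p
  Pz : ∀ p ∈ P, p * z = z * p
  norP : ∀ n, n * t = t * n → n * z = z * n → ∀ p ∈ P, n * p * n⁻¹ ∈ P
  perf : ⁅P, P⁆ = P
  RP : R ≤ P
  uR : u ∈ R
  uu : u * u = z
  uP : ∀ p ∈ P, p * u = u * p
  /-- 2-subgroups of `P` normal in `N` are contained in `R` -/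
  core : ∀ Y ≤ P, IsPGroup 2 Y → (∀ n, n * t = t * n → n * z = z * n → ∀ y ∈ Y, n * y * n⁻¹ ∈ Y) → Y ≤ R
  /-- the `N`-invariant subgroups of `R` -/
  irr : ∀ Y ≤ R, (∀ n, n * t = t * n → n * z = z * n → ∀ y ∈ Y, n * y * n⁻¹ ∈ Y) →
    (∀ y ∈ Y, y = 1 ∨ y = u ∨ y = z ∨ y = u * z) ∨ Y = R
  /-- the centre of `R` -/
  cR : ∀ x ∈ R, (∀ y ∈ R, x * y = y * x) → x = 1 ∨ x = u ∨ x = z ∨ x = u * z
  cardR : Nat.card R = 64
  /-- 2-elements of `N` trivial on `P / R` are in `⟨t⟩ R` or invert `u` -/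
  out : ∀ n, IsPGroup 2 (zpowers n) → n * t = t * n → n * z = z * n → (∀ p ∈ P, n * p * n⁻¹ * p⁻¹ ∈ R) →
    n ∈ R ∨ t * n ∈ R ∨ n * u * n⁻¹ = u⁻¹

namespace Data

variable {t z u : G} {P R F : Subgroup G}

theorem z_mem (D : Data t z u P R F) : z ∈ F := D.selfF z rfl fun x hx => (D.leF x hx).symm

theorem u_mem_P (D : Data t z u P R F) : u ∈ P := D.RP D.uR

theorem zP (D : Data t z u P R F) : z ∈ P := by
  rw [← D.uu]; exact P.mul_mem D.u_mem_P D.u_mem_P

theorem zR (D : Data t z u P R F) : z ∈ R := by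
  rw [← D.uu]; exact R.mul_mem D.uR D.uR

theorem u_ne_inv (D : Data t z u P R F) : u ≠ u⁻¹ := by
  intro h
  apply D.z1
  rw [← D.uu]
  nth_rewrite 2 [h]
  exact mul_inv_cancel u

/-- the four elements of `⟨u⟩` commute with `P` -/
theorem four_comm (D : Data t z u P R F) {y : G} (hy : y = 1 ∨ y = u ∨ y = z ∨ y = u * z) :
    ∀ p ∈ P, p * y = y * p := by
  intro p hp
  rcases hy with rfl | rfl | rfl | rfl
  · simp
  · exact D.uP p hp
  · exact D.Pz p hp
  · exact ((show Commute p u from D.uP p hp).mul_right (show Commute p z from D.Pz p hp)).eq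

/-- `R` is not abelian -/
theorem nab (D : Data t z u P R F) : ∃ a ∈ R, ∃ b ∈ R, a * b ≠ b * a := by
  classical
  by_contra hcon
  push Not at hcon
  have h1 : (R : Set G) ⊆ {1, u, z, u * z} := by
    intro x hx
    rcases D.cR x hx (fun y hy => hcon x hx y hy) with h | h | h | h <;> simp [h]
  have h2 : Nat.card R ≤ 4 := by
    have h3 : Nat.card R = Set.ncard (R : Set G) := Nat.card_coe_set_eq _
    rw [h3]
    refine (Set.ncard_le_ncard h1 (Set.toFinite _)).trans ?_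
    refine (Set.ncard_insert_le _ _).trans ?_
    have := (Set.ncard_insert_le u {z, u * z})
    have h4 := (Set.ncard_insert_le z {u * z})
    rw [Set.ncard_singleton] at h4
    omega
  rw [D.cardR] at h2
  omega

theorem fs (D : Data t z u P R F) : FS z F := ⟨D.pF, D.norF, D.selfF⟩

/-- `t ∉ O₂(C(z))` by the y-trick -/
theorem t_notMem (D : Data t z u P R F) {M : Subgroup G}
    (norM : ∀ n, n * t = t * n → n * z = z * n → ∀ p ∈ M, n * p * n⁻¹ ∈ M)
    (coreM : ∀ Y ≤ M, IsPGroup 2 Y → (∀ n, n * t = t * n → n * z = z * n → ∀ y ∈ Y, n * y * n⁻¹ ∈ Y) → Y ≤ R)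
    {h z₁ : G} (hz : h * z = z * h) (ht : h * t * h⁻¹ = t * z₁)
    (hP : z₁ ∈ M) (hR : z₁ ∉ R) : t ∉ F := by
  intro htF
  apply hR
  have h1 : z₁ ∈ F := by
    have h2 : t * (h * t * h⁻¹) ∈ F := F.mul_mem htF (D.norF h hz t htF)
    rw [ht, ← mul_assoc, D.tt, one_mul] at h2
    exact h2
  refine coreM (F ⊓ M) inf_le_right (D.pF.to_le inf_le_left) ?_ ⟨h1, hP⟩
  intro n hnt hnz y hy
  exact ⟨D.norF n hnz y hy.1, norM n hnt hnz y hy.2⟩

/-- `[C_F(t), P] ≤ F ∩ P ∩ C(t)` -/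
theorem comm_mem (D : Data t z u P R F) {x : G} (hx : x ∈ F) (hxt : x * t = t * x) {p : G} (hp : p ∈ P) :
    x * p * x⁻¹ * p⁻¹ ∈ F ⊓ centralizer ({t} : Set G) ⊓ P := by
  have hxz : x * z = z * x := D.leF x hx
  have h1 : x * p * x⁻¹ ∈ P := D.norP x hxt hxz p hp
  have h2 : p * x⁻¹ * p⁻¹ ∈ F := D.norF p (D.Pz p hp) _ (F.inv_mem hx)
  refine ⟨⟨?_, ?_⟩, P.mul_mem h1 (P.inv_mem hp)⟩
  · have : x * p * x⁻¹ * p⁻¹ = x * (p * x⁻¹ * p⁻¹) := by group
    rw [this]
    exact F.mul_mem hx h2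
  · have c1 : Commute x t := hxt
    have c2 : Commute p t := D.Pt p hp
    exact mem_centralizer_singleton_iff.2 (((c1.mul_left c2).mul_left c1.inv_left).mul_left c2.inv_left)

theorem inv_fix (D : Data t z u P R F) {Y : Subgroup G} (hY : Y = F ⊓ centralizer ({t} : Set G) ⊓ P) :
    ∀ n, n * t = t * n → n * z = z * n → ∀ y ∈ Y, n * y * n⁻¹ ∈ Y := by
  subst hY
  intro n hnt hnz y hy
  have c1 : Commute n t := hnt
  have c2 : Commute y t := mem_centralizer_singleton_iff.1 hy.1.2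
  exact ⟨⟨D.norF n hnz y hy.1.1, mem_centralizer_singleton_iff.2 ((c1.mul_left c2).mul_left c1.inv_left)⟩,
    D.norP n hnt hnz y hy.2⟩

/-- if `[x, P]` is central in `P`, then `P` centralises `x` -/
theorem cent_of_comm (D : Data t z u P R F) {x : G}
    (hc : ∀ p ∈ P, ∀ q ∈ P, (x * p * x⁻¹ * p⁻¹) * q = q * (x * p * x⁻¹ * p⁻¹))
    (hP : ∀ p ∈ P, x * p * x⁻¹ ∈ P) : ∀ p ∈ P, x * p = p * x := by
  have hle : P ≤ centralizer ({x} : Set G) := by
    calc P = ⁅P, P⁆ := D.perf.symm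
      _ ≤ centralizer ({x} : Set G) := by
        rw [commutator_le]
        intro p hp q hq
        rw [mem_centralizer_singleton_iff, commutatorElement_def]
        obtain ⟨c, hc1⟩ : ∃ c, c = x * p * x⁻¹ * p⁻¹ := ⟨_, rfl⟩
        obtain ⟨d, hd1⟩ : ∃ d, d = x * q * x⁻¹ * q⁻¹ := ⟨_, rfl⟩
        have hcP : c ∈ P := by rw [hc1]; exact P.mul_mem (hP p hp) (P.inv_mem hp)
        have hdP : d ∈ P := by rw [hd1]; exact P.mul_mem (hP q hq) (P.inv_mem hq)
        have hcc : ∀ r ∈ P, Commute c r := by intro r hr; rw [hc1]; exact hc p hp r hr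
        have hdc : ∀ r ∈ P, Commute d r := by intro r hr; rw [hd1]; exact hc q hq r hr
        have hc2 : x * p * x⁻¹ = c * p := by rw [hc1]; group
        have hd2 : x * q * x⁻¹ = d * q := by rw [hd1]; group
        have e3 : x * (p * q * p⁻¹ * q⁻¹) * x⁻¹ = p * q * p⁻¹ * q⁻¹ := by
          have C1 : Commute p c := (hcc p hp).symm
          have C2 : Commute q c := (hcc q hq).symm
          have C3 : Commute p d := (hdc p hp).symm
          have C4 : Commute q d := (hdc q hq).symm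
          have hcd : c * d = d * c := (hcc d hdP).eq
          calc x * (p * q * p⁻¹ * q⁻¹) * x⁻¹
              = (x * p * x⁻¹) * (x * q * x⁻¹) * (x * p * x⁻¹)⁻¹ * (x * q * x⁻¹)⁻¹ := by group
            _ = (c * p) * (d * q) * (c * p)⁻¹ * (d * q)⁻¹ := by rw [hc2, hd2]
            _ = c * (p * d) * q * p⁻¹ * c⁻¹ * q⁻¹ * d⁻¹ := by group
            _ = c * (d * p) * q * p⁻¹ * c⁻¹ * q⁻¹ * d⁻¹ := by rw [C3.eq]
            _ = (c * d) * (p * q * p⁻¹ * (c⁻¹ * q⁻¹)) * d⁻¹ := by group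
            _ = (c * d) * (p * q * p⁻¹ * (q⁻¹ * c⁻¹)) * d⁻¹ := by rw [(C2.inv_inv).eq]
            _ = (c * d) * ((p * q * p⁻¹ * q⁻¹) * (c⁻¹ * d⁻¹)) := by group
            _ = (c * d) * ((c⁻¹ * d⁻¹) * (p * q * p⁻¹ * q⁻¹)) := by
                have C5 : Commute (p * q * p⁻¹ * q⁻¹) c :=
                  ((C1.mul_left C2).mul_left C1.inv_left).mul_left C2.inv_left
                have C6 : Commute (p * q * p⁻¹ * q⁻¹) d :=
                  ((C3.mul_left C4).mul_left C3.inv_left).mul_left C4.inv_left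
                rw [((C5.inv_right).mul_right C6.inv_right).eq]
            _ = c * d * (d * c)⁻¹ * (p * q * p⁻¹ * q⁻¹) := by group
            _ = p * q * p⁻¹ * q⁻¹ := by rw [hcd]; group
        rw [mul_inv_eq_iff_eq_mul] at e3
        exact e3.symm
  intro p hp
  exact (mem_centralizer_singleton_iff.1 (hle hp)).symm

/-- `C_F(t) ∩ P = R` -/
theorem fix_eq [Finite G] (D : Data t z u P R F) : F ⊓ centralizer ({t} : Set G) ⊓ P = R := by
  set Y : Subgroup G := F ⊓ centralizer ({t} : Set G) ⊓ P with hY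
  have hYR : Y ≤ R := D.core Y inf_le_right (D.pF.to_le (inf_le_left.trans inf_le_left)) (D.inv_fix hY)
  rcases D.irr Y hYR (D.inv_fix hY) with h1 | h1
  swap
  · exact h1
  exfalso
  -- `P` centralises `C_F(t)`
  have hcen : ∀ x ∈ F, x * t = t * x → ∀ p ∈ P, x * p = p * x := by
    intro x hx hxt
    refine D.cent_of_comm ?_ (fun p hp => D.norP x hxt (D.leF x hx) p hp)
    intro p hp q hq
    exact (D.four_comm (h1 _ (D.comm_mem hx hxt hp)) q hq).symm
  have hbot := D.fs.eq_bot D.tt D.comm D.Pt D.Pz D.perf hcen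
  have hz := D.zP
  rw [hbot, mem_bot] at hz
  exact D.z1 hz

theorem R_le_F [Finite G] (D : Data t z u P R F) : R ≤ F := fun x hx => by
  rw [← D.fix_eq] at hx; exact hx.1.1

theorem R_comm (D : Data t z u P R F) {x : G} (hx : x ∈ R) : x * t = t * x := D.Pt x (D.RP hx)

/-- elements of `C_F(t)` are in `R` or invert `u` -/
theorem cases_of_mem [Finite G] (D : Data t z u P R F) (ht : t ∉ F) {x : G} (hx : x ∈ F)
    (hxt : x * t = t * x) : x ∈ R ∨ x * u * x⁻¹ = u⁻¹ := by
  have hfix := D.fix_eq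
  rcases D.out x (D.pF.to_le (zpowers_le.2 hx)) hxt (D.leF x hx) (fun p hp => by rw [← hfix]; exact D.comm_mem hx hxt hp) with h1 | h1 | h1
  · exact Or.inl h1
  · exfalso
    apply ht
    have h2 : t * x ∈ F := D.R_le_F h1
    have := F.mul_mem h2 (F.inv_mem hx)
    rwa [mul_inv_cancel_right] at this
  · exact Or.inr h1

/-- abelian `N`-invariant subgroups of `C_F(t)` -/
theorem ab [Finite G] (D : Data t z u P R F) (ht : t ∉ F) (B : Subgroup G) (hBF : B ≤ F)
    (hBt : ∀ b ∈ B, b * t = t * b) (hBab : ∀ a ∈ B, ∀ b ∈ B, a * b = b * a)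
    (hBn : ∀ n, n * t = t * n → n * z = z * n → ∀ b ∈ B, n * b * n⁻¹ ∈ B) :
    ∀ b ∈ B, b = 1 ∨ b = u ∨ b = z ∨ b = u * z := by
  have hfix := D.fix_eq
  -- `B ∩ P ≤ ⟨u⟩`
  have hBP : ∀ b ∈ B, b ∈ P → b = 1 ∨ b = u ∨ b = z ∨ b = u * z := by
    intro b hb hbP
    have hle : B ⊓ P ≤ R := by
      rw [← hfix]
      intro x hx
      exact ⟨⟨hBF hx.1, mem_centralizer_singleton_iff.2 (hBt x hx.1)⟩, hx.2⟩
    have hbR : b ∈ B ⊓ P := ⟨hb, hbP⟩
    rcases D.irr (B ⊓ P) hle (fun n hnt hnz y hy => ⟨hBn n hnt hnz y hy.1, D.norP n hnt hnz y hy.2⟩) with h1 | h1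
    · exact h1 b hbR
    · exfalso
      obtain ⟨a, ha, c, hc, hac⟩ := D.nab
      rw [← h1] at ha hc
      exact hac (hBab a ha.1 c hc.1)
  intro b hb
  have hbz : b * z = z * b := D.leF b (hBF hb)
  have hnP : ∀ p ∈ P, b * p * b⁻¹ ∈ P := fun p hp => D.norP b (hBt b hb) hbz p hp
  have hcomm : ∀ p ∈ P, b * p * b⁻¹ * p⁻¹ = 1 ∨ b * p * b⁻¹ * p⁻¹ = u ∨ b * p * b⁻¹ * p⁻¹ = z ∨
      b * p * b⁻¹ * p⁻¹ = u * z := by
    intro p hp
    refine hBP _ ?_ (P.mul_mem (hnP p hp) (P.inv_mem hp))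
    have h2 : p * b⁻¹ * p⁻¹ ∈ B := hBn p (D.Pt p hp) (D.Pz p hp) _ (B.inv_mem hb)
    have : b * p * b⁻¹ * p⁻¹ = b * (p * b⁻¹ * p⁻¹) := by group
    rw [this]
    exact B.mul_mem hb h2
  have hcen : ∀ p ∈ P, b * p = p * b := by
    refine D.cent_of_comm ?_ hnP
    intro p hp q hq
    exact (D.four_comm (hcomm p hp) q hq).symm
  rcases D.cases_of_mem ht (hBF hb) (hBt b hb) with h1 | h1
  · exact hBP b hb (D.RP h1)
  · exfalso
    have h2 : b * u * b⁻¹ = u := by rw [hcen u D.u_mem_P]; group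
    exact D.u_ne_inv (h2.symm.trans h1)

/-- elementary abelian `N`-invariant subgroups of `C_F(t)` -/
theorem el [Finite G] (D : Data t z u P R F) (ht : t ∉ F) (B : Subgroup G) (hBF : B ≤ F)
    (hBt : ∀ b ∈ B, b * t = t * b) (hBab : ∀ a ∈ B, ∀ b ∈ B, a * b = b * a)
    (hsq : ∀ b ∈ B, b * b = 1)
    (hBn : ∀ n, n * t = t * n → n * z = z * n → ∀ b ∈ B, n * b * n⁻¹ ∈ B) :
    ∀ b ∈ B, b = 1 ∨ b = z := by
  intro b hb
  rcases D.ab ht B hBF hBt hBab hBn b hb with h2 | h2 | h2 | h2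
  · exact Or.inl h2
  · exfalso
    have := hsq b hb
    rw [h2, D.uu] at this
    exact D.z1 this
  · exact Or.inr h2
  · exfalso
    have h3 := hsq b hb
    have huz : u * z = z * u := by rw [← D.uu]; group
    have h4 : u * z * (u * z) = z := by
      calc u * z * (u * z) = u * (z * u) * z := by group
        _ = u * u * (z * z) := by rw [← huz]; group
        _ = z := by rw [D.uu, D.zz, mul_one]
    rw [h2, h4] at h3
    exact D.z1 h3

theorem hyp [Finite G] (D : Data t z u P R F) (ht : t ∉ F) : Hyp t z F :=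
  ⟨D.tt, D.zz, D.z1, D.comm, D.pF, D.leF, D.norF, D.selfF, ht, D.el ht⟩

/-- **(1)** `F` is of symplectic type -/
theorem symplectic [Finite G] (D : Data t z u P R F) (ht : t ∉ F)
    (TR : ∀ lam : centralizer ({z} : Set G) →* ℤˣ, lam ⟨t, mem_centralizer_singleton_iff.2 D.comm⟩ = 1) :
    Cfsg.IsOfSymplecticType F := by
  refine (D.hyp ht).symplectic ?_
  rintro ⟨lam, hl⟩
  rw [TR lam] at hl
  exact (by decide : (1 : ℤˣ) ≠ -1) hl

/-- **(2)** if `F` is extraspecial, then `dim V = 8`, `[V, t]` is 2-dimensional and contains `u` -/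
theorem rank_eq [Finite G] (D : Data t z u P R F) (ht : t ∉ F)
    (TR : ∀ lam : centralizer ({z} : Set G) →* ℤˣ, lam ⟨t, mem_centralizer_singleton_iff.2 D.comm⟩ = 1)
    (h : Large F z) :
    finrank (ZMod 2) h.V = 8 ∧
    finrank (ZMod 2) (LinearMap.range ((h.act ⟨t, mem_centralizer_singleton_iff.2 D.comm⟩).toLinearMap +
      (LinearMap.id : h.V →ₗ[ZMod 2] h.V))) = 2 ∧
    ∃ v, h.act ⟨t, mem_centralizer_singleton_iff.2 D.comm⟩ v + v = h.pr ⟨u, D.R_le_F D.uR⟩ := by
  classical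
  have hfin := finiteDim h
  set tc : centralizer ({z} : Set G) := ⟨t, mem_centralizer_singleton_iff.2 D.comm⟩ with htc
  have hdick : dick h tc = 1 := TR (dick h)
  -- nobody in `C_F(t)` inverts `u`
  have hX : ∀ x ∈ F, x * t = t * x → x ∈ R := by
    intro x0 hx0 hx0t
    rcases D.cases_of_mem ht hx0 hx0t with h0 | h0
    · exact h0
    exfalso
    have h1 : dick h tc = -1 := by
      refine Lam.dick_of_nondeg h tc D.tt ht ?_
      intro y hy hyt hyc
      have huF : u ∈ F := D.R_le_F D.uR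
      have hyu := hyc u huF (D.R_comm D.uR)
      have hyR : y ∈ R := by
        rcases D.cases_of_mem ht hy hyt with h2 | h2
        · exact h2
        · exfalso
          have h3 : y * u * y⁻¹ = u := by rw [hyu]; group
          exact D.u_ne_inv (h3.symm.trans h2)
      have hx0u : x0 * u ≠ u * x0 := by
        intro h3
        have h4 : x0 * u * x0⁻¹ = u := by rw [h3]; group
        exact D.u_ne_inv (h4.symm.trans h0)
      have hyx0 := hyc x0 hx0 hx0t
      rcases D.cR y hyR (fun w hw => hyc w (D.R_le_F hw) (D.R_comm hw)) with h3 | h3 | h3 | h3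
      · exact Or.inl h3
      · rw [h3] at hyx0
        exact absurd hyx0.symm hx0u
      · exact Or.inr h3
      · exfalso
        apply hx0u
        rw [h3] at hyx0
        have c1 : Commute x0 (u * z) := hyx0.symm
        have c2 : Commute x0 z := D.leF x0 hx0
        have c3 : Commute x0 (u * z * z) := c1.mul_right c2
        rw [mul_assoc, D.zz, mul_one] at c3
        exact c3.eq
    rw [hdick] at h1
    exact (by decide : (1 : ℤˣ) ≠ -1) h1
  -- the fixed space
  have hff : ∀ v, h.act tc (h.act tc v) = v := by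
    intro v
    have h1 : h.act (tc * tc) v = v := by
      have : tc * tc = 1 := Subtype.ext D.tt
      rw [this, map_one]; rfl
    rw [map_mul] at h1
    exact h1
  have hcomm1 : ∀ x : F, (x : G) * t = t * x → h.act tc (h.pr x) = h.pr x := by
    intro x hx
    rw [h.act_pr, h.pr_eq_pr, h.conjQ_coe]
    left
    show t * x * t⁻¹ = x
    rw [← hx]; group
  have hcases : ∀ x : F, h.act tc (h.pr x) = h.pr x → (x : G) * t = t * x ∨ (t : G) * x = x * z * t := by
    intro x hx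
    rw [h.act_pr, h.pr_eq_pr, h.conjQ_coe] at hx
    rcases hx with h1 | h1
    · left
      have h2 : t * x * t⁻¹ = x := h1
      rw [mul_inv_eq_iff_eq_mul] at h2
      exact h2.symm
    · right
      have h2 : t * x * t⁻¹ = x * z := h1
      rw [mul_inv_eq_iff_eq_mul] at h2
      exact h2
  -- the image `W` of `R`
  let W : Submodule (ZMod 2) h.V :=
    { carrier := {v | ∃ x : F, (x : G) ∈ R ∧ h.pr x = v}
      zero_mem' := ⟨1, R.one_mem, h.pr_one⟩
      add_mem' := by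
        rintro _ _ ⟨x, hx, rfl⟩ ⟨y, hy, rfl⟩
        exact ⟨x * y, R.mul_mem hx hy, h.pr_mul x y⟩
      smul_mem' := by
        rintro c _ ⟨x, hx, rfl⟩
        rcases zmod_two c with hc | hc
        · rw [hc, zero_smul]; exact ⟨1, R.one_mem, h.pr_one⟩
        · rw [hc, one_smul]; exact ⟨x, hx, rfl⟩ }
  have hmemW : ∀ v, v ∈ W ↔ ∃ x : F, (x : G) ∈ R ∧ h.pr x = v := fun v => Iff.rfl
  have hWfix : W ≤ fix (h.act tc) := by
    intro v hv
    obtain ⟨x, hx, rfl⟩ := (hmemW v).1 hv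
    rw [mem_fix]
    exact hcomm1 x (D.R_comm hx)
  have hcardW : finrank (ZMod 2) W = 5 := by
    let ψ : R →* Multiplicative h.V :=
      { toFun := fun x => Multiplicative.ofAdd (h.pr ⟨x, D.R_le_F x.2⟩)
        map_one' := congrArg Multiplicative.ofAdd h.pr_one
        map_mul' := fun x y => congrArg Multiplicative.ofAdd (h.pr_mul ⟨x, D.R_le_F x.2⟩ ⟨y, D.R_le_F y.2⟩) }
    have e1 : Nat.card R = Nat.card ψ.ker * Nat.card ψ.range := by
      have e := Nat.card_congr (QuotientGroup.quotientKerEquivRange ψ).toEquiv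
      rw [← e, mul_comm]
      exact Subgroup.card_eq_card_quotient_mul_card_subgroup ψ.ker
    have e2 : Nat.card ψ.ker = 2 := by
      have h1 : (ψ.ker : Set R) = {1, ⟨z, D.zR⟩} := by
        ext x
        have h2 : x ∈ ψ.ker ↔ h.pr ⟨x, D.R_le_F x.2⟩ = 0 := Iff.rfl
        rw [SetLike.mem_coe, h2, h.pr_eq_zero, Set.mem_insert_iff, Set.mem_singleton_iff]
        exact or_congr ⟨fun h5 => Subtype.ext h5, fun h5 => congrArg Subtype.val h5⟩
          ⟨fun h5 => Subtype.ext h5, fun h5 => congrArg Subtype.val h5⟩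
      have h3 : Nat.card ψ.ker = Set.ncard (ψ.ker : Set R) := Nat.card_coe_set_eq _
      rw [h3, h1, Set.ncard_pair]
      intro h4
      exact D.z1 (congrArg Subtype.val h4).symm
    have e3 : Nat.card ψ.range = Nat.card W := by
      refine Nat.card_congr ⟨fun y => ⟨Multiplicative.toAdd y.1, ?_⟩, fun v => ⟨Multiplicative.ofAdd v.1, ?_⟩,
        fun _ => rfl, fun _ => rfl⟩
      · obtain ⟨x, hx⟩ := y.2
        exact ⟨⟨x, D.R_le_F x.2⟩, x.2, congrArg Multiplicative.toAdd hx⟩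
      · obtain ⟨x, hx, hv⟩ := v.2
        exact ⟨⟨x, hx⟩, congrArg Multiplicative.ofAdd hv⟩
    have e4 : Nat.card W = 2 ^ finrank (ZMod 2) W := by
      have := Module.natCard_eq_pow_finrank (K := ZMod 2) (V := W)
      rwa [Nat.card_zmod] at this
    rw [D.cardR, e2, e3, e4] at e1
    have : 2 ^ finrank (ZMod 2) W = 2 ^ 5 := by omega
    exact Nat.pow_right_injective (le_refl 2) this
  -- sums of fixed vectors outside `W` are in `W`
  have hadd : ∀ v ∈ fix (h.act tc), ∀ w ∈ fix (h.act tc), v ∉ W → w ∉ W → v + w ∈ W := by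
    intro v hv w hw hvW hwW
    obtain ⟨x, rfl⟩ := h.pr_surjective v
    obtain ⟨y, rfl⟩ := h.pr_surjective w
    rw [mem_fix] at hv hw
    have hx2 := (hcases x hv).resolve_left fun h1 => hvW ⟨x, hX x x.2 h1, rfl⟩
    have hy2 := (hcases y hw).resolve_left fun h1 => hwW ⟨y, hX y y.2 h1, rfl⟩
    refine ⟨x * y, hX _ (x * y).2 ?_, h.pr_mul x y⟩
    have hyz : (y : G) * z = z * y := h.comm_z y y.2
    have e : (t : G) * (x * y) = x * y * t := by
      calc (t : G) * (x * y) = t * x * y := by group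
        _ = x * z * (t * y) := by rw [hx2]; group
        _ = x * (z * y) * z * t := by rw [hy2]; group
        _ = x * y * (z * z) * t := by rw [← hyz]; group
        _ = x * y * t := by rw [h.z_sq]; group
    exact e.symm
  have hfix6 : finrank (ZMod 2) (fix (h.act tc)) = 6 := by
    have h1 := finrank_le_succ W (fix (h.act tc)) hadd
    have h2 := Submodule.finrank_mono hWfix
    rw [hcardW] at h1 h2
    rcases (show finrank (ZMod 2) (fix (h.act tc)) = 5 ∨ finrank (ZMod 2) (fix (h.act tc)) = 6 by omega) with h3 | h3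
    · exfalso
      rw [dick_apply, h3] at hdick
      exact absurd hdick (by decide)
    · exact h3
  -- the commutator space
  set L : h.V →ₗ[ZMod 2] h.V := (h.act tc).toLinearMap + LinearMap.id with hL
  have hLv : ∀ v, L v = h.act tc v + v := fun v => rfl
  have hker : LinearMap.ker L = fix (h.act tc) := by
    ext v
    rw [LinearMap.mem_ker, mem_fix, hLv]
    constructor
    · intro h1
      calc h.act tc v = h.act tc v + (v + v) := by rw [h.add_self, add_zero]
        _ = v := by rw [← add_assoc, h1, zero_add]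
    · intro h1
      rw [h1, h.add_self]
  have hDfix : ∀ d ∈ LinearMap.range L, d ∈ fix (h.act tc) := by
    rintro _ ⟨v, rfl⟩
    rw [mem_fix, hLv, map_add, hff, add_comm]
  have hDperp : ∀ d ∈ LinearMap.range L, ∀ w ∈ fix (h.act tc), h.b d w = 0 := by
    rintro _ ⟨v, rfl⟩ w hw
    rw [mem_fix] at hw
    rw [hLv, map_add, LinearMap.add_apply]
    have h1 := h.b_act tc v w
    rw [hw] at h1
    rw [h1]
    rcases zmod_two (h.b v w) with h2 | h2 <;> rw [h2] <;> decide
  have huF : u ∈ F := D.R_le_F D.uR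
  have hDW : LinearMap.range L ⊓ W ≤ Submodule.span (ZMod 2) {h.pr ⟨u, huF⟩} := by
    rintro d ⟨hd, hdW⟩
    obtain ⟨x, hx, rfl⟩ := (hmemW d).1 hdW
    have h1 : ∀ y ∈ R, (x : G) * y = y * x := by
      intro y hy
      exact (h.b_pr x ⟨y, D.R_le_F hy⟩).1 (hDperp _ hd _ (hWfix ⟨⟨y, D.R_le_F hy⟩, hy, rfl⟩))
    rcases D.cR x hx h1 with h2 | h2 | h2 | h2
    · have : h.pr x = 0 := (h.pr_eq_zero).2 (Or.inl h2)
      rw [this]; exact Submodule.zero_mem _
    · have : h.pr x = h.pr ⟨u, huF⟩ := (h.pr_eq_pr).2 (Or.inl h2)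
      rw [this]; exact Submodule.mem_span_singleton_self _
    · have : h.pr x = 0 := (h.pr_eq_zero).2 (Or.inr h2)
      rw [this]; exact Submodule.zero_mem _
    · have : h.pr x = h.pr ⟨u, huF⟩ := (h.pr_eq_pr).2 (Or.inr h2)
      rw [this]; exact Submodule.mem_span_singleton_self _
  have hsucc : finrank (ZMod 2) (LinearMap.range L) ≤
      finrank (ZMod 2) (LinearMap.range L ⊓ W : Submodule (ZMod 2) h.V) + 1 :=
    finrank_le_succ (LinearMap.range L ⊓ W) (LinearMap.range L) (by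
      intro v hv w hw hvW hwW
      exact ⟨Submodule.add_mem _ hv hw, hadd v (hDfix v hv) w (hDfix w hw) (fun h2 => hvW ⟨hv, h2⟩)
        (fun h2 => hwW ⟨hw, h2⟩)⟩)
  have hrange : finrank (ZMod 2) (LinearMap.range L) ≤ 2 := by
    have h2 := Submodule.finrank_mono hDW
    have h3 : finrank (ZMod 2) (Submodule.span (ZMod 2) {h.pr ⟨u, huF⟩}) ≤ 1 := finrank_span_le_one _
    omega
  have hrk := LinearMap.finrank_range_add_finrank_ker L
  rw [hker, hfix6] at hrk
  have hev := even_finrank h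
  have hne : finrank (ZMod 2) (LinearMap.range L) ≠ 0 := by
    intro h0
    apply ht
    apply h.mem_of_act tc
    ext v
    show h.act tc v = v
    have h1 : L v ∈ LinearMap.range L := ⟨v, rfl⟩
    have h2 : LinearMap.range L = ⊥ := Submodule.finrank_eq_zero.1 h0
    rw [h2, Submodule.mem_bot] at h1
    have h3 : v ∈ LinearMap.ker L := h1
    rw [hker, mem_fix] at h3
    exact h3
  have h8 : finrank (ZMod 2) h.V = 8 := by
    rw [Nat.even_iff] at hev
    omega
  have h2 : finrank (ZMod 2) (LinearMap.range L) = 2 := by omega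
  refine ⟨h8, h2, ?_⟩
  -- `u ∈ [V, t]`
  have h3 : finrank (ZMod 2) (LinearMap.range L ⊓ W : Submodule (ZMod 2) h.V) ≠ 0 := by omega
  have h4 : (LinearMap.range L ⊓ W : Submodule (ZMod 2) h.V) ≠ ⊥ := by
    intro h5
    rw [h5, finrank_bot] at h3
    exact h3 rfl
  obtain ⟨d, hd, hd0⟩ := Submodule.exists_mem_ne_zero_of_ne_bot h4
  obtain ⟨c, hc⟩ := Submodule.mem_span_singleton.1 (hDW hd)
  have hc1 : c = 1 := by
    rcases zmod_two c with h5 | h5
    · rw [h5, zero_smul] at hc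
      exact absurd hc.symm hd0
    · exact h5
  rw [hc1, one_smul] at hc
  obtain ⟨v, hv⟩ := hd.1
  exact ⟨v, by rw [hc, ← hv]; rfl⟩

/-- **(2)** if `F` is extraspecial, then `|F| = 2^9` -/
theorem card_eq [Finite G] (D : Data t z u P R F) (ht : t ∉ F)
    (TR : ∀ lam : centralizer ({z} : Set G) →* ℤˣ, lam ⟨t, mem_centralizer_singleton_iff.2 D.comm⟩ = 1)
    (h : Large F z) : Nat.card F = 2 ^ 9 := by
  have hV : Nat.card h.V = 2 ^ 8 := by
    have := Module.natCard_eq_pow_finrank (K := ZMod 2) (V := h.V)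
    rwa [Nat.card_zmod, (D.rank_eq ht TR h).1] at this
  rw [h.card_eq, hV]
  norm_num

/-- **(3)** (helper970) `F` is not extraspecial -/
theorem not_large [Finite G] (D : Data t z u P R F) (ht : t ∉ F)
    (TR : ∀ lam : centralizer ({z} : Set G) →* ℤˣ, lam ⟨t, mem_centralizer_singleton_iff.2 D.comm⟩ = 1)
    (h : Large F z) {g x₀ r₁ r₂ s₁ s₂ : G} (hg : g * z = z * g) (hgt : g * t * g⁻¹ = t * x₀)
    (hx₀z : x₀ * z = z * x₀) (hr₁ : r₁ ∈ R) (hr₂ : r₂ ∈ R)
    (hs₁ : x₀ * r₁ * x₀⁻¹ * r₁⁻¹ = s₁) (hs₂ : x₀ * r₂ * x₀⁻¹ * r₂⁻¹ = s₂) (hR₁ : s₁ ∈ R) (hR₂ : s₂ ∈ R)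
    (h₁ : s₁ * s₁ = 1) (h₂ : s₂ * s₂ = 1) (h₁₂ : s₁ * s₂ * (s₁ * s₂) = 1)
    (n₁ : s₁ ≠ 1 ∧ s₁ ≠ z) (n₂ : s₂ ≠ 1 ∧ s₂ ≠ z) (n₁₂ : s₁ * s₂ ≠ 1 ∧ s₁ * s₂ ≠ z) : False := by
  classical
  have hfin := finiteDim h
  obtain ⟨h8, hrk, v, hv⟩ := D.rank_eq ht TR h
  set tc : centralizer ({z} : Set G) := ⟨t, mem_centralizer_singleton_iff.2 D.comm⟩ with htc
  set gc : centralizer ({z} : Set G) := ⟨g, mem_centralizer_singleton_iff.2 hg⟩ with hgc
  set xc : centralizer ({z} : Set G) := ⟨x₀, mem_centralizer_singleton_iff.2 hx₀z⟩ with hxc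
  have hcomp : h.act gc * h.act tc = h.act tc * h.act xc * h.act gc := by
    rw [← map_mul, ← map_mul, ← map_mul]
    congr 1
    apply Subtype.ext
    show g * t = t * x₀ * g
    rw [← hgt]; group
  set S : Submodule (ZMod 2) h.V := (LinearMap.range ((h.act tc).toLinearMap +
      (LinearMap.id : h.V →ₗ[ZMod 2] h.V))).map (h.act gc).toLinearMap with hS
  have hS4 : Nat.card S = 4 := by
    have h3 : finrank (ZMod 2) S = 2 := by
      rw [hS, LinearEquiv.finrank_map_eq]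
      exact hrk
    have := Module.natCard_eq_pow_finrank (K := ZMod 2) (V := S)
    rwa [Nat.card_zmod, h3] at this
  have hmem : ∀ w, h.act tc (h.act xc w) + w ∈ S := by
    intro w
    refine ⟨_, ⟨(h.act gc).symm w, rfl⟩, ?_⟩
    show h.act gc (h.act tc ((h.act gc).symm w) + (h.act gc).symm w) = _
    rw [map_add, LinearEquiv.apply_symm_apply]
    congr 1
    have h3 := congrArg (fun f : h.V ≃ₗ[ZMod 2] h.V => f ((h.act gc).symm w)) hcomp
    have h4 : h.act gc (h.act tc ((h.act gc).symm w)) =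
        h.act tc (h.act xc (h.act gc ((h.act gc).symm w))) := h3
    rw [h4, LinearEquiv.apply_symm_apply]
  have hRF := D.R_le_F
  have hact : ∀ {r s : G} (hr : r ∈ R) (hsR : s ∈ R), x₀ * r * x₀⁻¹ * r⁻¹ = s →
      h.pr ⟨s, hRF hsR⟩ ∈ S := by
    intro r s hr hsR hs
    have h3 := hmem (h.pr ⟨r, hRF hr⟩)
    have h4 : h.act xc (h.pr ⟨r, hRF hr⟩) = h.pr ⟨s, hRF hsR⟩ + h.pr ⟨r, hRF hr⟩ := by
      rw [h.act_pr, ← h.pr_mul, h.pr_eq_pr, h.conjQ_coe]
      left
      show x₀ * r * x₀⁻¹ = s * r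
      rw [← hs]; group
    have h5 : ∀ {y : G} (hy : y ∈ R), h.act tc (h.pr ⟨y, hRF hy⟩) = h.pr ⟨y, hRF hy⟩ := by
      intro y hy
      rw [h.act_pr, h.pr_eq_pr, h.conjQ_coe]
      left
      show t * y * t⁻¹ = y
      rw [← D.R_comm hy]; group
    rw [h4, map_add, h5 hsR, h5 hr, add_assoc, h.add_self, add_zero] at h3
    exact h3
  have ha := hact hr₁ hR₁ hs₁
  have hb := hact hr₂ hR₂ hs₂
  have hab : h.pr ⟨s₁, hRF hR₁⟩ + h.pr ⟨s₂, hRF hR₂⟩ = h.pr ⟨s₁ * s₂, hRF (R.mul_mem hR₁ hR₂)⟩ :=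
    (h.pr_mul _ _).symm
  have hne : ∀ {s : G} (hs : s ∈ F), s ≠ 1 ∧ s ≠ z → h.pr ⟨s, hs⟩ ≠ 0 := by
    intro s hs hn h3
    rcases (h.pr_eq_zero).1 h3 with h4 | h4
    · exact hn.1 h4
    · exact hn.2 h4
  have hfour := four hS4 ha hb (hne _ n₁) (hne _ n₂) (by rw [hab]; exact hne _ n₁₂)
  have hu : h.act gc (h.pr ⟨u, hRF D.uR⟩) ∈ S := by
    refine ⟨_, ⟨v, rfl⟩, ?_⟩
    show h.act gc (h.act tc v + v) = _
    rw [hv]
  have hq : h.q (h.act gc (h.pr ⟨u, hRF D.uR⟩)) = 1 := by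
    rw [h.q_act, h.q_eq_one]
    exact D.uu
  have hq0 : ∀ {s : G} (hs : s ∈ F), s * s = 1 → h.q (h.pr ⟨s, hs⟩) = 0 := fun hs h3 =>
    (h.q_eq_zero).2 h3
  rcases hfour _ hu with h3 | h3 | h3 | h3
  · rw [h3, h.q_zero] at hq
    exact absurd hq (by decide)
  · rw [h3, hq0 _ h₁] at hq
    exact absurd hq (by decide)
  · rw [h3, hq0 _ h₂] at hq
    exact absurd hq (by decide)
  · rw [h3, hab, hq0 _ h₁₂] at hq
    exact absurd hq (by decide)

end Data

end Cfsg.Agent.OddHalf.D8.TypeHS
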