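import Cfsg.Agent.OddHalf.D8.MainE
import Cfsg.Agent.OddHalf.D8.SheetMap
import Cfsg.Agent.OddHalf.D8.SheetMMap
import Cfsg.Agent.KFacts.FiTF.SheetF
import Cfsg.Agent.KFacts.FiTF.QuasiBInst
import Cfsg.Agent.KFacts.FiTF.SubOrb

/-!
# ODD half, D8: the row of the Fischer group `Fi24'`
-/

set_option autoImplicit false

namespace Cfsg.Agent.OddHalf.D8.RowFi24

open Cfsg Cfsg.Spor Subgroup Cfsg.Agent.OddHalf.D8.Sheet
open Cfsg.Agent.KFacts.FiTF Cfsg.Agent.KFacts.FiTF.Defs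

universe u

/-- normal subgroups of `E` containing `R` -/
theorem dich (N : Subgroup Spor.Fi24) (hN : N ≤ E) (hR : R ≤ N) (hn : ∀ e ∈ E, ∀ n ∈ N, e * n * e⁻¹ ∈ N) :
    (∀ n ∈ N, QuasiA.Fixes n) ∨ N = E := by
  have : Finite Spor.Fi24 := Cfsg.Agent.R08.FiTwentyFour.finite_Fi24
  exact (QuasiBInst.hyp FixZ.tran FixZ.ncard_Dz Order.card (Cent.cent FixZ.tran) (PerfE.perf FixZ.tran)
    (fun M h1 h2 h3 => QuasiA.dichW h2 h3 FixZ.tran SubOrb.quasi1 SubOrb.quasi2 h1)).dich_E hN hR hn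

/-- the sheet of case (M) of `Fi24'` -/
theorem sheetM : CaseM.SheetM (E.subgroupOf (commutator Spor.Fi24)) (R.subgroupOf (commutator Spor.Fi24)) :=
  SheetMFi.sheetM_of FixZ.tran frame sheetE Order.card dich

/-- the field `fi24` of `Final.Missing` (`FactsE`) -/
theorem facts (K : Type u) [Group K] (_ : Finite K) (e : Spor.IsoFi24' K) :
    ∃ (z : K) (P R : Subgroup K), SheetE z P R ∧ CaseM.SheetM P R := by
  obtain ⟨e⟩ := e
  exact ⟨_, _, _, SheetMap.sheetE_map e.symm sheetE, SheetMMap.sheetM_map e.symm sheetM⟩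

/-- the row modulo the K-free case (M) -/
theorem row_of_noComp (hM : MainE.NoComp.{u} (fun _ _ _ P R => CaseM.SheetM P R)) :
    Rows.Row.{u} (fun K _ => Spor.IsoFi24' K) :=
  MainE.row_of hM facts

end Cfsg.Agent.OddHalf.D8.RowFi24
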