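import Cfsg.Agent.OddHalf.D8.MainE
import Cfsg.Agent.KFacts.J4.SheetJ4

/-!
# ODD half, D8: the row of the fourth Janko group (helper869)
-/

set_option autoImplicit false

namespace Cfsg.Agent.OddHalf.D8.RowJ4

open Cfsg Cfsg.Agent.OddHalf.D8.Sheet

universe u

/-- the sheet together with further facts `Y` that are proved for the data of `J4` -/
theorem exists_sheet {Y : (K : Type u) → [Group K] → K → Subgroup K → Subgroup K → Prop}
    (hY : ∀ (K : Type u) [Group K] [Finite K] [IsSimpleGroup K] (F : KFacts.J4.Base.Full K),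
      Y K F.C.z (KFacts.J4.Base.MM F.C.toCent) F.C.Q) (K : Type u) [Group K] (h : Spor.IsoJ4 K) :
    ∃ (z : K) (P R : Subgroup K), SheetE z P R ∧ Y K z P R := by
  obtain ⟨h1, h2, ⟨F⟩⟩ := KFacts.J4.Base.exists_full h
  exact ⟨_, _, _, KFacts.J4.SheetJ4.sheet F, hY K F⟩

/-- **the row K = J4 of D8** -/
theorem row (hM : MainE.NoComponent.{u}) : Rows.Row.{u} (fun K _ => Spor.IsoJ4 K) :=
  MainE.row MainE.frontOuter hM fun K _ _ h => KFacts.J4.SheetJ4.exists_sheet h

/-- the row with further facts -/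
theorem row_of {Y : (K : Type u) → [Group K] → K → Subgroup K → Subgroup K → Prop} (hM : MainE.NoComp.{u} Y)
    (hY : ∀ (K : Type u) [Group K] [Finite K] [IsSimpleGroup K] (F : KFacts.J4.Base.Full K),
      Y K F.C.z (KFacts.J4.Base.MM F.C.toCent) F.C.Q) : Rows.Row.{u} (fun K _ => Spor.IsoJ4 K) :=
  MainE.row_of hM fun _ _ _ h => exists_sheet hY _ h

end Cfsg.Agent.OddHalf.D8.RowJ4
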