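import Cfsg.Agent.OddHalf.Front.OfSheet
import Cfsg.Agent.OddHalf.D8.SheetMap
import Cfsg.Agent.OddHalf.D8.Rows
import Cfsg.Agent.OddHalf.D8.Phi.RuEnd
import Cfsg.Agent.OddHalf.D9.Ru.XFA
import Cfsg.Agent.OddHalf.D9.Ru.XR
import Cfsg.Agent.OddHalf.D9.Ru.Inn
import Cfsg.Agent.KFacts.Ru.EndWords
import Cfsg.Agent.KFacts.Ru.InvC
import Cfsg.Agent.KFacts.Ru.Core

/-!
# ODD half, D8: the row of the Rudvalis group (helper294)

* `sheet`: `Basic z P` on the model `H = RuOrder.H` with `z = S²`, `P = P1 = C(z)'` of index 2 in `C(z)`;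
* `R1`: the statement of the existence of one element of the family (`OddHalf/D8/RuFam`, helper936);
* `row_of`: the row, from `R1` and the facts `RuEnd.Facts` on the model (helpers 879, 871, 953).
-/

set_option autoImplicit false

namespace Cfsg.Agent.OddHalf.D8.RowRu

open Subgroup Cfsg Cfsg.Agent.SporadicB Cfsg.Agent.RuD.Letters Cfsg.Agent.OddHalf.D8.Sheet
open Cfsg.Agent.OddHalf.D9.Ru Cfsg.Agent.OddHalf.D9.Ru.XDef Cfsg.Agent.OddHalf.Front
open Cfsg.Agent.KFacts.Ru.ConjWord Cfsg.Agent.SporRec.TCUpperCert Cfsg.Agent.SporRec.R3.Kernel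
open scoped commutatorElement

universe u

/-! ### the sheet -/

/-- a sheet for a group all whose automorphisms are inner -/
theorem basic_of {K : Type*} [Group K] {z : K} {P : Subgroup K} (zz : z * z = 1) (z1 : z ≠ 1)
    (syl : ∃ S : Sylow 2 K, z ∈ S ∧ (∀ x ∈ S, x * z = z * x) ∧
      ∀ y ∈ S, (∀ x ∈ S, x * y = y * x) → y = 1 ∨ y = z)
    (zP : z ∈ P) (cen : ∀ x ∈ P, x * z = z * x) (perf : ⁅P, P⁆ = P)
    (der : ∃ m, TR.dser m (centralizer ({z} : Set K)) ≤ P)
    (inn : ∀ α : MulAut K, ∃ k : K, α = MulAut.conj k) : Basic z P where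
  zz := zz
  z1 := z1
  syl := syl
  zP := zP
  cen := cen
  perf := perf
  der := der
  out := by
    have h : (MulAut.conj : K →* MulAut K).range = ⊤ := by
      rw [eq_top_iff]
      intro α _
      obtain ⟨k, rfl⟩ := inn α
      exact ⟨k, rfl⟩
    rw [h, index_top]
    norm_num
  schreier := ⟨0, fun α _ => by
    obtain ⟨k, rfl⟩ := inn α
    exact ⟨k, rfl⟩⟩
  sylAut := fun _ _ α _ _ => inn α

/-- the model is a Rudvalis group -/
theorem isoRu_H : Spor.IsoRu RuOrder.H := ⟨Cfsg.Agent.RuLat.Main.equiv.symm⟩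

theorem inn_of {K : Type*} [Group K] (e : RuOrder.H ≃* K) (α : MulAut K) :
    ∃ k : K, α = MulAut.conj k := by
  obtain ⟨g, hg⟩ := Cfsg.Agent.OddHalf.Table.OutRu.inner (e.trans (α.trans e.symm))
  refine ⟨e g, ?_⟩
  ext x
  have h1 := congrArg (fun t : MulAut _ => t (e.symm x)) hg
  have h2 : e.symm (α x) = g * e.symm x * g⁻¹ := by
    have h3 : e.symm (α (e (e.symm x))) = g * e.symm x * g⁻¹ := h1
    rwa [e.apply_symm_apply] at h3
  rw [MulAut.conj_apply]
  apply e.symm.injective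
  rw [h2, map_mul, map_mul, map_inv, e.symm_apply_apply]

/-- the element `S²` is not trivial -/
theorem z1 : S * S ≠ 1 := by
  intro h
  have h1 := XFAU.card_cent_eq
  have h2 : (Subgroup.centralizer {S * S} : Subgroup RuOrder.H) = ⊤ := by
    rw [eq_top_iff]
    intro x _
    rw [mem_centralizer_singleton_iff, h, mul_one, one_mul]
  rw [h2, card_top, RuOrder.card_H] at h1
  norm_num at h1

theorem finH : Finite RuOrder.H := XFA.finH

/-- `S²` is 2-central and generates the centre of a Sylow subgroup -/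
theorem syl_H : ∃ P : Sylow 2 RuOrder.H, S * S ∈ P ∧ (∀ x ∈ P, x * (S * S) = S * S * x) ∧
    ∀ y ∈ P, (∀ x ∈ P, x * y = y * x) → y = 1 ∨ y = S * S := by
  have := finH
  have : Fact (Nat.Prime 2) := ⟨Nat.prime_two⟩
  obtain ⟨C, -⟩ := Cfsg.Agent.KFacts.Ru.exists_core isoRu_H
  obtain ⟨P, -, hz, -, -, hZ⟩ := Cfsg.Agent.KFacts.Ru.InvC.exists_sylow C
  set CZ : Subgroup RuOrder.H := Subgroup.centralizer {S * S} with hCZ
  obtain ⟨Q⟩ : Nonempty (Sylow 2 CZ) := inferInstance
  have hp : IsPGroup 2 ↥((Q : Subgroup CZ).map CZ.subtype) := Q.isPGroup'.map _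
  have hi : ¬ 2 ∣ ((Q : Subgroup CZ).map CZ.subtype).index := by
    rw [index_map_subtype]
    exact Nat.prime_two.not_dvd_mul Q.not_dvd_index XFAU.odd
  let Q' : Sylow 2 RuOrder.H := hp.toSylow hi
  have hQ' : (Q' : Subgroup RuOrder.H) = (Q : Subgroup CZ).map CZ.subtype := rfl
  obtain ⟨g, hg⟩ := MulAction.exists_smul_eq RuOrder.H P Q'
  have hmem : ∀ x, x ∈ P → g * x * g⁻¹ ∈ Q' := by
    intro x hx
    rw [← hg]
    exact ⟨x, hx, rfl⟩
  have hcen : ∀ x ∈ Q', x * (S * S) = S * S * x := by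
    intro x hx
    obtain ⟨y, -, rfl⟩ := hx
    exact mem_centralizer_singleton_iff.1 y.2
  have key : ∀ y : RuOrder.H, (∀ x ∈ Q', x * y = y * x) → g⁻¹ * y * g = 1 ∨ g⁻¹ * y * g = C.z 1 := by
    intro y hy
    refine hZ _ fun x hx => ?_
    have h1 := hy _ (hmem x hx)
    calc x * (g⁻¹ * y * g) = g⁻¹ * (g * x * g⁻¹ * y) * g := by group
      _ = g⁻¹ * (y * (g * x * g⁻¹)) * g := by rw [h1]
      _ = g⁻¹ * y * g * x := by group
  have hz1 : g⁻¹ * (S * S) * g = C.z 1 := by
    rcases key _ hcen with h | h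
    · exfalso
      apply z1
      calc S * S = g * (g⁻¹ * (S * S) * g) * g⁻¹ := by group
        _ = 1 := by rw [h]; group
    · exact h
  refine ⟨Q', ?_, hcen, ?_⟩
  · -- a 2-element commuting with `Q'`
    have h2 : IsPGroup 2 ↥(zpowers (S * S)) := by
      refine IsPGroup.of_card (n := 1) ?_
      rw [Nat.card_zpowers, pow_one, orderOf_eq_prime_iff]
      exact ⟨by rw [pow_two]; exact XR.zz, z1⟩
    have h3 : (zpowers (S * S) : Subgroup RuOrder.H) ≤ normalizer ((Q' : Subgroup RuOrder.H) : Set RuOrder.H) := by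
      rw [zpowers_le, mem_normalizer_iff]
      intro x
      constructor
      · intro hx
        have : S * S * x * (S * S)⁻¹ = x := by rw [← hcen x hx]; group
        rw [this]
        exact hx
      · intro hx
        have h4 := hcen _ hx
        have h5 : x = S * S * x * (S * S)⁻¹ := by
          refine mul_left_cancel (a := S * S) ?_
          rw [← h4, inv_mul_cancel_right]
        rw [h5]
        exact hx
    have h4 : IsPGroup 2 ↥(zpowers (S * S) ⊔ (Q' : Subgroup RuOrder.H)) :=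
      h2.to_sup_of_normal_right' Q'.isPGroup' h3
    have h5 := Q'.is_maximal' h4 le_sup_right
    have h6 : S * S ∈ zpowers (S * S) ⊔ (Q' : Subgroup RuOrder.H) :=
      (le_sup_left : zpowers (S * S) ≤ zpowers (S * S) ⊔ (Q' : Subgroup RuOrder.H)) (mem_zpowers _)
    rw [h5] at h6
    exact h6
  · intro y _ hyc
    rcases key y hyc with h | h
    · left
      calc y = g * (g⁻¹ * y * g) * g⁻¹ := by group
        _ = 1 := by rw [h]; group
    · right
      rw [← hz1] at h
      calc y = g * (g⁻¹ * y * g) * g⁻¹ := by group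
        _ = S * S := by rw [h]; group

/-- `C(z)' ≤ P1` -/
theorem der_H : ∃ m, TR.dser m (centralizer ({S * S} : Set RuOrder.H)) ≤ P1 := by
  refine ⟨1, ?_⟩
  rw [TR.dser_succ', TR.dser_zero]
  obtain ⟨h, hCZ, -, -, hc⟩ := XFA.cover
  by_cases hh : h ∈ P1
  · have hall : ∀ x ∈ (Subgroup.centralizer {S * S} : Subgroup RuOrder.H), x ∈ P1 := by
      intro x hx
      rcases hc x hx with h1 | h1
      · exact h1
      · have := mul_mem hh h1
        rwa [mul_inv_cancel_left] at this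
    rw [commutator_le]
    intro a ha b hb
    exact mul_mem (mul_mem (mul_mem (hall a ha) (hall b hb)) (inv_mem (hall a ha))) (inv_mem (hall b hb))
  · set CZ : Subgroup RuOrder.H := Subgroup.centralizer {S * S} with hCZd
    set N : Subgroup CZ := P1.subgroupOf CZ with hN
    have hidx : N.index = 2 := by
      rw [index_eq_two_iff_exists_notMem_and]
      refine ⟨⟨h, hCZ⟩, fun h1 => hh (mem_subgroupOf.1 h1), fun b => ?_⟩
      rcases hc b⁻¹ (inv_mem b.2) with h1 | h1
      · exact Or.inr (mem_subgroupOf.2 (inv_mem_iff.1 h1))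
      · left
        rw [← mul_inv_rev] at h1
        exact mem_subgroupOf.2 (inv_mem_iff.1 h1)
    rw [commutator_le]
    intro a ha b hb
    have h1 : (⟨a, ha⟩ * ⟨b, hb⟩ * ⟨a, ha⟩⁻¹ * ⟨b, hb⟩⁻¹ : CZ) ∈ N := by
      rw [mul_mem_iff_of_index_two hidx, mul_mem_iff_of_index_two hidx, mul_mem_iff_of_index_two hidx,
        inv_mem_iff, inv_mem_iff]
      tauto
    exact h1

theorem sheet_H : Basic (S * S) P1 :=
  basic_of XR.zz z1 syl_H (mul_mem XR.S_mem XR.S_mem) XR.z_comm XFA.P1_perf der_H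
    Cfsg.Agent.OddHalf.Table.OutRu.inner

/-- the sheet of a group isomorphic to the model -/
theorem sheet {K : Type*} [Group K] (e : RuOrder.H ≃* K) : Basic (e (S * S)) (P1.map e.toMonoidHom) := by
  have h := sheet_H
  refine basic_of ?_ ?_ (SheetMap.syl_map e h.syl) ⟨_, h.zP, rfl⟩ ?_ ?_ ?_ (inn_of e)
  · rw [← map_mul, h.zz, map_one]
  · exact fun h1 => h.z1 (e.injective (by rw [h1, map_one]))
  · rintro _ ⟨x, hx, rfl⟩
    show e x * e (S * S) = e (S * S) * e x
    rw [← map_mul, h.cen x hx, map_mul]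
  · rw [← map_commutator, h.perf]
  · obtain ⟨m, hm⟩ := h.der
    refine ⟨m, ?_⟩
    rw [SheetMap.centralizer_map, SheetMap.dser_map]
    exact Subgroup.map_mono hm

/-! ### the row -/

/-- **(R1)**: in the starting position there is an involution `a` with `tᵃ = t z` centralising `C_K(z)` -/
def R1 : Prop := ∀ (G : Type u) [Group G] [Finite G] (K : Subgroup G) (e : RuOrder.H ≃* ↥K) (t x : G),
  t * t = 1 → t ∉ K → (∀ k ∈ K, k * t = t * k) → (∀ g : G, g * t = t * g → g ∈ K ∨ t * g ∈ K) →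
  x * t * x⁻¹ = t * (e (S * S) : G) → x * (e (S * S) : G) * x⁻¹ = (e (S * S) : G) →
  ∃ a : G, a * a = 1 ∧ a * t * a = t * (e (S * S) : G) ∧
    ∀ k ∈ K, k * (e (S * S) : G) = (e (S * S) : G) * k → k * a = a * k

/-- `W` and `S²` are conjugate -/
theorem chkW : chkRel [cj [2, 1] [2] [1, 1]] = true := by decide +kernel

theorem W_eq : (W * S) * W * (W * S)⁻¹ = S * S := by
  have h := conj_of (g := [2, 1]) (p := [2]) (q := [1, 1]) (rel_of_chk chkW _ (by simp))
  have e1 : (wprod ml [2, 1] : RuOrder.H) = W * S := by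
    rw [wprod_cons, wprod_cons, wprod_nil, mul_one]; rfl
  have e2 : (wprod ml [2] : RuOrder.H) = W := by
    rw [wprod_cons, wprod_nil, mul_one]; rfl
  have e3 : (wprod ml [1, 1] : RuOrder.H) = S * S := by
    rw [wprod_cons, wprod_cons, wprod_nil, mul_one]; rfl
  rwa [e1, e2, e3] at h

/-- **(R3)**: the facts of the end -/
def R3 : Prop := ∃ q r v₁ q' r' y y' v₂ w s u₂ u₃ u₄ : RuOrder.H,
  Phi.RuEnd.Facts (⊤ : Subgroup RuOrder.H) Cfsg.Agent.KFacts.Ru.EndWords.D W q r v₁ q' r' y y' v₂ w s u₂ u₃ u₄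

/-- no homomorphism onto `{1, -1}` -/
theorem no_hom {G : Type*} [Group G] (hG : commutator G = ⊤) {t : G} (m : G →* ℤˣ) (hm : m t = -1) : False := by
  have h1 : commutator G ≤ m.ker := Abelianization.commutator_subset_ker m
  rw [hG] at h1
  have h2 : m t = 1 := h1 (mem_top t)
  rw [hm] at h2
  exact absurd h2 (by decide)

/-- the centralizer of `t` -/
theorem cen_t {G : Type u} [Group G] {K : Subgroup G} (e : RuOrder.H ≃* ↥K) {t q : G} (h : FE.Start K t q)
    (hQ : ∀ y ∈ zpowers q, y = 1 ∨ y = t) (g : G) (hg : g * t = t * g) : g ∈ K ∨ t * g ∈ K := by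
  obtain ⟨k, hk⟩ := inn_of e (K.normalizerMonoidHom ⟨g, h.nK g hg⟩)
  have h2 := GlueE.exists_of_conj (h.nK g hg) hk
  have h4 := h.Kt (k : G)⁻¹ (K.inv_mem k.2)
  have h3 : (k : G)⁻¹ * g ∈ zpowers q := by
    apply h.cK
    · calc (k : G)⁻¹ * g * t = (k : G)⁻¹ * (g * t) := by group
        _ = ((k : G)⁻¹ * t) * g := by rw [hg]; group
        _ = t * ((k : G)⁻¹ * g) := by rw [h4]; group
    · exact h2
  rcases hQ _ h3 with h5 | h5
  · left
    have : g = k := by
      calc g = (k : G) * ((k : G)⁻¹ * g) := by group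
        _ = k := by rw [h5, mul_one]
    rw [this]
    exact k.2
  · right
    have : t * g = k := by
      calc t * g = t * ((k : G) * ((k : G)⁻¹ * g)) := by group
        _ = t * ((k : G) * t) := by rw [h5]
        _ = t * (t * (k : G)) := by rw [h.Kt _ k.2]
        _ = k := by rw [← mul_assoc, h.tt, one_mul]
    rw [this]
    exact k.2

/-- **the row**, from (R1) and (R3) -/
theorem row_of (h1 : R1.{u}) (h3 : R3) : Rows.Row.{u} (fun K _ => Spor.IsoRu K) := by
  intro G _ hG K hK hC hR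
  have := hG.fin
  obtain ⟨e1⟩ := hR
  let e : RuOrder.H ≃* ↥K := (e1.trans Cfsg.Agent.RuLat.Main.equiv).symm
  have hcen : center ↥K = ⊥ := by
    rw [eq_bot_iff]
    intro x hx
    rw [mem_bot]
    apply e.symm.injective
    rw [map_one]
    refine Inn.center_H _ fun b => ?_
    have h2 := mem_center_iff.1 hx (e b)
    apply e.injective
    rw [map_mul, map_mul, e.apply_symm_apply, h2]
  obtain ⟨t, q, T, S', x, hp⟩ := OfSheet.front hG hK hC hcen (sheet e)
  have tK : t ∉ K := hp.toEmb.tK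
  have comm : ∀ k ∈ K, k * t = t * k := hp.st.Kt
  have cen := cen_t e hp.st hp.Q2
  obtain ⟨a, aa, at', ac⟩ := h1 G K e t x hp.st.tt tK comm cen hp.xt hp.xz
  obtain ⟨fam, hfam, -⟩ := Phi.exists_fam hp.st.tt tK comm cen (e (S * S)).2 (hp.toEmb.zz) aa at' ac
  obtain ⟨q, r, v₁, q', r', y, y', v₂, w, s, u₂, u₃, u₄, F⟩ := h3
  have F' := F.map (K.subtype.comp e.toMonoidHom) (K.subtype_injective.comp e.injective)
  have hrange : (K.subtype.comp e.toMonoidHom).range = K := by
    rw [MonoidHom.range_comp, MonoidHom.range_eq_top.2 e.surjective, ← MonoidHom.range_eq_map, range_subtype]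
  have hD : (K.subtype.comp e.toMonoidHom) '' Cfsg.Agent.KFacts.Ru.EndWords.D =
      {v | ∃ k ∈ K, v = k * (e (S * S) : G) * k⁻¹} := by
    ext v
    constructor
    · rintro ⟨_, ⟨k, rfl⟩, rfl⟩
      refine ⟨e (k * (W * S)⁻¹), (e (k * (W * S)⁻¹)).2, ?_⟩
      have h5 : k * W * k⁻¹ = k * (W * S)⁻¹ * (S * S) * (k * (W * S)⁻¹)⁻¹ := by
        rw [← W_eq]
        group
      show ((e (k * W * k⁻¹) : K) : G) = _
      rw [h5, map_mul, map_mul, map_inv]
      rfl
    · rintro ⟨k, hk, rfl⟩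
      refine ⟨(e.symm ⟨k, hk⟩ * (W * S)) * W * (e.symm ⟨k, hk⟩ * (W * S))⁻¹, ⟨_, rfl⟩, ?_⟩
      have h5 : (e.symm ⟨k, hk⟩ * (W * S)) * W * (e.symm ⟨k, hk⟩ * (W * S))⁻¹ =
          e.symm ⟨k, hk⟩ * (S * S) * (e.symm ⟨k, hk⟩)⁻¹ := by
        rw [← W_eq]
        group
      rw [h5]
      show ((e (e.symm ⟨k, hk⟩ * (S * S) * (e.symm ⟨k, hk⟩)⁻¹) : K) : G) = _
      rw [map_mul, map_mul, map_inv, e.apply_symm_apply]
      rfl
  rw [hrange, hD] at F'
  obtain ⟨m, hm⟩ := F'.exists_hom hfam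
  exact no_hom (FE.commutator_eq_top hG) m hm

end Cfsg.Agent.OddHalf.D8.RowRu
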