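import Cfsg.Agent.OddHalf.D8.RowRu
import Cfsg.Agent.OddHalf.D8.RuFam.Exists
import Cfsg.Agent.OddHalf.D8.RuFam.Map
import Cfsg.Agent.KFacts.Ru.EndFacts

/-!
# ODD half, D8: the row of the Rudvalis group from the three packets (helper294)

`row_of_packets`: the row `Rows.Row IsoRu` from the facts `Loc`, `Plane`, `Twist` (OddHalf/D8/RuFam) on the model
`RuOrder.H`.
-/

set_option autoImplicit false

namespace Cfsg.Agent.OddHalf.D8.RowRu

open Subgroup Cfsg Cfsg.Agent.SporadicB Cfsg.Agent.RuD.Letters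
open Cfsg.Agent.OddHalf.D9.Ru Cfsg.Agent.OddHalf.D9.Ru.XDef Cfsg.Agent.OddHalf.D8.RuFam

universe u

/-- **(R3)** -/
theorem r3 : R3 := ⟨_, _, _, _, _, _, _, _, _, _, _, _, _, by
  have h := Cfsg.Agent.KFacts.Ru.EndFacts.facts_model
  have e : Cfsg.Agent.KFacts.Ru.EndWords.hw Cfsg.Agent.KFacts.Ru.EndWords.zw = W :=
    Cfsg.Agent.KFacts.Ru.EndWords.hw_two
  rw [e] at h
  exact h⟩

/-- **(R1)** from the packets -/
theorem r1_of {B : Subgroup RuOrder.H} {k u ρ g j e₀ e₁ g₂ eb j₂ x₂ h f k₂ k₃ v f₂ : RuOrder.H}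
    (L : Loc (⊤ : Subgroup RuOrder.H) (S * S) P1 XR.R B XR.E)
    (Q : Plane (⊤ : Subgroup RuOrder.H) (S * S) P1 XR.R B XR.E k u ρ g j e₀ e₁ g₂ eb j₂ x₂ h f)
    (T : Twist (⊤ : Subgroup RuOrder.H) (S * S) P1 k₂ k₃ v f₂) : R1.{u} := by
  intro G _ _ K e t x tt tK comm cen hx xz
  have hφ : Function.Injective (K.subtype.comp e.toMonoidHom) := K.subtype_injective.comp e.injective
  have hrange : (K.subtype.comp e.toMonoidHom).range = K := by
    rw [MonoidHom.range_comp, MonoidHom.range_eq_top.2 e.surjective, ← MonoidHom.range_eq_map, range_subtype]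
  have L' := L.map hφ
  have Q' := Q.map hφ
  have T' := T.map hφ
  rw [hrange] at L' Q' T'
  exact exists_a_of ⟨tt, tK, comm, cen⟩ L' Q' T' hx xz

/-- **the row from the packets** -/
theorem row_of_packets {B : Subgroup RuOrder.H} {k u ρ g j e₀ e₁ g₂ eb j₂ x₂ h f k₂ k₃ v f₂ : RuOrder.H}
    (L : Loc (⊤ : Subgroup RuOrder.H) (S * S) P1 XR.R B XR.E)
    (Q : Plane (⊤ : Subgroup RuOrder.H) (S * S) P1 XR.R B XR.E k u ρ g j e₀ e₁ g₂ eb j₂ x₂ h f)
    (T : Twist (⊤ : Subgroup RuOrder.H) (S * S) P1 k₂ k₃ v f₂) : Rows.Row.{u} (fun K _ => Spor.IsoRu K) :=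
  row_of (r1_of L Q T) r3

end Cfsg.Agent.OddHalf.D8.RowRu
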