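import Cfsg.Agent.OddHalf.D8.MainE
import Cfsg.Agent.KFacts.SuzSheetE

/-!
# ODD half, D8: the row of the Suzuki group
-/

set_option autoImplicit false

namespace Cfsg.Agent.OddHalf.D8.RowSuz

universe u

/-- **the row K = Suz of D8** -/
theorem row (hF : MainE.FrontOuter.{u}) (hM : MainE.NoComponent.{u}) :
    Rows.Row.{u} (fun K _ => Spor.IsoSuz K) :=
  MainE.row hF hM fun _ _ _ h => KFacts.SuzSheetE.sheetE_of_iso h

end Cfsg.Agent.OddHalf.D8.RowSuz
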