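import Cfsg.Agent.OddHalf.D8.Rows
import Cfsg.Agent.OddHalf.Front.FE
import Cfsg.Agent.OddHalf.D6.Harada
import Cfsg.Agent.S0215
import Cfsg.Agent.S1180

/-!
# `K` simple, complete, with a self-centralising four-group (helper652)

`Start K t q`, every automorphism of `K` inner, `Z(C_K(k))` of exponent 2 for all involutions `k` of `K`, and a
four-group `V ≤ K` with `C_K(V) = V`. Then `K` is no standard component of a group of sectional 2-rank at least 5.
Used for `K = M₁₁`.
-/

set_option autoImplicit false

namespace Cfsg.Agent.OddHalf.D8.SelfFour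

open Subgroup Cfsg Cfsg.Agent.OddHalf.Iface Cfsg.Agent.OddHalf.Front.FE

universe u

variable {G : Type u} [Group G] {K : Subgroup G} {t q : G}

/-- all automorphisms inner: `C(t) = K Q` -/
theorem exists_mul (h : Start0 K t q) (hin : ∀ a : MulAut ↥K, ∃ g : ↥K, a = MulAut.conj g) {c : G}
    (hc : c * t = t * c) : ∃ k ∈ K, ∃ y ∈ zpowers q, c = k * y := by
  have hcK := h.nK c hc
  obtain ⟨g, hg⟩ := hin (K.normalizerMonoidHom ⟨c, hcK⟩)
  have hg' : ∀ x ∈ K, c * x * c⁻¹ = (g : G) * x * (g : G)⁻¹ := by
    intro x hx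
    have h1 : ((K.normalizerMonoidHom ⟨c, hcK⟩ (⟨x, hx⟩ : ↥K) : ↥K) : G) =
      ((MulAut.conj g (⟨x, hx⟩ : ↥K) : ↥K) : G) := by rw [hg]
    exact h1
  refine ⟨g, g.2, (g : G)⁻¹ * c, ?_, by group⟩
  have hgt : (g : G) * t = t * g := h.Kt g g.2
  refine h.cK _ ?_ ?_
  · calc (g : G)⁻¹ * c * t = (g : G)⁻¹ * (c * t) := by group
      _ = (g : G)⁻¹ * (t * g) * (g : G)⁻¹ * c := by rw [hc]; group
      _ = t * ((g : G)⁻¹ * c) := by rw [← hgt]; group
  · intro x hx
    have h1 := hg' x hx
    have h2 : c * x = (g : G) * x * (g : G)⁻¹ * c := by rw [← h1]; group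
    calc x * ((g : G)⁻¹ * c) = (g : G)⁻¹ * ((g : G) * x * (g : G)⁻¹ * c) := by group
      _ = (g : G)⁻¹ * c * x := by rw [← h2]; group

/-- an involution of `C(t)` is `k` or `k t` with `k² = 1` -/
theorem invol (h : Start K t q) [Finite G] (hin : ∀ a : MulAut ↥K, ∃ g : ↥K, a = MulAut.conj g) {u : G}
    (hu : u * t = t * u) (huu : u * u = 1) : ∃ k ∈ K, k * k = 1 ∧ (u = k ∨ u = k * t) := by
  obtain ⟨k, hk, y, hy, rfl⟩ := exists_mul h.toStart0 hin hu
  have hky : k * y = y * k := h.QK y hy k hk
  have h1 : k * k * (y * y) = 1 := by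
    rw [← huu]
    calc k * k * (y * y) = k * (k * y) * y := by group
      _ = k * (y * k) * y := by rw [hky]
      _ = k * y * (k * y) := by group
  have h2 : k * k = (y * y)⁻¹ := eq_inv_of_mul_eq_one_left h1
  have h3 : k * k = 1 := by
    refine h.cen _ (K.mul_mem hk hk) fun x hx => ?_
    have h4 : (y * y)⁻¹ ∈ zpowers q := inv_mem (mul_mem hy hy)
    rw [h2]
    exact h.QK _ h4 x hx
  have h5 : y * y = 1 := by rw [h3, one_mul] at h1; exact h1
  refine ⟨k, hk, h3, ?_⟩
  by_cases hy1 : y = 1
  · left; rw [hy1, mul_one]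
  · right; rw [h.uniq hy h5 hy1]

/-- `|Q| ≥ 4`: `t` commutes with no other conjugate -/
theorem isolated [Finite G] (h : Start K t q) (hin : ∀ a : MulAut ↥K, ∃ g : ↥K, a = MulAut.conj g)
    (hZ : ∀ k ∈ K, k * k = 1 → k ≠ 1 → ∀ x ∈ K, x * k = k * x →
      (∀ y ∈ K, y * k = k * y → y * x = x * y) → x * x = 1)
    (hq : q * q ≠ 1) (g : G) (hg : t * (g * t * g⁻¹) = g * t * g⁻¹ * t) : g * t * g⁻¹ = t := by
  by_contra hne
  set u := g * t * g⁻¹ with hu
  set v := g⁻¹ * t * g with hv
  have hti : t⁻¹ = t := inv_eq_of_mul_eq_one_left h.tt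
  have huu : u * u = 1 := by
    rw [hu]
    calc g * t * g⁻¹ * (g * t * g⁻¹) = g * (t * t) * g⁻¹ := by group
      _ = 1 := by rw [h.tt]; group
  have hvv : v * v = 1 := by
    rw [hv]
    calc g⁻¹ * t * g * (g⁻¹ * t * g) = g⁻¹ * (t * t) * g := by group
      _ = 1 := by rw [h.tt]; group
  have hv1 : v ≠ 1 := by
    intro h1
    apply h.t1
    have : t = g * v * g⁻¹ := by rw [hv]; group
    rw [this, h1]; group
  have hvt' : v ≠ t := by
    intro h1
    apply hne
    have : t = g * v * g⁻¹ := by rw [hv]; group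
    rw [hu]
    rw [h1] at this
    exact this.symm
  have hvt : v * t = t * v := by
    have : g * (v * t) * g⁻¹ = g * (t * v) * g⁻¹ := by
      calc g * (v * t) * g⁻¹ = t * u := by rw [hv, hu]; group
        _ = u * t := hg
        _ = g * (t * v) * g⁻¹ := by rw [hv, hu]; group
    exact mul_left_cancel (mul_right_cancel this)
  -- `q` commutes with `u`
  have hqu : q * u = u * q := by
    obtain ⟨k, hk, _, h1 | h1⟩ := invol h hin hg.symm huu
    · rw [h1]; exact (h.qK k hk).symm
    · rw [h1]
      have h2 := h.qK k hk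
      have h3 := h.Qt q (mem_zpowers q)
      calc q * (k * t) = (q * k) * t := by group
        _ = k * (q * t) := by rw [← h2]; group
        _ = k * t * q := by rw [h3]; group
  set w := g⁻¹ * q * g with hw
  have hwt : w * t = t * w := by
    have : g * (w * t) * g⁻¹ = g * (t * w) * g⁻¹ := by
      calc g * (w * t) * g⁻¹ = q * u := by rw [hw, hu]; group
        _ = u * q := hqu
        _ = g * (t * w) * g⁻¹ := by rw [hw, hu]; group
    exact mul_left_cancel (mul_right_cancel this)
  have hwv : w * v = v * w := by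
    have h3 := h.Qt q (mem_zpowers q)
    rw [hw, hv]
    calc g⁻¹ * q * g * (g⁻¹ * t * g) = g⁻¹ * (q * t) * g := by group
      _ = g⁻¹ * (t * q) * g := by rw [h3]
      _ = g⁻¹ * t * g * (g⁻¹ * q * g) := by group
  obtain ⟨l, hl, hll, hvl⟩ := invol h hin hvt hvv
  have hl1 : l ≠ 1 := by
    rintro rfl
    rcases hvl with h1 | h1
    · exact hv1 h1
    · exact hvt' (by rw [h1, one_mul])
  -- commuting with `v` and `t` is commuting with `l` and `t`
  have hlv : ∀ x : G, x * t = t * x → (x * v = v * x ↔ x * l = l * x) := by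
    intro x hx
    rcases hvl with h1 | h1
    · rw [h1]
    · rw [h1]
      constructor
      · intro h2
        have : x * l * t = l * x * t := by
          calc x * l * t = x * (l * t) := by group
            _ = l * (t * x) := by rw [h2]; group
            _ = l * x * t := by rw [← hx]; group
        exact mul_right_cancel this
      · intro h2
        calc x * (l * t) = (x * l) * t := by group
          _ = l * (x * t) := by rw [h2]; group
          _ = l * t * x := by rw [hx]; group
  obtain ⟨k', hk', y', hy', hwk⟩ := exists_mul h.toStart0 hin hwt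
  -- `w` commutes with everything in `C(t) ∩ C(v)`
  have hwX : ∀ x : G, x * t = t * x → x * v = v * x → x * w = w * x := by
    intro x hxt hxv
    have h1 : (g * x * g⁻¹) * t = t * (g * x * g⁻¹) := by
      calc g * x * g⁻¹ * t = g * (x * v) * g⁻¹ := by rw [hv]; group
        _ = g * (v * x) * g⁻¹ := by rw [hxv]
        _ = t * (g * x * g⁻¹) := by rw [hv]; group
    have h2 : (g * x * g⁻¹) * q = q * (g * x * g⁻¹) := by
      obtain ⟨k, hk, y, hy, h3⟩ := exists_mul h.toStart0 hin h1
      have h4 : y * q = q * y := by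
        obtain ⟨a, rfl⟩ := mem_zpowers_iff.1 hy
        exact (Commute.refl q).zpow_left a
      rw [h3]
      calc k * y * q = k * (y * q) := by group
        _ = k * q * y := by rw [h4]; group
        _ = q * (k * y) := by rw [h.qK k hk]; group
    calc x * w = g⁻¹ * ((g * x * g⁻¹) * q) * g := by rw [hw]; group
      _ = w * x := by rw [h2, hw]; group
  have hyK : ∀ x ∈ K, x * y' = y' * x := fun x hx => h.QK y' hy' x hx
  have hk'2 : k' * k' = 1 := by
    refine hZ l hl hll hl1 k' hk' ?_ ?_
    · have h1 : w * l = l * w := (hlv w hwt).1 hwv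
      rw [hwk] at h1
      have h2 : k' * l * y' = l * k' * y' := by
        calc k' * l * y' = k' * (l * y') := by group
          _ = k' * y' * l := by rw [hyK l hl]; group
          _ = l * k' * y' := by rw [h1]; group
      exact mul_right_cancel h2
    · intro y hy hyl
      have hyt := h.Kt y hy
      have h1 := hwX y hyt ((hlv y hyt).2 hyl)
      rw [hwk] at h1
      have h2 : y * k' * y' = k' * y * y' := by
        calc y * k' * y' = y * (k' * y') := by group
          _ = k' * (y' * y) := by rw [h1]; group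
          _ = k' * y * y' := by rw [← hyK y hy]; group
      exact mul_right_cancel h2
  have hww : w * w = y' * y' := by
    rw [hwk]
    calc k' * y' * (k' * y') = k' * (y' * k') * y' := by group
      _ = (k' * k') * (y' * y') := by rw [← hyK k' hk']; group
      _ = y' * y' := by rw [hk'2, one_mul]
  -- `t` is a power of `q²`
  have hpq : IsPGroup 2 ↥(zpowers (q * q)) := h.pQ.to_le (zpowers_le.2 (mul_mem (mem_zpowers q) (mem_zpowers q)))
  obtain ⟨t', ht', htt', ht1'⟩ := exists_involution hq hpq
  have ht'q : t' ∈ zpowers q := (zpowers_le.2 (mul_mem (mem_zpowers q) (mem_zpowers q))) ht'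
  have ht't : t' = t := h.uniq ht'q htt' ht1'
  rw [ht't] at ht'
  obtain ⟨n, hn⟩ := mem_zpowers_iff.1 ht'
  have hvn : v = (w * w) ^ n := by
    rw [hv, ← hn, hw]
    have h1 : g⁻¹ * q * g * (g⁻¹ * q * g) = g⁻¹ * (q * q) * g := by group
    rw [h1]
    have := conj_zpow (i := n) (a := g⁻¹) (b := q * q)
    rw [inv_inv] at this
    exact this.symm
  have hvQ : v ∈ zpowers q := by
    rw [hvn, hww]
    exact zpow_mem (mul_mem hy' hy') n
  exact hvt' (h.uniq hvQ hvv hv1)

/-- Z*-theorem: a simple group has no isolated involution -/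
theorem false_of_isolated [Finite G] [IsSimpleGroup G] (hna : ¬ IsMulCommutative G) {t : G}
    (htt : t * t = 1) (ht1 : t ≠ 1)
    (hiso : ∀ g : G, t * (g * t * g⁻¹) = g * t * g⁻¹ * t → g * t * g⁻¹ = t) : False := by
  have : Fact (Nat.Prime 2) := ⟨Nat.prime_two⟩
  have hz : orderOf t = 2 := orderOf_eq_prime (by rw [pow_two, htt]) ht1
  have hiso' : Cfsg.IsIsolatedInvolution t := ⟨hz, fun g hg => hiso g hg⟩
  have hp : IsPGroup 2 (zpowers t) := by
    rw [IsPGroup.iff_card]
    exact ⟨1, by rw [Nat.card_zpowers, hz, pow_one]⟩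
  obtain ⟨P, hP⟩ := hp.exists_le_sylow
  have hzP : t ∈ P := hP (mem_zpowers t)
  obtain ⟨N, hN, hodd, hcomm⟩ := Cfsg.Agent.S0215.result P t hz hzP fun g hg =>
    Cfsg.Agent.S1180.eq_of_conj_mem_isPGroup t hiso' (P : Subgroup G) P.isPGroup' hzP g hg
  rcases hN.eq_bot_or_eq_top with h1 | h1
  · have hc : t ∈ center G := mem_center_iff.2 fun g => by
      have h2 := hcomm g
      rw [h1, mem_bot, mul_inv_eq_one, mul_inv_eq_iff_eq_mul] at h2
      exact h2.symm
    rcases (inferInstance : (center G).Normal).eq_bot_or_eq_top with h3 | h3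
    · rw [h3, mem_bot] at hc
      exact ht1 hc
    · apply hna
      refine ⟨⟨fun a b => ?_⟩⟩
      have : b ∈ center G := h3 ▸ mem_top b
      exact mem_center_iff.1 this a
  · have h2 : Nat.card N = Nat.card G := by rw [h1]; exact card_top
    rw [h2] at hodd
    have h3 : 2 ∣ Nat.card G := hz ▸ orderOf_dvd_natCard t
    exact (Nat.not_even_iff_odd.2 hodd) (even_iff_two_dvd.2 h3)

/-- `|Q| = 2` and a self-centralising four-group: sectional 2-rank at most 4 -/
theorem rank4 [Finite G] (h : Start K t q) (hin : ∀ a : MulAut ↥K, ∃ g : ↥K, a = MulAut.conj g)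
    (hq : q * q = 1) {a b : G} (ha : a ∈ K) (hb : b ∈ K) (haa : a * a = 1) (hbb : b * b = 1)
    (ha1 : a ≠ 1) (hb1 : b ≠ 1) (hab : a ≠ b) (hcab : a * b = b * a)
    (hC : ∀ x ∈ K, x * a = a * x → x * b = b * x → x = 1 ∨ x = a ∨ x = b ∨ x = a * b) :
    SectionalPRankLE 2 4 G := by
  classical
  have hq1 : q ≠ 1 := by
    rintro rfl
    have := h.tQ
    rw [zpowers_one_eq_bot, mem_bot] at this
    exact h.t1 this
  have hqt : q = t := h.uniq (mem_zpowers q) hq hq1
  have hQ : ∀ y ∈ zpowers q, y = 1 ∨ y = t := by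
    intro y hy
    by_cases h1 : y = 1
    · exact Or.inl h1
    · right
      refine h.uniq hy ?_ h1
      obtain ⟨n, rfl⟩ := mem_zpowers_iff.1 hy
      rw [← (Commute.refl q).mul_zpow n, hq, one_zpow]
  have hat := h.Kt a ha
  have hbt := h.Kt b hb
  set E : Subgroup G := centralizer ({t, a, b} : Set G) with hE
  have hmem : ∀ c : G, c ∈ E ↔ c * t = t * c ∧ c * a = a * c ∧ c * b = b * c := by
    intro c
    rw [hE, mem_centralizer_iff]
    simp only [Set.mem_insert_iff, Set.mem_singleton_iff, forall_eq_or_imp, forall_eq]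
    exact ⟨fun h => ⟨h.1.symm, h.2.1.symm, h.2.2.symm⟩, fun h => ⟨h.1.symm, h.2.1.symm, h.2.2.symm⟩⟩
  have hlist : ∀ c ∈ E, c = 1 ∨ c = a ∨ c = b ∨ c = a * b ∨ c = t ∨ c = a * t ∨ c = b * t ∨
      c = a * b * t := by
    intro c hc
    obtain ⟨h1, h2, h3⟩ := (hmem c).1 hc
    obtain ⟨k, hk, y, hy, rfl⟩ := exists_mul h.toStart0 hin h1
    have hyK : ∀ x ∈ K, x * y = y * x := fun x hx => h.QK y hy x hx
    have h4 : ∀ x ∈ K, k * y * x = x * (k * y) → k * x = x * k := by
      intro x hx h5
      have : k * x * y = x * k * y := by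
        calc k * x * y = k * (x * y) := by group
          _ = k * y * x := by rw [hyK x hx]; group
          _ = x * k * y := by rw [h5]; group
      exact mul_right_cancel this
    have h5 := hC k hk (h4 a ha h2) (h4 b hb h3)
    rcases hQ y hy with rfl | rfl
    · rw [mul_one]; tauto
    · rcases h5 with rfl | rfl | rfl | rfl
      · simp
      all_goals tauto
  have h1E : ∀ c ∈ E, ∀ d ∈ E, c * d = d * c := by
    intro c hc d hd
    obtain ⟨d1, d2, d3⟩ := (hmem d).1 hd
    have d4 : d * (a * b) = a * b * d := by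
      calc d * (a * b) = (d * a) * b := by group
        _ = a * (d * b) := by rw [d2]; group
        _ = a * b * d := by rw [d3]; group
    rcases hlist c hc with rfl | rfl | rfl | rfl | rfl | rfl | rfl | rfl
    · rw [one_mul, mul_one]
    · exact d2.symm
    · exact d3.symm
    · exact d4.symm
    · exact d1.symm
    · calc a * t * d = a * (t * d) := by group
        _ = a * d * t := by rw [← d1]; group
        _ = d * (a * t) := by rw [← d2]; group
    · calc b * t * d = b * (t * d) := by group
        _ = b * d * t := by rw [← d1]; group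
        _ = d * (b * t) := by rw [← d3]; group
    · calc a * b * t * d = a * b * (t * d) := by group
        _ = a * b * d * t := by rw [← d1]; group
        _ = d * (a * b * t) := by rw [← d4]; group
  have habab : a * b * (a * b) = 1 := by
    calc a * b * (a * b) = a * (b * a) * b := by group
      _ = (a * a) * (b * b) := by rw [← hcab]; group
      _ = 1 := by rw [haa, hbb, one_mul]
  have h2t : ∀ x : G, x * t = t * x → x * x = 1 → x * t * (x * t) = 1 := by
    intro x hx hxx
    calc x * t * (x * t) = x * (t * x) * t := by group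
      _ = (x * x) * (t * t) := by rw [← hx]; group
      _ = 1 := by rw [hxx, h.tt, one_mul]
  have h2E : ∀ c ∈ E, c * c = 1 := by
    intro c hc
    rcases hlist c hc with rfl | rfl | rfl | rfl | rfl | rfl | rfl | rfl
    · rw [one_mul]
    · exact haa
    · exact hbb
    · exact habab
    · exact h.tt
    · exact h2t _ hat haa
    · exact h2t _ hbt hbb
    · exact h2t _ (h.Kt _ (K.mul_mem ha hb)) habab
  have haE : a ∈ E := (hmem a).2 ⟨hat, rfl, hcab⟩
  have hbE : b ∈ E := (hmem b).2 ⟨hbt, hcab.symm, rfl⟩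
  have htE : t ∈ E := (hmem t).2 ⟨rfl, hat.symm, hbt.symm⟩
  have hEp : IsPGroup 2 ↥E := by
    rintro ⟨c, hc⟩
    refine ⟨1, Subtype.ext ?_⟩
    show c ^ 2 ^ 1 = 1
    rw [pow_one, pow_two]; exact h2E c hc
  have htK : t ∉ K := by
    intro h1
    exact h.t1 (h.cen t h1 fun y hy => h.Kt y hy)
  have hab1 : a * b ≠ 1 := by
    intro h1
    apply hab
    have : a = b⁻¹ := eq_inv_of_mul_eq_one_left h1
    rw [this]; exact inv_eq_of_mul_eq_one_left hbb
  have hle : Nat.card E ≤ 8 := by
    have : (E : Set G) ⊆ (({1, a, b, a * b, t, a * t, b * t, a * b * t} : Finset G) : Set G) := by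
      intro c hc
      simp only [Finset.coe_insert, Finset.coe_singleton, Set.mem_insert_iff, Set.mem_singleton_iff]
      exact hlist c hc
    have h1 := Set.ncard_le_ncard this (Finset.finite_toSet _)
    rw [Set.ncard_coe_finset] at h1
    have h2 : ({1, a, b, a * b, t, a * t, b * t, a * b * t} : Finset G).card ≤ 8 :=
      (Finset.card_insert_le _ _).trans (Nat.succ_le_succ
        ((Finset.card_insert_le _ _).trans (Nat.succ_le_succ Finset.card_le_six)))
    exact h1.trans h2
  have hge : 5 ≤ Nat.card E := by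
    have hsub : (({1, a, b, a * b, t} : Finset G) : Set G) ⊆ (E : Set G) := by
      intro c hc
      simp only [Finset.coe_insert, Finset.coe_singleton, Set.mem_insert_iff,
        Set.mem_singleton_iff] at hc
      rcases hc with rfl | rfl | rfl | rfl | rfl
      · exact one_mem E
      · exact haE
      · exact hbE
      · exact mul_mem haE hbE
      · exact htE
    have h1 := Set.ncard_le_ncard hsub (Set.toFinite _)
    rw [Set.ncard_coe_finset] at h1
    have h2 : ({1, a, b, a * b, t} : Finset G).card = 5 := by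
      have hta : t ≠ a := fun h1 => htK (h1 ▸ ha)
      have htb : t ≠ b := fun h1 => htK (h1 ▸ hb)
      have htab : t ≠ a * b := fun h1 => htK (h1 ▸ K.mul_mem ha hb)
      rw [Finset.card_insert_of_notMem, Finset.card_insert_of_notMem, Finset.card_insert_of_notMem,
        Finset.card_insert_of_notMem, Finset.card_singleton]
      · rw [Finset.mem_singleton]; exact htab.symm
      · rw [Finset.mem_insert, Finset.mem_singleton]
        rintro (h1 | h1)
        · exact ha1 (mul_eq_right.1 h1.symm)
        · exact htb h1.symm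
      · rw [Finset.mem_insert, Finset.mem_insert, Finset.mem_singleton]
        rintro (h1 | h1 | h1)
        · exact hab h1
        · exact hb1 (mul_eq_left.1 h1.symm)
        · exact hta h1.symm
      · rw [Finset.mem_insert, Finset.mem_insert, Finset.mem_insert, Finset.mem_singleton]
        rintro (h1 | h1 | h1 | h1)
        · exact ha1 h1.symm
        · exact hb1 h1.symm
        · exact hab1 h1.symm
        · exact h.t1 h1.symm
    rw [h2] at h1
    exact h1
  have h8 : Nat.card E = 8 := by
    obtain ⟨n, hn⟩ := IsPGroup.iff_card.1 hEp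
    rw [hn] at hle hge ⊢
    have h1 : n < 4 := by
      by_contra h2
      have : 2 ^ 4 ≤ 2 ^ n := Nat.pow_le_pow_right two_pos (not_lt.1 h2)
      omega
    have h2 : 2 < n := by
      by_contra h2
      have : 2 ^ n ≤ 2 ^ 2 := Nat.pow_le_pow_right two_pos (not_lt.1 h2)
      omega
    have h3 : n = 3 := by omega
    rw [h3]; norm_num
  obtain ⟨S, hS⟩ := hEp.exists_le_sylow
  refine D6.Harada.rank_of_self S E hS h1E h2E h8 fun s _ hs => ?_
  exact (hmem s).2 ⟨hs t htE, hs a haE, hs b hbE⟩

end Cfsg.Agent.OddHalf.D8.SelfFour
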